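import Groth.Agent.QuadGrp.K917.SplitForm
import Mathlib.FieldTheory.IsAlgClosed.Basic
import Mathlib.LinearAlgebra.FiniteDimensional.Lemmas

/-!
# Quadratic forms with zero radical over an algebraically closed field are split
-/

set_option autoImplicit false
set_option linter.deprecated false
set_option linter.unusedSectionVars false

universe u v w u' v' w'

open TensorProduct QuadGrp QuadraticMap

namespace K917.Split

section Def

variable {R : Type u} [CommRing R] {M : Type v} [AddCommGroup M] [Module R M]

/-- `c` is a basis in which `Q` is the standard split form. -/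
def IsSplitBasis {n : ℕ} (c : Module.Basis (Fin n) R M) (Q : QuadraticForm R M) : Prop :=
  ∀ x : Fin n → R, Q (∑ i, x i • c i) = splitForm R n x

theorem IsSplitBasis.coeffs_eq {n : ℕ} {c : Module.Basis (Fin n) R M} {Q : QuadraticForm R M}
    (h : IsSplitBasis c Q) :
    coeffs c (LinearEquiv.refl R R) Q = coeffs (Pi.basisFun R (Fin n)) (LinearEquiv.refl R R) (splitForm R n) := by
  have : Q.comp (c.equivFun.symm.toLinearMap) = splitForm R n := by
    ext x
    rw [QuadraticMap.comp_apply]
    change Q (c.equivFun.symm x) = _
    rw [Module.Basis.equivFun_symm_apply, h x]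
  rw [← this, Base.coeffs_comp (Pi.basisFun R (Fin n)) c]
  intro i
  change c.equivFun.symm (Pi.basisFun R (Fin n) i) = c i
  rw [Pi.basisFun_apply, Module.Basis.equivFun_symm_apply]
  simp [Pi.single_apply]

theorem isSplitBasis_iff {n : ℕ} {c : Module.Basis (Fin n) R M} {Q : QuadraticForm R M} :
    IsSplitBasis c Q ↔ coeffs c (LinearEquiv.refl R R) Q =
      coeffs (Pi.basisFun R (Fin n)) (LinearEquiv.refl R R) (splitForm R n) := by
  refine ⟨fun h => h.coeffs_eq, fun h x => ?_⟩
  rw [Base.apply_sum, h, ← Base.apply_sum]
  congr 1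
  funext j; simp [Pi.basisFun_apply, Finset.sum_apply, Pi.single_apply]

/-- A split basis gives an isometry with the standard split form. -/
noncomputable def IsSplitBasis.isometryEquiv {n : ℕ} {c : Module.Basis (Fin n) R M} {Q : QuadraticForm R M}
    (h : IsSplitBasis c Q) : Q.IsometryEquiv (splitForm R n) :=
  Base.isometryOfCoeffs c (Pi.basisFun R (Fin n)) (LinearEquiv.refl R R) Q (splitForm R n) h.coeffs_eq

end Def

section Field

variable {K : Type u} [Field K]

theorem polar_self' {R : Type u} [CommRing R] {M : Type v} [AddCommGroup M] [Module R M]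
    (Q : QuadraticForm R M) (v : M) : polar Q v v = 2 * Q v := by
  rw [polar_self, two_smul, two_mul]

/-- A hyperbolic pair exists as soon as the dimension is at least two and the radical is zero. -/
theorem exists_hyperbolic [IsAlgClosed K] {V : Type v} [AddCommGroup V] [Module K V]
    (Q : QuadraticForm K V) (hQ : ∀ v, Q v = 0 → (∀ w, polar Q v w = 0) → v = 0)
    (x y : V) (hxy : LinearIndependent K ![x, y]) :
    ∃ v w, Q v = 0 ∧ Q w = 0 ∧ polar Q v w = 1 := by
  have hx : x ≠ 0 := by simpa using hxy.ne_zero 0
  obtain ⟨v, hv0, hv⟩ : ∃ v, v ≠ 0 ∧ Q v = 0 := by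
    by_cases hQx : Q x = 0
    · exact ⟨x, hx, hQx⟩
    · -- root of `Q(x) t² + B(x,y) t + Q(y)`
      obtain ⟨t, ht⟩ : ∃ t : K, Q x * (t * t) + polar Q x y * t + Q y = 0 := by
        have hdeg : (Polynomial.C (Q x) * Polynomial.X ^ 2 + Polynomial.C (polar Q x y) * Polynomial.X +
            Polynomial.C (Q y) : Polynomial K).degree ≠ 0 := by
          rw [Polynomial.degree_quadratic hQx]; decide
        obtain ⟨t, ht⟩ := IsAlgClosed.exists_root _ hdeg
        refine ⟨t, ?_⟩
        have := ht
        simp only [Polynomial.IsRoot.def, Polynomial.eval_add, Polynomial.eval_mul, Polynomial.eval_C,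
          Polynomial.eval_pow, Polynomial.eval_X] at this
        rw [← this]; ring
      refine ⟨t • x + y, fun h => ?_, ?_⟩
      · have := LinearIndependent.pair_iff.mp hxy t 1 (by rw [one_smul]; exact h)
        exact one_ne_zero this.2
      · have h1 : Q (t • x + y) = Q (t • x) + Q y + polar Q (t • x) y := by
          rw [polar]; ring
        rw [h1, QuadraticMap.map_smul, polar_smul_left, ← ht, smul_eq_mul, smul_eq_mul]; ring
  obtain ⟨w₀, hw₀⟩ : ∃ w, polar Q v w ≠ 0 := by
    by_contra hcon
    push Not at hcon
    exact hv0 (hQ v hv hcon)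
  obtain ⟨w₁, hvw₁⟩ : ∃ w₁, polar Q v w₁ = 1 := ⟨(polar Q v w₀)⁻¹ • w₀, by
    rw [polar_smul_right, smul_eq_mul, inv_mul_cancel₀ hw₀]⟩
  refine ⟨v, w₁ - Q w₁ • v, hv, ?_, ?_⟩
  · have h1 : Q (w₁ + (-Q w₁) • v) = Q w₁ + Q ((-Q w₁) • v) + polar Q w₁ ((-Q w₁) • v) := by
      rw [polar]; ring
    rw [sub_eq_add_neg, ← neg_smul, h1, QuadraticMap.map_smul, hv, polar_smul_right, polar_comm, hvw₁]
    simp
  · rw [sub_eq_add_neg, ← neg_smul, polar_add_right, polar_smul_right, polar_self', hv, hvw₁]
    simp

theorem polar_add_left' {R : Type u} [CommRing R] {M : Type v} [AddCommGroup M] [Module R M]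
    (Q : QuadraticForm R M) (x y : M) : Q (x + y) = Q x + Q y + polar Q x y := by
  rw [polar]; ring

/-- Over an algebraically closed field a quadratic form with zero radical is split. -/
theorem exists_isSplitBasis [IsAlgClosed K] : ∀ (n : ℕ) {V : Type v} [AddCommGroup V] [Module K V]
    [FiniteDimensional K V], Module.finrank K V = n → ∀ (Q : QuadraticForm K V),
    (∀ v, Q v = 0 → (∀ w, polar Q v w = 0) → v = 0) → ∃ c : Module.Basis (Fin n) K V, IsSplitBasis c Q
  | 0, V, _, _, _, hV, Q, _ => by
      refine ⟨Module.finBasisOfFinrankEq K V hV, fun x => ?_⟩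
      rw [splitForm_zero]; simp
  | 1, V, _, _, _, hV, Q, hQ => by
      obtain ⟨v, hv0, hv⟩ := finrank_eq_one_iff'.mp hV
      have hQv : Q v ≠ 0 := by
        intro h
        refine hv0 (hQ v h fun w => ?_)
        obtain ⟨c, rfl⟩ := hv w
        rw [polar_smul_right, polar_self', h]; simp
      obtain ⟨s, hs⟩ := IsAlgClosed.exists_pow_nat_eq (Q v)⁻¹ (n := 2) (by norm_num)
      have hs0 : s ≠ 0 := by
        intro h; rw [h] at hs; simp at hs; exact hQv hs.symm
      have hsv0 : s • v ≠ 0 := smul_ne_zero hs0 hv0
      let c : Module.Basis (Fin 1) K V := (Module.basisUnique (Fin 1) hV)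
      refine ⟨Module.Basis.mk (v := fun _ : Fin 1 => s • v) ?_ ?_, fun x => ?_⟩
      · exact LinearIndependent.of_subsingleton 0 hsv0
      · rw [Set.range_const]
        intro w _
        obtain ⟨a, ha⟩ := hv w
        rw [Submodule.mem_span_singleton]
        exact ⟨a * s⁻¹, by rw [smul_smul, mul_assoc, inv_mul_cancel₀ hs0, mul_one]; exact ha⟩
      · rw [splitForm_one]
        simp only [Finset.univ_unique, Finset.sum_singleton, Module.Basis.coe_mk, Fin.default_eq_zero]
        rw [QuadraticMap.map_smul, QuadraticMap.map_smul, ← _root_.sq s, hs]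
        simp [hQv]
  | (n + 2), V, _, _, _, hV, Q, hQ => by
      obtain ⟨b⟩ : Nonempty (Module.Basis (Fin (n + 2)) K V) := ⟨Module.finBasisOfFinrankEq K V hV⟩
      have hli : LinearIndependent K ![b 0, b 1] := by
        have := b.linearIndependent.comp ![0, 1] (by
          intro i j h
          fin_cases i <;> fin_cases j <;> simp_all)
        convert this using 1
        funext i; fin_cases i <;> rfl
      obtain ⟨v, w, hv, hw, hvw⟩ := exists_hyperbolic Q hQ _ _ hli
      have hvv : polar Q v v = 0 := by rw [polar_self', hv, mul_zero]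
      have hww : polar Q w w = 0 := by rw [polar_self', hw, mul_zero]
      have hwv : polar Q w v = 1 := by rw [polar_comm, hvw]
      let f : V →ₗ[K] K × K := (polarBilin Q v).prod (polarBilin Q w)
      have hf : ∀ u, f u = (polar Q v u, polar Q w u) := fun u => rfl
      have hfs : Function.Surjective f := by
        rintro ⟨a, b⟩
        refine ⟨a • w + b • v, ?_⟩
        rw [hf, polar_add_right, polar_add_right, polar_smul_right, polar_smul_right, polar_smul_right,
          polar_smul_right, hvw, hvv, hww, hwv]
        simp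
      have hrank : Module.finrank K (LinearMap.ker f) = n := by
        have h1 := LinearMap.finrank_range_add_finrank_ker f
        rw [LinearMap.range_eq_top.mpr hfs, finrank_top, Module.finrank_prod, Module.finrank_self, hV] at h1
        omega
      have hmem : ∀ u : LinearMap.ker f, polar Q v u = 0 ∧ polar Q w u = 0 := fun u => by
        have := LinearMap.mem_ker.mp u.2
        rw [hf] at this
        exact Prod.mk_eq_zero.mp this
      have hdec : ∀ u : V, u - polar Q w u • v - polar Q v u • w ∈ LinearMap.ker f := fun u => by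
        rw [LinearMap.mem_ker, hf, polar_sub_right, polar_sub_right, polar_sub_right, polar_sub_right,
          polar_smul_right, polar_smul_right, polar_smul_right, polar_smul_right, hvv, hvw, hwv, hww]
        simp
      let Q' : QuadraticForm K (LinearMap.ker f) := Q.comp (LinearMap.ker f).subtype
      have hQ'pol : ∀ a b, polar Q' a b = polar Q (a : V) (b : V) := fun a b => rfl
      have hQ' : ∀ u, Q' u = 0 → (∀ u', polar Q' u u' = 0) → u = 0 := by
        intro u hu hpu
        have : (u : V) = 0 := by
          refine hQ u hu fun z => ?_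
          have h1 : polar Q (u : V) (z - polar Q w z • v - polar Q v z • w) = 0 :=
            hpu ⟨_, hdec z⟩
          rw [polar_sub_right, polar_sub_right, polar_smul_right, polar_smul_right, polar_comm Q (u : V) v,
            polar_comm Q (u : V) w, (hmem u).1, (hmem u).2] at h1
          simpa using h1
        exact Subtype.ext this
      obtain ⟨c', hc'⟩ := exists_isSplitBasis n hrank Q' hQ'
      let F : (Fin (n + 2) → K) →ₗ[K] V :=
        (LinearMap.ker f).subtype ∘ₗ c'.equivFun.symm.toLinearMap ∘ₗ LinearMap.funLeft K K (Fin.castAdd 2) +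
          (LinearMap.toSpanSingleton K V v) ∘ₗ LinearMap.proj (Fin.natAdd n 0) +
          (LinearMap.toSpanSingleton K V w) ∘ₗ LinearMap.proj (Fin.natAdd n 1)
      have hF : ∀ x : Fin (n + 2) → K, F x = (c'.equivFun.symm (res x) : V) + x (Fin.natAdd n 0) • v +
          x (Fin.natAdd n 1) • w := fun x => rfl
      have hFs : Function.Surjective F := by
        intro u
        refine ⟨glue (c'.equivFun ⟨_, hdec u⟩) (polar Q w u) (polar Q v u), ?_⟩
        rw [hF, res_glue, glue_zero, glue_one, LinearEquiv.symm_apply_apply]
        simp only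
        abel
      have hFb : Function.Bijective F :=
        ⟨(LinearMap.injective_iff_surjective_of_finrank_eq_finrank
          (by rw [Module.finrank_fin_fun, hV])).mpr hFs, hFs⟩
      let e := LinearEquiv.ofBijective F hFb
      refine ⟨Module.Basis.ofEquivFun e.symm, fun x => ?_⟩
      have hx : ∑ i, x i • (Module.Basis.ofEquivFun e.symm) i = F x := by
        rw [← Module.Basis.equivFun_symm_apply, Module.Basis.equivFun_ofEquivFun, LinearEquiv.symm_symm]
        rfl
      rw [hx, hF, splitForm_succ_succ]
      set u : LinearMap.ker f := c'.equivFun.symm (res x) with hu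
      have hQu : Q (u : V) = splitForm K n (res x) := by
        rw [← hc' (res x), ← Module.Basis.equivFun_symm_apply, ← hu]; rfl
      rw [polar_add_left' Q, polar_add_left' Q, polar_add_left, polar_smul_left,
        polar_smul_right, polar_smul_right, polar_smul_right, QuadraticMap.map_smul, QuadraticMap.map_smul,
        hv, hw, hvw, hQu, polar_comm Q (u : V) v,
        polar_comm Q (u : V) w, (hmem u).1, (hmem u).2]
      simp

end Field

end K917.Split
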