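import Groth.Agent.QuadGrp.K917.Semireg

/-!
# Regular forms have `RegProp`, semiregular forms have `DefProp`; determinants of isometries
-/

set_option autoImplicit false
set_option linter.deprecated false
set_option linter.unusedSectionVars false

universe u v w

open QuadGrp QuadraticMap TensorProduct

namespace K917.Reg

open K917.Coef K917.Deform K917.Cover

section Polar

variable {A : Type u} [CommRing A] {n : ℕ}

/-- the polar matrix -/
noncomputable def pmat (a : Sym2 (Fin n) → A) : Matrix (Fin n) (Fin n) A :=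
  Matrix.of fun i j => polar (qf a) (Pi.single i 1) (Pi.single j 1)

theorem polar_eq (a : Sym2 (Fin n) → A) (x y : Fin n → A) : polar (qf a) x y = x ⬝ᵥ (pmat a).mulVec y := by
  have hx : ∀ x : Fin n → A, x = ∑ i, x i • (Pi.single i 1 : Fin n → A) := fun x => by
    funext j; simp [Finset.sum_apply, Pi.single_apply]
  have h1 : ∀ z : Fin n → A, (qf a).polarBilin x z = ∑ i, x i * (qf a).polarBilin (Pi.single i 1) z := by
    intro z
    conv_lhs => rw [hx x]
    simp only [map_sum, LinearMap.sum_apply, map_smul, LinearMap.smul_apply, smul_eq_mul]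
  have h2 : ∀ z : Fin n → A, (qf a).polarBilin z y = ∑ j, y j * (qf a).polarBilin z (Pi.single j 1) := by
    intro z
    conv_lhs => rw [hx y]
    simp only [map_sum, map_smul, smul_eq_mul]
  rw [← polarBilin_apply_apply, h1, dotProduct]
  refine Finset.sum_congr rfl fun i _ => ?_
  rw [h2, Matrix.mulVec, dotProduct]
  congr 1
  refine Finset.sum_congr rfl fun j _ => ?_
  rw [pmat, Matrix.of_apply, polarBilin_apply_apply, mul_comm]

theorem polar_pull (a : Sym2 (Fin n) → A) (X : Matrix (Fin n) (Fin n) A) (x y : Fin n → A) :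
    polar (qf (pull a X)) x y = polar (qf a) (X.mulVec x) (X.mulVec y) := by
  rw [polar, polar, qf_pull, qf_pull, qf_pull, Matrix.mulVec_add]

theorem pmat_pull (a : Sym2 (Fin n) → A) (X : Matrix (Fin n) (Fin n) A) :
    pmat (pull a X) = X.transpose * pmat a * X := by
  ext i j
  rw [pmat, Matrix.of_apply, polar_pull, polar_eq, Matrix.mulVec_single_one, Matrix.mulVec_single_one,
    Matrix.mul_assoc, Matrix.mul_apply]
  rfl

theorem disc_eq (a : Sym2 (Fin n) → A) :
    disc (Pi.basisFun A (Fin n)) (LinearEquiv.refl A A) (qf a) = (pmat a).det := by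
  rw [Base.disc_eq_det]
  congr 1
  ext i j
  rw [Matrix.of_apply, pmat, Matrix.of_apply, Pi.basisFun_apply, Pi.basisFun_apply]

/-- a bilinear lift as a matrix -/
theorem exists_lift_matrix (b : Sym2 (Fin n) → A) :
    ∃ β : Matrix (Fin n) (Fin n) A, ∀ x, qf b x = x ⬝ᵥ β.mulVec x := by
  refine ⟨Matrix.of fun i j => if i ≤ j then b (Sym2.mk i j) else 0, fun x => ?_⟩
  rw [qf_apply, dotProduct]
  refine Finset.sum_congr rfl fun i _ => ?_
  rw [Matrix.mulVec, dotProduct, Finset.mul_sum]
  refine Finset.sum_congr rfl fun j _ => ?_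
  rw [Matrix.of_apply]
  split_ifs <;> ring

theorem regProp_of_isUnit (a : Sym2 (Fin n) → A) (h : IsUnit (pmat a).det) : RegProp a := by
  intro b
  obtain ⟨β, hβ⟩ := exists_lift_matrix b
  refine ⟨(pmat a)⁻¹ * β, ?_⟩
  rw [qf_ext_iff]
  intro x
  rw [qf_tw, polar_eq, Matrix.mulVec_mulVec, ← Matrix.mul_assoc, Matrix.mul_nonsing_inv _ h, Matrix.one_mul, hβ]

/-- isometries of a regular form have invertible determinant of square one -/
theorem det_sq_of_disc (a : Sym2 (Fin n) → A) (h : IsUnit (pmat a).det) (X : Matrix (Fin n) (Fin n) A)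
    (hX : pull a X = a) : X.det * X.det = 1 := by
  have h1 := congrArg (fun b => (pmat b).det) hX
  simp only [pmat_pull, Matrix.det_mul, Matrix.det_transpose] at h1
  have h2 : (X.det * X.det) * (pmat a).det = 1 * (pmat a).det := by linear_combination h1
  exact h.mul_right_cancel h2

/-- the half-discriminant of a coefficient vector -/
noncomputable abbrev hd (a : Sym2 (Fin n) → A) : A := halfDisc (Pi.basisFun A (Fin n)) (LinearEquiv.refl A A) (qf a)

theorem hd_eq (a : Sym2 (Fin n) → A) : hd a = K918.HalfDisc.hd a := by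
  rw [hd, halfDisc, show coeffs (Pi.basisFun A (Fin n)) (LinearEquiv.refl A A) (qf a) = a from cf_qf _]
  rfl

theorem hd_pull (hn : Odd n) (a : Sym2 (Fin n) → A) (X : Matrix (Fin n) (Fin n) A) :
    hd (pull a X) = X.det ^ 2 * hd a := by
  have h := K918.HalfDisc.halfDisc_comp hn (Pi.basisFun A (Fin n)) (qf a) X.mulVecLin
  have h1 : (qf a).comp X.mulVecLin = qf (pull a X) := by rw [pull, qf_cf]
  have h2 : LinearMap.det X.mulVecLin = X.det := by
    rw [← Matrix.toLin'_apply', LinearMap.det_toLin']
  rw [h1, h2] at h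
  exact h

end Polar

section Scale

variable {A : Type u} [CommRing A] {n : ℕ}

theorem halfDiscUniv_homog (hn : Odd n) (c : A) (a : Sym2 (Fin n) → A) :
    K918.HalfDisc.hd (c • a) = c ^ n * K918.HalfDisc.hd a := by
  -- universal case over a torsion-free ring
  obtain ⟨C, hCd⟩ : ∃ C : MvPolynomial (Option (Sym2 (Fin n))) ℤ, C = MvPolynomial.X none := ⟨_, rfl⟩
  obtain ⟨U, hUd⟩ : ∃ U : Sym2 (Fin n) → MvPolynomial (Option (Sym2 (Fin n))) ℤ,
    U = fun s => MvPolynomial.X (some s) := ⟨_, rfl⟩
  have hP : K918.HalfDisc.hd (C • U) = C ^ n * K918.HalfDisc.hd U := by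
    have h1 := K918.HalfDisc.two_mul_hd hn (C • U)
    have h2 := K918.HalfDisc.two_mul_hd hn U
    have h3 : K918.HalfDisc.pm (C • U) = C • K918.HalfDisc.pm U := by
      ext i j : 2
      rw [Matrix.smul_apply, K918.HalfDisc.pm_apply, K918.HalfDisc.pm_apply]
      split_ifs
      · simp only [Pi.smul_apply, smul_eq_mul]; ring
      · simp only [Pi.smul_apply, smul_eq_mul]
    rw [h3, Matrix.det_smul, Fintype.card_fin, ← h2] at h1
    have h4 : (2 : MvPolynomial (Option (Sym2 (Fin n))) ℤ) *
        (K918.HalfDisc.hd (C • U) - C ^ n * K918.HalfDisc.hd U) = 0 := by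
      linear_combination h1
    rcases mul_eq_zero.mp h4 with h5 | h5
    · exact absurd h5 two_ne_zero
    · exact sub_eq_zero.mp h5
  obtain ⟨φ, hφ⟩ : ∃ φ : MvPolynomial (Option (Sym2 (Fin n))) ℤ →+* A,
    φ = MvPolynomial.eval₂Hom (Int.castRingHom A) (fun o => o.elim c a) := ⟨_, rfl⟩
  have hC : φ C = c := by rw [hCd, hφ, MvPolynomial.eval₂Hom_X']; rfl
  have hU : ∀ s, φ (U s) = a s := fun s => by rw [hUd, hφ, MvPolynomial.eval₂Hom_X']; rfl
  have h := congrArg φ hP
  rw [map_mul, map_pow, K918.HalfDisc.hd_map, K918.HalfDisc.hd_map, hC] at h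
  have e1 : (fun s => φ ((C • U) s)) = c • a := by
    funext s
    rw [Pi.smul_apply, Pi.smul_apply, smul_eq_mul, smul_eq_mul, map_mul, hC, hU]
  have e2 : (fun s => φ (U s)) = a := funext hU
  simpa only [e1, e2] using h

theorem hd_smul (hn : Odd n) (c : A) (a : Sym2 (Fin n) → A) : hd (c • a) = c ^ n * hd a := by
  rw [hd_eq, hd_eq, halfDiscUniv_homog hn]

end Scale

section Descent

variable {A : Type u} [CommRing A] {n : ℕ}

/-- twisting commutes with substitution -/
theorem tw_pull (a : Sym2 (Fin n) → A) (X H : Matrix (Fin n) (Fin n) A) :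
    tw (pull a X) H = cf (LinearMap.BilinMap.toQuadraticMap
      (((polarBilin (qf a)).compl₁₂ X.mulVecLin (X * H).mulVecLin))) := by
  rw [qf_ext_iff]
  intro x
  rw [qf_tw, polar_pull, qf_cf, LinearMap.BilinMap.toQuadraticMap_apply, LinearMap.compl₁₂_apply,
    Matrix.mulVecLin_apply, Matrix.mulVecLin_apply, Matrix.mulVec_mulVec, polarBilin_apply_apply]

theorem tw_pull_mul (a : Sym2 (Fin n) → A) (X H : Matrix (Fin n) (Fin n) A) :
    tw (pull a X) H = pull (tw a (X * H * X⁻¹)) X ∨ ¬ IsUnit X.det := by
  by_cases hX : IsUnit X.det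
  · left
    rw [qf_ext_iff]
    intro x
    rw [qf_tw, polar_pull, qf_pull, qf_tw, Matrix.mulVec_mulVec, Matrix.mulVec_mulVec, Matrix.mul_assoc (X * H),
      Matrix.nonsing_inv_mul _ hX, Matrix.mul_one]
  · exact Or.inr hX

theorem pull_injective {a a' : Sym2 (Fin n) → A} {X : Matrix (Fin n) (Fin n) A} (hX : IsUnit X.det)
    (h : pull a X = pull a' X) : a = a' := by
  have := congrArg (fun b => pull b X⁻¹) h
  simpa only [← pull_mul, Matrix.mul_nonsing_inv _ hX, pull_one] using this

/-- `DefProp` can be tested after an invertible substitution. -/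
theorem DefProp.of_pull {a : Sym2 (Fin n) → A} {X : Matrix (Fin n) (Fin n) A} (hX : IsUnit X.det)
    (h : DefProp (pull a X)) : DefProp a := by
  intro b
  obtain ⟨ε, H, hH⟩ := h (pull b X)
  refine ⟨ε, X * H * X⁻¹, pull_injective hX ?_⟩
  rw [hH, pull_add, pull_smul]
  congr 1
  exact (tw_pull_mul a X H).resolve_right (not_not.mpr hX)

/-- The linear map whose surjectivity is `DefProp`. -/
noncomputable def defMat (a : Sym2 (Fin n) → A) : Matrix (Sym2 (Fin n)) (Option (Fin n × Fin n)) A :=
  Matrix.of fun s o => o.elim (a s) (fun p => tw a (Matrix.single p.1 p.2 1) s)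

theorem defMat_mulVec (a : Sym2 (Fin n) → A) (y : Option (Fin n × Fin n) → A) :
    (defMat a).mulVec y = y none • a + tw a (Matrix.of fun i j => y (some (i, j))) := by
  have hdec : (Matrix.of fun i j => y (some (i, j)) : Matrix (Fin n) (Fin n) A) =
      ∑ p : Fin n × Fin n, y (some p) • Matrix.single p.1 p.2 (1 : A) := by
    rw [Fintype.sum_prod_type]
    conv_lhs => rw [Matrix.matrix_eq_sum_single (Matrix.of fun i j => y (some (i, j)))]
    refine Finset.sum_congr rfl fun i _ => Finset.sum_congr rfl fun j _ => ?_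
    rw [Matrix.of_apply, Matrix.smul_single, smul_eq_mul, mul_one]
  rw [hdec, tw_sum]
  funext s
  rw [Matrix.mulVec, dotProduct, Fintype.sum_option, Pi.add_apply, Pi.smul_apply, Finset.sum_apply]
  simp only [defMat, Matrix.of_apply, Option.elim, tw_smul, Pi.smul_apply, smul_eq_mul]
  rw [mul_comm]
  congr 1
  refine Finset.sum_congr rfl fun p _ => mul_comm _ _

theorem defProp_iff (a : Sym2 (Fin n) → A) : DefProp a ↔ Function.Surjective (defMat a).mulVec := by
  constructor
  · intro h b
    obtain ⟨ε, H, hH⟩ := h b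
    refine ⟨fun o => o.elim ε (fun p => H p.1 p.2), ?_⟩
    rw [defMat_mulVec, hH]
    rfl
  · intro h b
    obtain ⟨y, hy⟩ := h b
    exact ⟨y none, _, by rw [← hy, defMat_mulVec]⟩

theorem map_defMat {B : Type v} [CommRing B] (φ : A →+* B) (a : Sym2 (Fin n) → A) :
    (defMat a).map φ = defMat (φ ∘ a) := by
  ext s o
  rw [Matrix.map_apply]
  cases o with
  | none => rfl
  | some p =>
    simp only [defMat, Matrix.of_apply, Option.elim]
    have := congrFun (map_tw φ a (Matrix.single p.1 p.2 1)) s
    rw [Function.comp_apply] at this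
    rw [this]
    congr 2
    rw [Matrix.map_single, map_one]

/-- Surjectivity of a matrix descends along a faithfully flat ring map. -/
theorem mulVec_surjective_of_faithfullyFlat {B : Type v} [CommRing B] [Algebra A B] [Module.FaithfullyFlat A B]
    {ι κ : Type*} [Fintype ι] [Fintype κ] [DecidableEq ι] [DecidableEq κ] (N : Matrix ι κ A)
    (h : Function.Surjective (N.map (algebraMap A B)).mulVec) : Function.Surjective N.mulVec := by
  have key : Function.Surjective (N.mulVecLin.lTensor B) := by
    let e1 := TensorProduct.piScalarRight A B B κ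
    let e2 := TensorProduct.piScalarRight A B B ι
    have hcomm : ∀ z, e2 (N.mulVecLin.lTensor B z) = (N.map (algebraMap A B)).mulVec (e1 z) := by
      intro z
      induction z using TensorProduct.induction_on with
      | zero => simp
      | tmul b x =>
        rw [LinearMap.lTensor_tmul]
        simp only [e1, e2, TensorProduct.piScalarRight_apply, TensorProduct.piScalarRightHom_tmul]
        funext i
        rw [Matrix.mulVecLin_apply, Matrix.mulVec, dotProduct, Matrix.mulVec, dotProduct, Finset.sum_smul]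
        refine Finset.sum_congr rfl fun j _ => ?_
        rw [Matrix.map_apply, Algebra.smul_def, Algebra.smul_def, map_mul, mul_assoc]
      | add x y hx hy => rw [map_add, map_add, hx, hy, map_add, Matrix.mulVec_add]
    intro z
    obtain ⟨y, hy⟩ := h (e2 z)
    refine ⟨e1.symm y, e2.injective ?_⟩
    rw [hcomm, LinearEquiv.apply_symm_apply, hy]
  have := (Module.FaithfullyFlat.lTensor_surjective_iff_surjective A B N.mulVecLin).mp key
  exact this

theorem DefProp.of_faithfullyFlat {B : Type v} [CommRing B] [Algebra A B] [Module.FaithfullyFlat A B]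
    (a : Sym2 (Fin n) → A) (h : DefProp (algebraMap A B ∘ a)) : DefProp a := by
  rw [defProp_iff] at h ⊢
  rw [← map_defMat] at h
  exact mulVec_surjective_of_faithfullyFlat _ h

/-- Forms with zero geometric radical have the deformation property. -/
theorem defProp_of_geomRad (a : Sym2 (Fin n) → A) (ha : GeomRad a) : DefProp a := by
  obtain ⟨B, _, _, hff, -, X, hX, h⟩ := exists_cover a ha
  exact DefProp.of_faithfullyFlat (B := B) a (DefProp.of_pull hX (by rw [h]; exact defProp_sc))

end Descent

end K917.Reg
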