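import Groth.Agent.QuadGrp.K917.Central

/-!
# The functorial centraliser of the (special) orthogonal group in rank at least three
-/

set_option autoImplicit false
set_option linter.deprecated false
set_option linter.unusedSectionVars false

universe u v w u' v' w'

open QuadGrp QuadraticMap TensorProduct

namespace K917.Centralizer

open K917.Coef K917.Cover

section BC

variable {R : Type u} [CommRing R] {M : Type v} [AddCommGroup M] [Module R M] [Module.Free R M]
variable (A : Type u') [CommRing A] [Algebra R A]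

theorem baseChange_eq_iff (Q : QuadraticForm R M) (x y : A ⊗[R] M) :
    baseChange A Q x = baseChange A Q y ↔ baseChangeForm A Q x = baseChangeForm A Q y := by
  rw [baseChangeForm, LinearMap.compQuadraticMap_apply, LinearMap.compQuadraticMap_apply]
  exact (AlgebraTensorModule.rid R A A).injective.eq_iff.symm

theorem orth_eq (Q : QuadraticForm R M) : orth Q A = O (baseChangeForm A Q) := by
  ext g
  rw [orth, mem_O, mem_O]
  exact forall_congr' fun x => baseChange_eq_iff A Q _ _

theorem mem_sorth'_iff (Q : QuadraticForm R M) (h : (A ⊗[R] M) ≃ₗ[A] (A ⊗[R] M)) :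
    h ∈ sorth' Q A ↔ (∀ x, baseChangeForm A Q (h x) = baseChangeForm A Q x) ∧
      LinearMap.det (h : (A ⊗[R] M) →ₗ[A] (A ⊗[R] M)) = 1 := by
  rw [sorth', SO', Subgroup.mem_inf, mem_O, MonoidHom.mem_ker]
  refine and_congr (forall_congr' fun x => baseChange_eq_iff A Q _ _) ?_
  rw [← LinearEquiv.coe_det, Units.val_eq_one]

theorem baseChange_mem (Q : QuadraticForm R M) (g : M ≃ₗ[R] M) (hg : g ∈ O Q) (x : A ⊗[R] M) :
    baseChangeForm A Q (g.baseChange R A M M x) = baseChangeForm A Q x := by
  have : (baseChangeForm A Q).comp (g.baseChange R A M M).toLinearMap = baseChangeForm A Q := by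
    apply Base.eq_baseChangeForm
    intro m
    rw [QuadraticMap.comp_apply]
    change baseChangeForm A Q (g.baseChange R A M M (1 ⊗ₜ[R] m)) = _
    rw [LinearEquiv.baseChange_tmul, Base.baseChangeForm_one_tmul, hg]
  exact congrArg (fun q : QuadraticForm A (A ⊗[R] M) => q x) this

end BC

section Golden

variable (A : Type u) [CommRing A]

/-- adjoining a root of `X² = X + 1` -/
abbrev Golden := AdjoinRoot (Polynomial.X ^ 2 - Polynomial.X - 1 : Polynomial A)

theorem golden_eq : (Polynomial.X ^ 2 - Polynomial.X - 1 : Polynomial A) =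
    Polynomial.X ^ 2 - (Polynomial.X + 1) := by ring

theorem golden_monic : (Polynomial.X ^ 2 - Polynomial.X - 1 : Polynomial A).Monic := by
  nontriviality A
  rw [golden_eq]
  refine Polynomial.monic_X_pow_sub ?_
  rw [← Polynomial.C_1, Polynomial.degree_X_add_C]
  norm_num

theorem faithfullyFlat_golden : Module.FaithfullyFlat A (Golden A) := by
  have hm := golden_monic A
  have hf := hm.free_adjoinRoot
  rcases subsingleton_or_nontrivial A with hA | hA
  · apply Module.FaithfullyFlat.of_comap_surjective
    intro p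
    exact absurd (Subsingleton.elim (1 : A) 0) (fun h => p.2.ne_top ((Ideal.eq_top_iff_one _).mpr (by
      rw [h]; exact Ideal.zero_mem _)))
  · have : Nontrivial (Golden A) := by
      have hd : (AdjoinRoot.powerBasis' hm).dim ≠ 0 := by
        rw [AdjoinRoot.powerBasis'_dim, golden_eq, Polynomial.natDegree_sub_eq_left_of_natDegree_lt]
        · simp
        · rw [← Polynomial.C_1, Polynomial.natDegree_X_add_C, Polynomial.natDegree_X_pow]; norm_num
      exact nontrivial_of_ne _ _ ((AdjoinRoot.powerBasis' hm).basis.ne_zero ⟨0, Nat.pos_of_ne_zero hd⟩)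
    infer_instance

theorem golden_root : (AdjoinRoot.root _ : Golden A) * AdjoinRoot.root _ = AdjoinRoot.root _ + 1 := by
  have := AdjoinRoot.eval₂_root (Polynomial.X ^ 2 - Polynomial.X - 1 : Polynomial A)
  rw [Polynomial.eval₂_sub, Polynomial.eval₂_sub, Polynomial.eval₂_pow, Polynomial.eval₂_X, Polynomial.eval₂_one] at this
  linear_combination this

end Golden

/-- A faithfully flat extension splitting the form and containing a root of `X² = X + 1`. -/
theorem exists_split_golden {R : Type u} [CommRing R] {M : Type v} [AddCommGroup M] [Module R M] [Module.Free R M]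
    {n : ℕ} (b : Module.Basis (Fin n) R M) (Q : QuadraticForm R M)
    (h : IsNondeg b (LinearEquiv.refl R R) Q) :
    ∃ (A : Type u) (_ : CommRing A) (_ : Algebra R A), Module.FaithfullyFlat R A ∧
      (∃ t : A, t * t = t + 1) ∧
      ∃ c : Module.Basis (Fin n) A (A ⊗[R] M), Split.IsSplitBasis c (baseChangeForm A Q) := by
  obtain ⟨A₀, _, _, hff, hfp, X, hX, hXc⟩ := exists_cover (cfb b Q) (geomRad_of_isNondeg b Q h)
  let A := Golden A₀
  have hff' : Module.FaithfullyFlat A₀ A := faithfullyFlat_golden A₀
  refine ⟨A, inferInstance, inferInstance, Module.FaithfullyFlat.trans R A₀ A, ⟨_, golden_root A₀⟩, ?_⟩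
  obtain ⟨c, hc, -⟩ := exists_isSplitBasis_of_matrix (b.baseChange A) (baseChangeForm A Q)
    (X.map (algebraMap A₀ A)) (by
      rw [← RingHom.mapMatrix_apply, ← RingHom.map_det]; exact hX.map _) (by
    rw [cfb, Base.coeffs_baseChangeForm]
    have h1 := congrArg (fun g => algebraMap A₀ A ∘ g) hXc
    simp only [map_pull, map_sc] at h1
    rw [← h1]
    have h2 : algebraMap R A ∘ coeffs b (LinearEquiv.refl R R) Q =
        algebraMap A₀ A ∘ (algebraMap R A₀ ∘ cfb b Q) := by
      funext s
      exact IsScalarTower.algebraMap_apply R A₀ A _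
    rw [h2])
  exact ⟨c, hc⟩

/-- The central computation: an isometry commuting functorially with all isometries of determinant one is a
homothety by a square root of unity. -/
theorem exists_scalar {R : Type u} [CommRing R] {n : ℕ} (hn : 3 ≤ n) (Q : QuadraticForm R (Fin n → R))
    (hQ : QuadGrp.IsNondeg (Pi.basisFun R (Fin n)) (LinearEquiv.refl R R) Q)
    (g : (Fin n → R) ≃ₗ[R] (Fin n → R)) (hg : g ∈ QuadGrp.O Q)
    (H : ∀ (A : Type u) [CommRing A] [Algebra R A], ∀ h ∈ QuadGrp.sorth' Q A,
        (∃ (e f : A ⊗[R] (Fin n → R)) (t : A) (ht : t * (t - 1) = 1) (hyp : Central.IsHyp (baseChangeForm A Q) e f),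
          h = hyp.torEquiv ht) →
        g.baseChange R A (Fin n → R) (Fin n → R) * h = h * g.baseChange R A (Fin n → R) (Fin n → R)) :
    ∃ c : R, c * c = 1 ∧ ∀ v, g v = c • v := by
  obtain ⟨A, _, _, hff, ⟨t, ht⟩, c, hc⟩ := exists_split_golden (Pi.basisFun R (Fin n)) Q hQ
  have hinj : Function.Injective (algebraMap R A) := FaithfulSMul.algebraMap_injective R A
  have huv : t * (t - 1) = 1 := by linear_combination ht
  set G := g.baseChange R A (Fin n → R) (Fin n → R) with hG
  obtain ⟨α, hα⟩ := Central.exists_homothety hc hn ht G.toLinearMap (baseChange_mem A Q g hg) (by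
    intro e f hyp x
    have hmem : hyp.torEquiv huv ∈ sorth' Q A := by
      rw [mem_sorth'_iff]
      exact ⟨hyp.tor_isometry huv, hyp.det_tor huv c⟩
    have := H A (hyp.torEquiv huv) hmem ⟨e, f, t, huv, hyp, rfl⟩
    exact congrArg (fun k : (A ⊗[R] (Fin n → R)) ≃ₗ[A] (A ⊗[R] (Fin n → R)) => k x) this)
  -- coordinates
  let b := Pi.basisFun R (Fin n)
  let i0 : Fin n := ⟨0, by omega⟩
  have hcoord : ∀ i j : Fin n, algebraMap R A (g (b j) i) = α * algebraMap R A (b j i) := by
    intro i j
    have h1 := hα ((1 : A) ⊗ₜ[R] b j)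
    have h2 : G ((1 : A) ⊗ₜ[R] b j) = (1 : A) ⊗ₜ[R] g (b j) := LinearEquiv.baseChange_tmul ..
    have h3 : (1 : A) ⊗ₜ[R] g (b j) = α • ((1 : A) ⊗ₜ[R] b j) := h2.symm.trans h1
    have h4 := congrArg (fun z => (b.baseChange A).repr z i) h3
    simp only [map_smul, Finsupp.smul_apply, smul_eq_mul, Module.Basis.baseChange_repr_tmul] at h4
    simpa [b, Pi.basisFun_repr, Algebra.smul_def] using h4
  have hbij : ∀ i j : Fin n, b j i = if i = j then 1 else 0 := fun i j => by
    simp only [b, Pi.basisFun_apply, Pi.single_apply]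
  set γ : R := g (b i0) i0 with hγ
  have hαγ : α = algebraMap R A γ := by
    rw [hγ, hcoord, hbij, if_pos rfl, map_one, mul_one]
  have hgv : ∀ v, g v = γ • v := by
    have hb : ∀ j, g (b j) = γ • b j := fun j => by
      funext i
      apply hinj
      rw [hcoord, hαγ, Pi.smul_apply, smul_eq_mul, map_mul]
    have : (g : (Fin n → R) →ₗ[R] (Fin n → R)) = γ • LinearMap.id := b.ext fun j => by
      rw [LinearMap.smul_apply, LinearMap.id_apply]; exact hb j
    intro v
    exact congrArg (fun k : (Fin n → R) →ₗ[R] (Fin n → R) => k v) this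
  refine ⟨γ, ?_, hgv⟩
  -- `γ² = 1` from a hyperbolic pair over `A`
  apply hinj
  have hyp := Central.isHyp_pair hc 0 (by omega)
  have h1 : polar (baseChangeForm A Q) (α • c ⟨2 * 0 + n % 2, by omega⟩) (α • c ⟨2 * 0 + 1 + n % 2, by omega⟩) = 1 := by
    have hGQ : ∀ x, baseChangeForm A Q (G.toLinearMap x) = baseChangeForm A Q x := baseChange_mem A Q g hg
    rw [← hyp.hef, ← hα, ← hα, polar, polar, ← map_add, hGQ, hGQ, hGQ]
  rw [polar_smul_left, polar_smul_right, hyp.hef, smul_eq_mul, smul_eq_mul, mul_one] at h1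
  rw [map_mul, map_one, ← hαγ, h1]

/-- The base change of a homothety commutes with everything. -/
theorem comm_of_scalar {R : Type u} [CommRing R] {M : Type v} [AddCommGroup M] [Module R M]
    (g : M ≃ₗ[R] M) (c : R) (hg : ∀ v, g v = c • v) (A : Type u') [CommRing A] [Algebra R A]
    (h : (A ⊗[R] M) ≃ₗ[A] (A ⊗[R] M)) :
    g.baseChange R A M M * h = h * g.baseChange R A M M := by
  have key : ∀ x, g.baseChange R A M M x = algebraMap R A c • x := fun x => by
    induction x using TensorProduct.induction_on with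
    | zero => simp
    | tmul a m =>
      rw [LinearEquiv.baseChange_tmul, hg, TensorProduct.tmul_smul, TensorProduct.smul_tmul', algebraMap_smul,
        TensorProduct.smul_tmul']
    | add x y hx hy => rw [map_add, hx, hy, smul_add]
  ext x
  rw [LinearEquiv.mul_apply, LinearEquiv.mul_apply, key, key, map_smul]

end K917.Centralizer
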