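import Groth.Agent.QuadGrp.K917.AlgClosed
import Mathlib.LinearAlgebra.Matrix.ToLin
import Mathlib.LinearAlgebra.Matrix.Adjugate

/-!
# Quadratic forms through coefficient vectors, substitution of matrices, naturality under ring maps
-/

set_option autoImplicit false
set_option linter.deprecated false
set_option linter.unusedSectionVars false

universe u v w u' v' w'

open QuadGrp QuadraticMap

namespace K917.Coef

section Def

variable {A : Type u} [CommRing A] {n : ℕ}

/-- coefficients in the standard basis -/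
noncomputable abbrev cf (Q : QuadraticForm A (Fin n → A)) : Sym2 (Fin n) → A :=
  coeffs (Pi.basisFun A (Fin n)) (LinearEquiv.refl A A) Q

theorem cf_mk (Q : QuadraticForm A (Fin n → A)) (i j : Fin n) :
    cf Q (Sym2.mk i j) = if i = j then Q (Pi.single i 1) else polar Q (Pi.single i 1) (Pi.single j 1) := by
  rw [cf, coeffs_mk, Pi.basisFun_apply, Pi.basisFun_apply]; rfl

/-- The form with given coefficients. -/
noncomputable def qf (a : Sym2 (Fin n) → A) : QuadraticForm A (Fin n → A) :=
  (Base.exists_form (Pi.basisFun A (Fin n)) a).choose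

@[simp] theorem cf_qf (a : Sym2 (Fin n) → A) : cf (qf a) = a :=
  (Base.exists_form (Pi.basisFun A (Fin n)) a).choose_spec

@[simp] theorem qf_cf (Q : QuadraticForm A (Fin n → A)) : qf (cf Q) = Q :=
  Base.eq_of_coeffs_eq _ _ _ _ (cf_qf _)

theorem cf_injective {Q Q' : QuadraticForm A (Fin n → A)} (h : cf Q = cf Q') : Q = Q' :=
  Base.eq_of_coeffs_eq _ _ _ _ h

theorem sum_basisFun (x : Fin n → A) : ∑ i, x i • (Pi.basisFun A (Fin n)) i = x := by
  funext j; simp [Pi.basisFun_apply, Finset.sum_apply, Pi.single_apply]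

theorem qf_apply (a : Sym2 (Fin n) → A) (x : Fin n → A) :
    qf a x = ∑ i, ∑ j, if i ≤ j then a (Sym2.mk i j) * x i * x j else 0 := by
  have := Base.apply_sum (Pi.basisFun A (Fin n)) (qf a) x
  rw [sum_basisFun] at this
  rw [this]
  refine Finset.sum_congr rfl fun i _ => Finset.sum_congr rfl fun j _ => ?_
  rw [show coeffs (Pi.basisFun A (Fin n)) (LinearEquiv.refl A A) (qf a) = a from cf_qf a]

theorem polar_qf (a : Sym2 (Fin n) → A) (x y : Fin n → A) :
    polar (qf a) x y = ∑ i, ∑ j, if i ≤ j then a (Sym2.mk i j) * (x i * y j + y i * x j) else 0 := by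
  rw [polar, qf_apply, qf_apply, qf_apply, ← Finset.sum_sub_distrib, ← Finset.sum_sub_distrib]
  refine Finset.sum_congr rfl fun i _ => ?_
  rw [← Finset.sum_sub_distrib, ← Finset.sum_sub_distrib]
  refine Finset.sum_congr rfl fun j _ => ?_
  split_ifs
  · simp only [Pi.add_apply]; ring
  · ring

theorem cf_add (Q Q' : QuadraticForm A (Fin n → A)) : cf (Q + Q') = cf Q + cf Q' := by
  funext s
  induction s using Sym2.inductionOn with
  | _ i j =>
    rw [Pi.add_apply, cf_mk, cf_mk, cf_mk]
    split_ifs
    · simp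
    · simp [polar_add]

theorem cf_smul (c : A) (Q : QuadraticForm A (Fin n → A)) : cf (c • Q) = c • cf Q := by
  funext s
  induction s using Sym2.inductionOn with
  | _ i j =>
    rw [Pi.smul_apply, cf_mk, cf_mk]
    split_ifs
    · simp
    · simp [polar_smul]

theorem qf_add (a a' : Sym2 (Fin n) → A) : qf (a + a') = qf a + qf a' :=
  cf_injective (by rw [cf_qf, cf_add, cf_qf, cf_qf])

theorem qf_smul (c : A) (a : Sym2 (Fin n) → A) : qf (c • a) = c • qf a :=
  cf_injective (by rw [cf_qf, cf_smul, cf_qf])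

theorem qf_sub (a a' : Sym2 (Fin n) → A) : qf (a - a') = qf a - qf a' := by
  rw [eq_sub_iff_add_eq, ← qf_add, sub_add_cancel]

theorem qf_zero : qf (0 : Sym2 (Fin n) → A) = 0 := by
  have := qf_smul (0 : A) (0 : Sym2 (Fin n) → A)
  rw [zero_smul, zero_smul] at this; exact this

theorem qf_sum {ι : Type*} (s : Finset ι) (a : ι → Sym2 (Fin n) → A) :
    qf (∑ i ∈ s, a i) = ∑ i ∈ s, qf (a i) := by
  classical
  induction s using Finset.induction_on with
  | empty => simp [qf_zero]
  | insert i s hi ih => rw [Finset.sum_insert hi, Finset.sum_insert hi, qf_add, ih]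

/-- Coefficients of the form `x ↦ a(X x)`. -/
noncomputable def pull (a : Sym2 (Fin n) → A) (X : Matrix (Fin n) (Fin n) A) : Sym2 (Fin n) → A :=
  cf ((qf a).comp X.mulVecLin)

theorem qf_pull (a : Sym2 (Fin n) → A) (X : Matrix (Fin n) (Fin n) A) (x : Fin n → A) :
    qf (pull a X) x = qf a (X.mulVec x) := by
  rw [pull, qf_cf]; rfl

theorem qf_ext_iff {a a' : Sym2 (Fin n) → A} : a = a' ↔ ∀ x, qf a x = qf a' x := by
  refine ⟨fun h x => by rw [h], fun h => ?_⟩
  have : qf a = qf a' := QuadraticMap.ext h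
  rw [← cf_qf a, this, cf_qf]

theorem pull_mul (a : Sym2 (Fin n) → A) (X Y : Matrix (Fin n) (Fin n) A) :
    pull a (X * Y) = pull (pull a X) Y := by
  rw [qf_ext_iff]
  intro x
  rw [qf_pull, qf_pull, qf_pull, Matrix.mulVec_mulVec]

theorem pull_one (a : Sym2 (Fin n) → A) : pull a 1 = a := by
  rw [qf_ext_iff]
  intro x
  rw [qf_pull, Matrix.one_mulVec]

theorem pull_smul (c : A) (a : Sym2 (Fin n) → A) (X : Matrix (Fin n) (Fin n) A) :
    pull (c • a) X = c • pull a X := by
  rw [qf_ext_iff]
  intro x
  rw [qf_pull, qf_smul, qf_smul, QuadraticMap.smul_apply, QuadraticMap.smul_apply, qf_pull]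

theorem pull_add (a a' : Sym2 (Fin n) → A) (X : Matrix (Fin n) (Fin n) A) :
    pull (a + a') X = pull a X + pull a' X := by
  rw [qf_ext_iff]
  intro x
  rw [qf_pull, qf_add, qf_add, QuadraticMap.add_apply, QuadraticMap.add_apply, qf_pull, qf_pull]

theorem pull_smul_mat (c : A) (a : Sym2 (Fin n) → A) (X : Matrix (Fin n) (Fin n) A) :
    pull a (c • X) = (c * c) • pull a X := by
  rw [qf_ext_iff]
  intro x
  rw [qf_pull, qf_smul, QuadraticMap.smul_apply, qf_pull, Matrix.smul_mulVec, QuadraticMap.map_smul]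

/-- Entries of `pull`. -/
theorem pull_mk (a : Sym2 (Fin n) → A) (X : Matrix (Fin n) (Fin n) A) (i j : Fin n) :
    pull a X (Sym2.mk i j) = if i = j then qf a (X.col i) else polar (qf a) (X.col i) (X.col j) := by
  rw [pull, cf_mk]
  have h : ∀ i, X.mulVecLin (Pi.single i 1) = X.col i := fun i => by
    rw [Matrix.mulVecLin_apply, Matrix.mulVec_single_one]
  split_ifs with hij
  · simp only [comp_apply, h]
  · simp only [polar, comp_apply, map_add, h]

/-- The bilinear deformation: coefficients of `x ↦ polar a (x, H x)`. -/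
noncomputable def tw (a : Sym2 (Fin n) → A) (H : Matrix (Fin n) (Fin n) A) : Sym2 (Fin n) → A :=
  cf (LinearMap.BilinMap.toQuadraticMap ((polarBilin (qf a)).compl₂ H.mulVecLin))

theorem qf_tw (a : Sym2 (Fin n) → A) (H : Matrix (Fin n) (Fin n) A) (x : Fin n → A) :
    qf (tw a H) x = polar (qf a) x (H.mulVec x) := by
  rw [tw, qf_cf]; rfl

theorem tw_mk (a : Sym2 (Fin n) → A) (H : Matrix (Fin n) (Fin n) A) (i j : Fin n) :
    tw a H (Sym2.mk i j) = if i = j then polar (qf a) (Pi.single i 1) (H.col i) else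
      polar (qf a) (Pi.single i 1) (H.col j) + polar (qf a) (Pi.single j 1) (H.col i) := by
  rw [tw, cf_mk]
  have h : ∀ i, H.mulVec (Pi.single i 1) = H.col i := fun i => Matrix.mulVec_single_one _ _
  split_ifs with hij
  · simp only [LinearMap.BilinMap.toQuadraticMap_apply, LinearMap.compl₂_apply,
      Matrix.mulVecLin_apply, h, polarBilin_apply_apply]
  · rw [LinearMap.BilinMap.polar_toQuadraticMap]
    simp only [LinearMap.compl₂_apply,
      Matrix.mulVecLin_apply, h, polarBilin_apply_apply]

theorem tw_add (a : Sym2 (Fin n) → A) (H H' : Matrix (Fin n) (Fin n) A) : tw a (H + H') = tw a H + tw a H' := by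
  rw [qf_ext_iff]
  intro x
  rw [qf_tw, qf_add, QuadraticMap.add_apply, qf_tw, qf_tw, Matrix.add_mulVec, polar_add_right]

theorem tw_smul (c : A) (a : Sym2 (Fin n) → A) (H : Matrix (Fin n) (Fin n) A) : tw a (c • H) = c • tw a H := by
  rw [qf_ext_iff]
  intro x
  rw [qf_tw, qf_smul, QuadraticMap.smul_apply, qf_tw, Matrix.smul_mulVec, polar_smul_right]

theorem tw_zero (a : Sym2 (Fin n) → A) : tw a (0 : Matrix (Fin n) (Fin n) A) = 0 := by
  have := tw_smul (0 : A) a (0 : Matrix (Fin n) (Fin n) A)
  rwa [zero_smul, zero_smul] at this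

theorem tw_sum {ι : Type*} (s : Finset ι) (a : Sym2 (Fin n) → A) (H : ι → Matrix (Fin n) (Fin n) A) :
    tw a (∑ i ∈ s, H i) = ∑ i ∈ s, tw a (H i) := by
  classical
  induction s using Finset.induction_on with
  | empty => simp [tw_zero]
  | insert i s hi ih => rw [Finset.sum_insert hi, Finset.sum_insert hi, tw_add, ih]

theorem qf_add_vec (a : Sym2 (Fin n) → A) (x y : Fin n → A) : qf a (x + y) = qf a x + qf a y + polar (qf a) x y := by
  rw [polar]; ring

end Def

section Map

variable {A : Type u} [CommRing A] {B : Type v} [CommRing B] (φ : A →+* B) {n : ℕ}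

theorem map_qf (a : Sym2 (Fin n) → A) (x : Fin n → A) : φ (qf a x) = qf (φ ∘ a) (φ ∘ x) := by
  rw [qf_apply, qf_apply, map_sum]
  refine Finset.sum_congr rfl fun i _ => ?_
  rw [map_sum]
  refine Finset.sum_congr rfl fun j _ => ?_
  split_ifs
  · simp only [map_mul, Function.comp_apply]
  · exact map_zero φ

theorem map_polar (a : Sym2 (Fin n) → A) (x y : Fin n → A) :
    φ (polar (qf a) x y) = polar (qf (φ ∘ a)) (φ ∘ x) (φ ∘ y) := by
  rw [polar_qf, polar_qf, map_sum]
  refine Finset.sum_congr rfl fun i _ => ?_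
  rw [map_sum]
  refine Finset.sum_congr rfl fun j _ => ?_
  split_ifs
  · simp only [map_mul, map_add, Function.comp_apply]
  · exact map_zero φ

theorem map_pull (a : Sym2 (Fin n) → A) (X : Matrix (Fin n) (Fin n) A) :
    φ ∘ pull a X = pull (φ ∘ a) (X.map φ) := by
  funext s
  induction s using Sym2.inductionOn with
  | _ i j =>
    rw [Function.comp_apply, pull_mk, pull_mk]
    split_ifs
    · rw [map_qf]; rfl
    · rw [map_polar]; rfl

theorem map_tw (a : Sym2 (Fin n) → A) (H : Matrix (Fin n) (Fin n) A) :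
    φ ∘ tw a H = tw (φ ∘ a) (H.map φ) := by
  have hs : ∀ i : Fin n, φ ∘ (Pi.single i 1 : Fin n → A) = Pi.single i 1 := fun i => by
    funext j
    rw [Function.comp_apply, Pi.single_apply, Pi.single_apply]
    split_ifs <;> simp
  funext s
  induction s using Sym2.inductionOn with
  | _ i j =>
    rw [Function.comp_apply, tw_mk, tw_mk]
    split_ifs
    · rw [map_polar, hs]; rfl
    · rw [map_add, map_polar, map_polar, hs, hs]; rfl

end Map

section Split

variable (A : Type u) [CommRing A] (n : ℕ)

/-- coefficients of the split form -/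
noncomputable def sc : Sym2 (Fin n) → A := cf (splitForm A n)

theorem qf_sc : qf (sc A n) = splitForm A n := qf_cf _

variable {A n}

theorem map_ext0 {B : Type v} [CommRing B] (φ : A →+* B) (x : Fin n → A) (k : ℕ) :
    φ (Split.ext0 A x k) = Split.ext0 B (φ ∘ x) k := by
  rw [Split.ext0, Split.ext0]
  split_ifs
  · rfl
  · exact map_zero φ

theorem map_splitForm {B : Type v} [CommRing B] (φ : A →+* B) (x : Fin n → A) :
    φ (splitForm A n x) = splitForm B n (φ ∘ x) := by
  rw [Split.splitForm_apply_range, Split.splitForm_apply_range, map_add, map_sum]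
  congr 1
  · refine Finset.sum_congr rfl fun i _ => ?_
    rw [map_mul, map_ext0, map_ext0]
  · split_ifs
    · rw [map_mul, map_ext0]
    · exact map_zero φ

theorem map_sc {B : Type v} [CommRing B] (φ : A →+* B) : φ ∘ sc A n = sc B n := by
  have hs : ∀ i : Fin n, φ ∘ (Pi.single i 1 : Fin n → A) = Pi.single i 1 := fun i => by
    funext j
    rw [Function.comp_apply, Pi.single_apply, Pi.single_apply]
    split_ifs <;> simp
  funext s
  induction s using Sym2.inductionOn with
  | _ i j =>
    rw [Function.comp_apply, sc, sc, cf_mk, cf_mk]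
    split_ifs
    · rw [map_splitForm, hs]
    · rw [polar, polar, map_sub, map_sub, map_splitForm, map_splitForm, map_splitForm, hs, hs]
      congr 3
      funext k
      simp only [Function.comp_apply, Pi.add_apply, map_add]
      rw [← hs i, ← hs j]; rfl

end Split

end K917.Coef
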