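import Groth.Prelude.Def_QuadGrp
import Mathlib.LinearAlgebra.TensorProduct.Basis
import Mathlib.LinearAlgebra.Matrix.ToLin

/-!
# Base change calculus for quadratic forms on free modules (no assumption on `2`)
-/

set_option autoImplicit false

universe u v w u' v' w'

open TensorProduct QuadGrp QuadraticMap

namespace K917.Base

section Ext

variable {R : Type u} [CommRing R] {M : Type v} [AddCommGroup M] [Module R M]
  {N : Type w} [AddCommGroup N] [Module R N]

/-- A quadratic map is determined by its values and off-diagonal polar values on a basis. -/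
theorem ext_of_basis {n : ℕ} (b : Module.Basis (Fin n) R M) (Q₁ Q₂ : QuadraticMap R M N)
    (h : ∀ i, Q₁ (b i) = Q₂ (b i))
    (h' : ∀ i j, i ≠ j → polar Q₁ (b i) (b j) = polar Q₂ (b i) (b j)) : Q₁ = Q₂ := by
  rw [← toQuadraticMap_toBilin Q₁ b, ← toQuadraticMap_toBilin Q₂ b]
  congr 1
  refine b.ext fun i => b.ext fun j => ?_
  rw [toBilin_apply, toBilin_apply, h i]
  split_ifs with h1 h2
  · rfl
  · exact h' i j h2.ne
  · rfl

/-- The quadratic map with prescribed coefficients. -/
theorem eq_of_coeffs_eq {n : ℕ} (b : Module.Basis (Fin n) R M) (t : N ≃ₗ[R] R)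
    (Q₁ Q₂ : QuadraticMap R M N) (h : coeffs b t Q₁ = coeffs b t Q₂) : Q₁ = Q₂ := by
  refine ext_of_basis b Q₁ Q₂ (fun i => ?_) (fun i j hij => ?_)
  · have := congrFun h (Sym2.mk i i)
    rw [coeffs_mk, coeffs_mk, if_pos rfl, if_pos rfl] at this
    exact t.injective this
  · have := congrFun h (Sym2.mk i j)
    rw [coeffs_mk, coeffs_mk, if_neg hij, if_neg hij] at this
    exact t.injective this

variable {M' : Type v'} [AddCommGroup M'] [Module R M']

/-- Coefficients of a pulled back form. -/
theorem coeffs_comp {n : ℕ} (b : Module.Basis (Fin n) R M) (c : Module.Basis (Fin n) R M') (t : N ≃ₗ[R] R)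
    (Q : QuadraticMap R M' N) (f : M →ₗ[R] M') (hf : ∀ i, f (b i) = c i) :
    coeffs b t (Q.comp f) = coeffs c t Q := by
  funext s
  induction s using Sym2.inductionOn with
  | _ i j =>
    rw [coeffs_mk, coeffs_mk]
    simp only [QuadraticMap.polar, QuadraticMap.comp_apply, map_add, hf]

/-- Two quadratic maps with the same coefficients are isometric, through the linear equivalence matching the bases. -/
noncomputable def isometryOfCoeffs {n : ℕ} (b : Module.Basis (Fin n) R M) (c : Module.Basis (Fin n) R M')
    (t : N ≃ₗ[R] R) (Q : QuadraticMap R M N) (Q' : QuadraticMap R M' N)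
    (h : coeffs b t Q = coeffs c t Q') : Q.IsometryEquiv Q' :=
  { b.equiv c (Equiv.refl _) with
    map_app' := fun m => by
      have : Q'.comp (b.equiv c (Equiv.refl _)).toLinearMap = Q :=
        eq_of_coeffs_eq b t _ _ ((coeffs_comp b c t Q' _ (fun i => by simp)).trans h.symm)
      conv_rhs => rw [← this]
      rfl }

@[simp] theorem isometryOfCoeffs_apply {n : ℕ} (b : Module.Basis (Fin n) R M) (c : Module.Basis (Fin n) R M')
    (t : N ≃ₗ[R] R) (Q : QuadraticMap R M N) (Q' : QuadraticMap R M' N)
    (h : coeffs b t Q = coeffs c t Q') (m : M) :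
    isometryOfCoeffs b c t Q Q' h m = b.equiv c (Equiv.refl _) m := rfl

theorem coeffs_of_isometryEquiv {n : ℕ} (b : Module.Basis (Fin n) R M) (t : N ≃ₗ[R] R)
    (Q : QuadraticMap R M N) (Q' : QuadraticMap R M' N) (e : Q.IsometryEquiv Q') :
    coeffs (b.map e.toLinearEquiv) t Q' = coeffs b t Q := by
  rw [← coeffs_comp b (b.map e.toLinearEquiv) t Q' (e.toLinearEquiv.toLinearMap) (fun i => by simp)]
  congr 1
  ext m
  exact e.map_app m

/-- The general expansion of a quadratic form in a basis. -/
theorem apply_sum {n : ℕ} (b : Module.Basis (Fin n) R M) (Q : QuadraticForm R M) (x : Fin n → R) :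
    Q (∑ i, x i • b i) =
      ∑ i, ∑ j, if i ≤ j then coeffs b (LinearEquiv.refl R R) Q (Sym2.mk i j) * x i * x j else 0 := by
  conv_lhs => rw [← toQuadraticMap_toBilin Q b]
  rw [LinearMap.BilinMap.toQuadraticMap_apply, map_sum]
  simp only [LinearMap.sum_apply, map_sum, LinearMap.map_smul, LinearMap.smul_apply, toBilin_apply]
  rw [Finset.sum_comm]
  refine Finset.sum_congr rfl fun i _ => Finset.sum_congr rfl fun j _ => ?_
  rw [coeffs_mk]
  by_cases hij : i = j
  · subst hij
    simp only [if_true, le_refl, LinearEquiv.refl_apply, smul_eq_mul]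
    ring
  · rw [if_neg hij, if_neg hij]
    by_cases hlt : i < j
    · rw [if_pos hlt, if_pos hlt.le]
      simp only [LinearEquiv.refl_apply, smul_eq_mul]
      ring
    · rw [if_neg hlt, if_neg (fun h => hlt (lt_of_le_of_ne h hij)), smul_zero, smul_zero]

/-- existence of a form with given coefficients -/
theorem exists_form {n : ℕ} (b : Module.Basis (Fin n) R M) (a : Sym2 (Fin n) → R) :
    ∃ Q : QuadraticForm R M, coeffs b (LinearEquiv.refl R R) Q = a := by
  classical
  let B : LinearMap.BilinMap R M R := b.constr R fun i => b.constr R fun j => if i ≤ j then a (Sym2.mk i j) else 0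
  have hB : ∀ i j, B (b i) (b j) = if i ≤ j then a (Sym2.mk i j) else 0 := fun i j => by
    simp only [B, Module.Basis.constr_basis]
  refine ⟨B.toQuadraticMap, ?_⟩
  funext s
  induction s using Sym2.inductionOn with
  | _ i j =>
    rw [coeffs_mk]
    by_cases hij : i = j
    · subst hij
      rw [if_pos rfl, LinearMap.BilinMap.toQuadraticMap_apply, hB, if_pos le_rfl]
      rfl
    · rw [if_neg hij, LinearMap.BilinMap.polar_toQuadraticMap, hB, hB]
      rcases lt_or_gt_of_ne hij with h | h
      · rw [if_pos h.le, if_neg (not_le.mpr h), add_zero]; rfl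
      · rw [if_neg (not_le.mpr h), if_pos h.le, zero_add, Sym2.eq_swap]; rfl

end Ext

section BC

variable {R : Type u} [CommRing R] {M : Type v} [AddCommGroup M] [Module R M] [Module.Free R M]
  {N : Type w} [AddCommGroup N] [Module R N]
variable (A : Type u') [CommRing A] [Algebra R A]

theorem baseChangeForm_tmul (Q : QuadraticForm R M) (a : A) (m : M) :
    baseChangeForm A Q (a ⊗ₜ[R] m) = a * a * algebraMap R A (Q m) := by
  rw [baseChangeForm, LinearMap.compQuadraticMap_apply, baseChange_tmul]
  simp [Algebra.smul_def, mul_comm]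

theorem baseChangeForm_one_tmul (Q : QuadraticForm R M) (m : M) :
    baseChangeForm A Q (1 ⊗ₜ[R] m) = algebraMap R A (Q m) := by
  rw [baseChangeForm_tmul, one_mul, one_mul]

theorem polar_baseChangeForm_tmul (Q : QuadraticForm R M) (a a' : A) (m m' : M) :
    polar (baseChangeForm A Q) (a ⊗ₜ[R] m) (a' ⊗ₜ[R] m') = a * a' * algebraMap R A (polar Q m m') := by
  have key : ∀ m m' : M, polar (baseChangeForm A Q) ((1 : A) ⊗ₜ[R] m) ((1 : A) ⊗ₜ[R] m') =
      algebraMap R A (polar Q m m') := fun m m' => by
    simp only [polar, ← TensorProduct.tmul_add, baseChangeForm_one_tmul, map_sub]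
  have h1 : (a ⊗ₜ[R] m : A ⊗[R] M) = a • ((1 : A) ⊗ₜ[R] m) := by
    rw [TensorProduct.smul_tmul', smul_eq_mul, mul_one]
  have h2 : (a' ⊗ₜ[R] m' : A ⊗[R] M) = a' • ((1 : A) ⊗ₜ[R] m') := by
    rw [TensorProduct.smul_tmul', smul_eq_mul, mul_one]
  rw [h1, h2, polar_smul_left, polar_smul_right, key, smul_eq_mul, smul_eq_mul, mul_assoc]

/-- The base change is determined by its values on `1 ⊗ m`. -/
theorem eq_baseChangeForm (Q : QuadraticForm R M) (Q' : QuadraticForm A (A ⊗[R] M))
    (h : ∀ m, Q' (1 ⊗ₜ[R] m) = algebraMap R A (Q m)) : Q' = baseChangeForm A Q := by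
  apply baseChange_ext
  intro m
  rw [h, baseChangeForm_one_tmul]

theorem coeffs_baseChangeForm {n : ℕ} (b : Module.Basis (Fin n) R M) (Q : QuadraticForm R M) :
    coeffs (b.baseChange A) (LinearEquiv.refl A A) (baseChangeForm A Q) =
      algebraMap R A ∘ coeffs b (LinearEquiv.refl R R) Q := by
  funext s
  induction s using Sym2.inductionOn with
  | _ i j =>
    rw [Function.comp_apply, coeffs_mk, coeffs_mk, Module.Basis.baseChange_apply,
      Module.Basis.baseChange_apply]
    split_ifs with h
    · simp only [LinearEquiv.refl_apply, baseChangeForm_one_tmul]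
    · simp only [LinearEquiv.refl_apply, polar_baseChangeForm_tmul, one_mul]

theorem eval_map_coeffs {n : ℕ} (a : Sym2 (Fin n) → R) (p : MvPolynomial (Sym2 (Fin n)) ℤ) :
    MvPolynomial.eval₂ (Int.castRingHom A) (algebraMap R A ∘ a) p =
      algebraMap R A (MvPolynomial.eval₂ (Int.castRingHom R) a p) := by
  rw [MvPolynomial.eval₂_comp_left (algebraMap R A) (Int.castRingHom R) a p]
  congr 1
  exact RingHom.ext_int _ _

theorem halfDisc_baseChangeForm {n : ℕ} (b : Module.Basis (Fin n) R M) (Q : QuadraticForm R M) :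
    halfDisc (b.baseChange A) (LinearEquiv.refl A A) (baseChangeForm A Q) =
      algebraMap R A (halfDisc b (LinearEquiv.refl R R) Q) := by
  rw [halfDisc, halfDisc, coeffs_baseChangeForm, eval_map_coeffs]

theorem disc_baseChangeForm {n : ℕ} (b : Module.Basis (Fin n) R M) (Q : QuadraticForm R M) :
    disc (b.baseChange A) (LinearEquiv.refl A A) (baseChangeForm A Q) =
      algebraMap R A (disc b (LinearEquiv.refl R R) Q) := by
  rw [disc, disc, coeffs_baseChangeForm, eval_map_coeffs]

theorem isSemiregular_baseChangeForm {n : ℕ} (b : Module.Basis (Fin n) R M) (Q : QuadraticForm R M)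
    (h : IsSemiregular b (LinearEquiv.refl R R) Q) :
    IsSemiregular (b.baseChange A) (LinearEquiv.refl A A) (baseChangeForm A Q) := by
  rw [IsSemiregular, halfDisc_baseChangeForm]
  exact IsUnit.map _ h

end BC

section Disc

variable {R : Type u} [CommRing R] {M : Type v} [AddCommGroup M] [Module R M]

/-- The discriminant is the determinant of the polar matrix. -/
theorem disc_eq_det {n : ℕ} (b : Module.Basis (Fin n) R M) (Q : QuadraticForm R M) :
    disc b (LinearEquiv.refl R R) Q = (Matrix.of fun i j => polar Q (b i) (b j)).det := by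
  rw [disc, discUniv]
  have := RingHom.map_det (MvPolynomial.eval₂Hom (Int.castRingHom R) (coeffs b (LinearEquiv.refl R R) Q))
    (univPolarMat n)
  rw [MvPolynomial.coe_eval₂Hom] at this
  rw [this]
  congr 1
  ext i j
  rw [RingHom.mapMatrix_apply, Matrix.map_apply, univPolarMat, Matrix.of_apply, Matrix.of_apply,
    MvPolynomial.coe_eval₂Hom]
  split_ifs with h
  · subst h
    rw [MvPolynomial.eval₂_mul, MvPolynomial.eval₂_X, coeffs_mk, if_pos rfl, polar_self]
    have : MvPolynomial.eval₂ (Int.castRingHom R) (coeffs b (LinearEquiv.refl R R) Q)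
        (2 : MvPolynomial (Sym2 (Fin n)) ℤ) = 2 := by
      rw [← MvPolynomial.coe_eval₂Hom]; exact map_ofNat _ 2
    rw [this, LinearEquiv.refl_apply, two_smul, two_mul]
  · rw [MvPolynomial.eval₂_X, coeffs_mk, if_neg h, LinearEquiv.refl_apply]

/-- `Q` is regular iff its discriminant in a basis is a unit. -/
theorem isRegular_iff {n : ℕ} (b : Module.Basis (Fin n) R M) (Q : QuadraticForm R M) :
    IsRegular Q ↔ IsUnit (disc b (LinearEquiv.refl R R) Q) := by
  rw [disc_eq_det, QuadGrp.IsRegular]
  have hmat : LinearMap.toMatrix b b.dualBasis (QuadraticMap.polarBilin Q) =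
      Matrix.of fun i j => polar Q (b i) (b j) := by
    ext i j
    rw [LinearMap.toMatrix_apply, Matrix.of_apply, Module.Basis.dualBasis_repr, polarBilin_apply_apply,
      polar_comm]
  rw [← hmat]
  constructor
  · intro h
    have := (LinearEquiv.ofBijective (QuadraticMap.polarBilin Q) h).isUnit_det b b.dualBasis
    exact this
  · intro h
    exact (LinearEquiv.ofIsUnitDet h).bijective

end Disc

section RegBC

variable {R : Type u} [CommRing R] {M : Type v} [AddCommGroup M] [Module R M] [Module.Free R M]
  [Module.Finite R M]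
variable (A : Type u') [CommRing A] [Algebra R A]

theorem isRegular_baseChangeForm (Q : QuadraticForm R M) (h : IsRegular Q) :
    IsRegular (baseChangeForm A Q) := by
  rcases subsingleton_or_nontrivial R with hR | hR
  · have : Subsingleton A := RingHom.codomain_trivial (algebraMap R A)
    have hs : Subsingleton (A ⊗[R] M) := Module.subsingleton A _
    refine ⟨fun x y _ => Subsingleton.elim _ _, fun f => ⟨0, ?_⟩⟩
    ext x
    exact Subsingleton.elim _ _
  · let b := Module.finBasis R M
    rw [isRegular_iff (b.baseChange A), disc_baseChangeForm]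
    exact ((isRegular_iff b Q).mp h).map _

end RegBC

end K917.Base
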