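import Groth.Agent.QuadGrp.K917.Cover
import Groth.Agent.QuadGrp.K918.HalfDisc
import Mathlib.LinearAlgebra.Basis.Fin

/-!
# fppf-local splitting of regular and semiregular quadratic forms
-/

set_option autoImplicit false
set_option linter.deprecated false
set_option linter.unusedSectionVars false

universe u v w u' v' w'

open QuadGrp QuadraticMap TensorProduct

namespace K917.Cover

open K917.Coef K917.Deform

section Field

variable {K : Type u} [Field K] {V : Type v} [AddCommGroup V] [Module K V]

/-- A vector in the radical kills the half-discriminant. -/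
theorem radical_eq_zero_of_halfDisc {m : ℕ} (b : Module.Basis (Fin (2 * m + 1)) K V) (Q : QuadraticForm K V)
    (h : halfDisc b (LinearEquiv.refl K K) Q ≠ 0) (v : V) (hv : Q v = 0) (hv' : ∀ w, polar Q v w = 0) :
    v = 0 := by
  by_contra hv0
  have hfin : Module.Finite K V := Module.Finite.of_basis b
  obtain ⟨N, hN⟩ := Submodule.exists_isCompl (K ∙ v)
  have hrank : Module.finrank K N = 2 * m := by
    have h1 := Submodule.finrank_add_eq_of_isCompl hN
    rw [finrank_span_singleton hv0, Module.finrank_eq_card_basis b, Fintype.card_fin] at h1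
    omega
  let bN : Module.Basis (Fin (2 * m)) K N := Module.finBasisOfFinrankEq K N hrank
  let b' : Module.Basis (Fin (2 * m + 1)) K V := Module.Basis.mkFinCons v bN
    (fun c x hx h0 => by
      by_contra hc
      have hmem : c • v ∈ N := by
        have : c • v = -x := by rw [← add_eq_zero_iff_eq_neg]; exact h0
        rw [this]; exact N.neg_mem hx
      have : c • v ∈ (⊥ : Submodule K V) := by
        rw [← hN.inf_eq_bot]
        exact ⟨Submodule.smul_mem _ _ (Submodule.mem_span_singleton_self v), hmem⟩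
      rw [Submodule.mem_bot, smul_eq_zero] at this
      exact this.elim hc hv0)
    (fun z => by
      have hz : z ∈ (K ∙ v) ⊔ N := by rw [hN.sup_eq_top]; trivial
      obtain ⟨y, hy, x, hx, hyx⟩ := Submodule.mem_sup.mp hz
      obtain ⟨c, rfl⟩ := Submodule.mem_span_singleton.mp hy
      exact ⟨-c, by rw [← hyx, neg_smul, add_assoc, add_comm x, ← add_assoc, add_neg_cancel, zero_add]; exact hx⟩)
  have hb0 : b' 0 = v := by simp [b']
  -- the half-discriminant in the basis `b'` vanishes
  have h1 : halfDisc b' (LinearEquiv.refl K K) Q = 0 := by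
    rw [K918.HalfDisc.halfDisc_eq_hdM b' (bilinLift Q) Q (bilinLift_spec Q),
      K918.HalfDisc.hdM_block (even_two_mul m)]
    · have : bilinLift Q (b' 0) (b' 0) = 0 := by
        have := congrArg (fun q : QuadraticForm K V => q (b' 0)) (bilinLift_spec Q)
        simp only [LinearMap.BilinMap.toQuadraticMap_apply] at this
        rw [this, hb0, hv]
      change bilinLift Q (b' 0) (b' 0) * _ = 0
      rw [this, zero_mul]
    · intro j
      have h2 : polar Q (b' 0) (b' j.succ) = 0 := by rw [hb0]; exact hv' _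
      conv at h2 => lhs; rw [← bilinLift_spec Q]
      rw [LinearMap.BilinMap.polar_toQuadraticMap] at h2
      exact h2
  -- transformation law
  let g : V →ₗ[K] V := (b.equiv b' (Equiv.refl _)).toLinearMap
  have hg : ∀ i, g (b i) = b' i := fun i => by simp [g]
  have h2 := K918.HalfDisc.halfDisc_comp (odd_two_mul_add_one m) b Q g
  have h3 : halfDisc b (LinearEquiv.refl K K) (Q.comp g) = halfDisc b' (LinearEquiv.refl K K) Q := by
    rw [halfDisc, halfDisc, Base.coeffs_comp b b' _ Q g hg]
  rw [h3, h1] at h2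
  have hdet : LinearMap.det g ≠ 0 := (LinearEquiv.isUnit_det' (b.equiv b' (Equiv.refl _))).ne_zero
  exact h (by
    rcases mul_eq_zero.mp h2.symm with h4 | h4
    · exact absurd (pow_eq_zero_iff two_ne_zero |>.mp h4) hdet
    · exact h4)

/-- A form with non-zero discriminant has zero radical. -/
theorem radical_eq_zero_of_disc {n : ℕ} (b : Module.Basis (Fin n) K V) (Q : QuadraticForm K V)
    (h : disc b (LinearEquiv.refl K K) Q ≠ 0) (v : V) (hv' : ∀ w, polar Q v w = 0) :
    v = 0 := by
  have hreg := (Base.isRegular_iff b Q).mpr (isUnit_iff_ne_zero.mpr h)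
  apply hreg.1
  rw [map_zero]
  ext w
  exact hv' w

end Field

section Geom

variable {R : Type u} [CommRing R]

theorem map_halfDisc {n : ℕ} {B : Type v} [CommRing B] (φ : R →+* B) (a : Sym2 (Fin n) → R) :
    halfDisc (Pi.basisFun B (Fin n)) (LinearEquiv.refl B B) (qf (φ ∘ a)) =
      φ (halfDisc (Pi.basisFun R (Fin n)) (LinearEquiv.refl R R) (qf a)) := by
  have h1 : halfDisc (Pi.basisFun B (Fin n)) (LinearEquiv.refl B B) (qf (φ ∘ a)) =
      MvPolynomial.eval₂ (Int.castRingHom B) (φ ∘ a) (halfDiscUniv n) := by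
    rw [halfDisc, show coeffs (Pi.basisFun B (Fin n)) (LinearEquiv.refl B B) (qf (φ ∘ a)) = φ ∘ a from cf_qf _]
  have h2 : halfDisc (Pi.basisFun R (Fin n)) (LinearEquiv.refl R R) (qf a) =
      MvPolynomial.eval₂ (Int.castRingHom R) a (halfDiscUniv n) := by
    rw [halfDisc, show coeffs (Pi.basisFun R (Fin n)) (LinearEquiv.refl R R) (qf a) = a from cf_qf _]
  rw [h1, h2, MvPolynomial.eval₂_comp_left φ (Int.castRingHom R) a]
  congr 1
  exact (RingHom.ext_int _ _)

theorem map_disc {n : ℕ} {B : Type v} [CommRing B] (φ : R →+* B) (a : Sym2 (Fin n) → R) :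
    disc (Pi.basisFun B (Fin n)) (LinearEquiv.refl B B) (qf (φ ∘ a)) =
      φ (disc (Pi.basisFun R (Fin n)) (LinearEquiv.refl R R) (qf a)) := by
  have h1 : disc (Pi.basisFun B (Fin n)) (LinearEquiv.refl B B) (qf (φ ∘ a)) =
      MvPolynomial.eval₂ (Int.castRingHom B) (φ ∘ a) (discUniv n) := by
    rw [disc, show coeffs (Pi.basisFun B (Fin n)) (LinearEquiv.refl B B) (qf (φ ∘ a)) = φ ∘ a from cf_qf _]
  have h2 : disc (Pi.basisFun R (Fin n)) (LinearEquiv.refl R R) (qf a) =
      MvPolynomial.eval₂ (Int.castRingHom R) a (discUniv n) := by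
    rw [disc, show coeffs (Pi.basisFun R (Fin n)) (LinearEquiv.refl R R) (qf a) = a from cf_qf _]
  rw [h1, h2, MvPolynomial.eval₂_comp_left φ (Int.castRingHom R) a]
  congr 1
  exact (RingHom.ext_int _ _)

theorem geomRad_of_semiregular {m : ℕ} (a : Sym2 (Fin (2 * m + 1)) → R)
    (h : IsUnit (halfDisc (Pi.basisFun R (Fin (2 * m + 1))) (LinearEquiv.refl R R) (qf a))) : GeomRad a := by
  intro K _ _ φ v hv hv'
  refine radical_eq_zero_of_halfDisc (Pi.basisFun K (Fin (2 * m + 1))) (qf (φ ∘ a)) ?_ v hv hv'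
  rw [map_halfDisc]
  exact (h.map φ).ne_zero

theorem geomRad_of_disc {n : ℕ} (a : Sym2 (Fin n) → R)
    (h : IsUnit (disc (Pi.basisFun R (Fin n)) (LinearEquiv.refl R R) (qf a))) : GeomRad a := by
  intro K _ _ φ v _ hv'
  refine radical_eq_zero_of_disc (Pi.basisFun K (Fin n)) (qf (φ ∘ a)) ?_ v hv'
  rw [map_disc]
  exact (h.map φ).ne_zero

end Geom

section Modules

variable {R : Type u} [CommRing R] {M : Type v} [AddCommGroup M] [Module R M] {n : ℕ}

/-- The coefficient vector of a form in a basis. -/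
noncomputable abbrev cfb (b : Module.Basis (Fin n) R M) (Q : QuadraticForm R M) : Sym2 (Fin n) → R :=
  coeffs b (LinearEquiv.refl R R) Q

theorem apply_equivFun_symm (b : Module.Basis (Fin n) R M) (Q : QuadraticForm R M) (x : Fin n → R) :
    Q (b.equivFun.symm x) = qf (cfb b Q) x := by
  rw [Module.Basis.equivFun_symm_apply, Base.apply_sum, qf_apply]

theorem disc_qf_cfb (b : Module.Basis (Fin n) R M) (Q : QuadraticForm R M) :
    disc (Pi.basisFun R (Fin n)) (LinearEquiv.refl R R) (qf (cfb b Q)) = disc b (LinearEquiv.refl R R) Q := by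
  rw [disc, disc, show coeffs (Pi.basisFun R (Fin n)) (LinearEquiv.refl R R) (qf (cfb b Q)) = cfb b Q from cf_qf _]

theorem halfDisc_qf_cfb (b : Module.Basis (Fin n) R M) (Q : QuadraticForm R M) :
    halfDisc (Pi.basisFun R (Fin n)) (LinearEquiv.refl R R) (qf (cfb b Q)) =
      halfDisc b (LinearEquiv.refl R R) Q := by
  rw [halfDisc, halfDisc, show coeffs (Pi.basisFun R (Fin n)) (LinearEquiv.refl R R) (qf (cfb b Q)) = cfb b Q from cf_qf _]

/-- Non-degeneracy implies the geometric radical condition. -/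
theorem geomRad_of_isNondeg (b : Module.Basis (Fin n) R M) (Q : QuadraticForm R M)
    (h : IsNondeg b (LinearEquiv.refl R R) Q) : GeomRad (cfb b Q) := by
  rcases Nat.even_or_odd n with hn | hn
  · apply geomRad_of_disc
    rw [disc_qf_cfb]
    exact (Base.isRegular_iff b Q).mp (h.1 hn)
  · have h2 := h.2 hn
    obtain ⟨m, rfl⟩ := hn
    apply geomRad_of_semiregular
    rw [halfDisc_qf_cfb]
    exact h2

/-- A matrix carrying the coefficients to the split ones gives a split basis. -/
theorem exists_isSplitBasis_of_matrix (b : Module.Basis (Fin n) R M) (Q : QuadraticForm R M)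
    (X : Matrix (Fin n) (Fin n) R) (hX : IsUnit X.det) (h : pull (cfb b Q) X = sc R n) :
    ∃ c : Module.Basis (Fin n) R M, Split.IsSplitBasis c Q ∧ b.toMatrix c = X := by
  have := Matrix.invertibleOfIsUnitDet X hX
  let e : (Fin n → R) ≃ₗ[R] M := (Matrix.toLinearEquiv' X this).trans b.equivFun.symm
  have he : ∀ x, e x = b.equivFun.symm (X.mulVec x) := fun x => rfl
  refine ⟨Module.Basis.ofEquivFun e.symm, fun x => ?_, ?_⟩
  · rw [← Module.Basis.equivFun_symm_apply, Module.Basis.equivFun_ofEquivFun, LinearEquiv.symm_symm, he,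
      apply_equivFun_symm, ← qf_pull, h, qf_sc]
  · ext i j
    rw [Module.Basis.toMatrix_apply, Module.Basis.coe_ofEquivFun, LinearEquiv.symm_symm]
    change b.repr (e (Pi.single j 1)) i = X i j
    rw [he, Matrix.mulVec_single_one, ← Module.Basis.equivFun_apply, LinearEquiv.apply_symm_apply]
    rfl

variable [Module.Free R M]

/-- fppf-local splitting. -/
theorem exists_split {R : Type u} [CommRing R] {M : Type v} [AddCommGroup M] [Module R M] [Module.Free R M]
    {n : ℕ} (b : Module.Basis (Fin n) R M) (Q : QuadraticForm R M)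
    (h : IsNondeg b (LinearEquiv.refl R R) Q) :
    ∃ (A : Type u) (_ : CommRing A) (_ : Algebra R A), Module.FaithfullyFlat R A ∧ Algebra.FinitePresentation R A ∧
      ∃ c : Module.Basis (Fin n) A (A ⊗[R] M), Split.IsSplitBasis c (baseChangeForm A Q) := by
  obtain ⟨A, _, _, hff, hfp, X, hX, hXc⟩ := exists_cover (cfb b Q) (geomRad_of_isNondeg b Q h)
  refine ⟨A, inferInstance, inferInstance, hff, hfp, ?_⟩
  obtain ⟨c, hc, -⟩ := exists_isSplitBasis_of_matrix (b.baseChange A) (baseChangeForm A Q) X hX (by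
    rw [cfb, Base.coeffs_baseChangeForm]; exact hXc)
  exact ⟨c, hc⟩

end Modules

end K917.Cover
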