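import Groth.Agent.QuadGrp.K917.Semireg
import Mathlib.LinearAlgebra.Matrix.SchurComplement

/-!
# An isometry commuting with the hyperbolic tori is a homothety
-/

set_option autoImplicit false
set_option linter.deprecated false
set_option linter.unusedSectionVars false

universe u v w u' v' w'

open QuadGrp QuadraticMap TensorProduct

namespace K917.Central

section Torus

variable {R : Type u} [CommRing R] {M : Type v} [AddCommGroup M] [Module R M]

theorem map_add' (Q : QuadraticForm R M) (x y : M) : Q (x + y) = Q x + Q y + polar Q x y := by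
  rw [polar]; ring

theorem polar_self' (Q : QuadraticForm R M) (v : M) : polar Q v v = 2 * Q v := by
  rw [polar_self, two_smul, two_mul]

/-- A hyperbolic pair. -/
structure IsHyp (Q : QuadraticForm R M) (e f : M) : Prop where
  he : Q e = 0
  hf : Q f = 0
  hef : polar Q e f = 1

variable {Q : QuadraticForm R M} {e f : M}

theorem IsHyp.fe (h : IsHyp Q e f) : polar Q f e = 1 := by rw [polar_comm, h.hef]
theorem IsHyp.ee (h : IsHyp Q e f) : polar Q e e = 0 := by rw [polar_self', h.he, mul_zero]
theorem IsHyp.ff (h : IsHyp Q e f) : polar Q f f = 0 := by rw [polar_self', h.hf, mul_zero]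
theorem IsHyp.symm (h : IsHyp Q e f) : IsHyp Q f e := ⟨h.hf, h.he, h.fe⟩

/-- The linear map `x ↦ x + (u-1) B(x,f) e + (v-1) B(x,e) f`. -/
noncomputable def tor (Q : QuadraticForm R M) (e f : M) (u v : R) : M →ₗ[R] M :=
  LinearMap.id + ((LinearMap.toSpanSingleton R M e).comp ((u - 1) • polarBilin Q f) +
    (LinearMap.toSpanSingleton R M f).comp ((v - 1) • polarBilin Q e))

theorem tor_apply (u v : R) (x : M) :
    tor Q e f u v x = x + (((u - 1) * polar Q f x) • e + ((v - 1) * polar Q e x) • f) := rfl

theorem IsHyp.polar_e_tor (h : IsHyp Q e f) (u v : R) (x : M) :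
    polar Q e (tor Q e f u v x) = v * polar Q e x := by
  rw [tor_apply, polar_add_right, polar_add_right, polar_smul_right, polar_smul_right, h.ee, h.hef, smul_eq_mul,
    smul_eq_mul]
  ring

theorem IsHyp.polar_f_tor (h : IsHyp Q e f) (u v : R) (x : M) :
    polar Q f (tor Q e f u v x) = u * polar Q f x := by
  rw [tor_apply, polar_add_right, polar_add_right, polar_smul_right, polar_smul_right, h.ff, h.fe, smul_eq_mul,
    smul_eq_mul]
  ring

theorem IsHyp.tor_tor (h : IsHyp Q e f) (u v u' v' : R) (x : M) :
    tor Q e f u v (tor Q e f u' v' x) = tor Q e f (u * u') (v * v') x := by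
  rw [tor_apply (x := tor Q e f u' v' x), h.polar_e_tor, h.polar_f_tor, tor_apply, tor_apply]
  module

theorem tor_one_one (x : M) : tor Q e f 1 1 x = x := by
  rw [tor_apply]; simp

theorem IsHyp.tor_isometry (h : IsHyp Q e f) {u v : R} (huv : u * v = 1) (x : M) :
    Q (tor Q e f u v x) = Q x := by
  rw [tor_apply, map_add', map_add', QuadraticMap.map_smul, QuadraticMap.map_smul, h.he, h.hf, polar_add_right,
    polar_smul_right, polar_smul_right, polar_smul_left, polar_smul_right, h.hef, polar_comm Q x e,
    polar_comm Q x f]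
  simp only [smul_eq_mul]
  linear_combination polar Q f x * polar Q e x * huv

/-- the hyperbolic torus as a linear automorphism -/
noncomputable def IsHyp.torEquiv (h : IsHyp Q e f) {u v : R} (huv : u * v = 1) : M ≃ₗ[R] M :=
  LinearEquiv.ofLinear (tor Q e f u v) (tor Q e f v u)
    (by ext x; rw [LinearMap.comp_apply, h.tor_tor, huv, mul_comm v u, huv, tor_one_one]; rfl)
    (by ext x; rw [LinearMap.comp_apply, h.tor_tor, huv, mul_comm v u, huv, tor_one_one]; rfl)

theorem IsHyp.torEquiv_apply (h : IsHyp Q e f) {u v : R} (huv : u * v = 1) (x : M) :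
    h.torEquiv huv x = tor Q e f u v x := rfl

theorem IsHyp.det_tor (h : IsHyp Q e f) {u v : R} (huv : u * v = 1) {n : ℕ} (c : Module.Basis (Fin n) R M) :
    LinearMap.det (tor Q e f u v) = 1 := by
  classical
  let U : Matrix (Fin n) (Fin 2) R := Matrix.of fun i k => c.repr (![e, f] k) i
  let V : Matrix (Fin 2) (Fin n) R := Matrix.of fun k j => ![(u - 1) * polar Q f (c j), (v - 1) * polar Q e (c j)] k
  have h1 : LinearMap.toMatrix c c (tor Q e f u v) = 1 + U * V := by
    ext i j
    rw [LinearMap.toMatrix_apply, tor_apply, Matrix.add_apply, Matrix.mul_apply, Fin.sum_univ_two, map_add, map_add,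
      map_smul, map_smul, Finsupp.add_apply, Finsupp.add_apply, Finsupp.smul_apply, Finsupp.smul_apply,
      Module.Basis.repr_self, Matrix.one_apply, Finsupp.single_apply]
    simp only [U, V, Matrix.of_apply, Matrix.cons_val_zero, Matrix.cons_val_one, smul_eq_mul]
    rw [mul_comm (c.repr e i), mul_comm (c.repr f i)]
    simp only [eq_comm]
  have hsum : ∀ (φ : M →ₗ[R] R) (x : M), ∑ j, φ (c j) * c.repr x j = φ x := by
    intro φ x
    conv_rhs => rw [← c.sum_repr x, map_sum]
    refine Finset.sum_congr rfl fun j _ => ?_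
    rw [map_smul, smul_eq_mul, mul_comm]
  have h2 : (1 + V * U : Matrix (Fin 2) (Fin 2) R) = !![u, 0; 0, v] := by
    have e0 : ∀ x, ∑ j, ((u - 1) * polar Q f (c j)) * c.repr x j = (u - 1) * polar Q f x :=
      fun x => hsum ((u - 1) • polarBilin Q f) x
    have e1 : ∀ x, ∑ j, ((v - 1) * polar Q e (c j)) * c.repr x j = (v - 1) * polar Q e x :=
      fun x => hsum ((v - 1) • polarBilin Q e) x
    ext k l
    rw [Matrix.add_apply, Matrix.mul_apply]
    fin_cases k <;> fin_cases l
    · simp only [U, V, Matrix.of_apply, Fin.zero_eta, Matrix.cons_val_zero, e0, h.fe]; simp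
    · simp only [U, V, Matrix.of_apply, Fin.zero_eta, Fin.mk_one, Matrix.cons_val_zero, Matrix.cons_val_one, e0, h.ff]; simp
    · simp only [U, V, Matrix.of_apply, Fin.zero_eta, Fin.mk_one, Matrix.cons_val_zero, Matrix.cons_val_one, e1, h.ee]; simp
    · have h3 := e1 f
      rw [h.hef] at h3
      change 1 + ∑ j, ((v - 1) * polar Q e (c j)) * c.repr f j = v
      rw [h3]; ring
  rw [← LinearMap.det_toMatrix c, h1, Matrix.det_one_add_mul_comm, h2, Matrix.det_fin_two_of, huv]; ring

end Torus

section Eigen

variable {R : Type u} [CommRing R] {M : Type v} [AddCommGroup M] [Module R M]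
variable {Q : QuadraticForm R M} {e f : M}

/-- A linear map commuting with a sufficiently generic hyperbolic torus preserves the line of `e`. -/
theorem IsHyp.eigen (h : IsHyp Q e f) {t : R} (ht : t * t = t + 1) (g : M →ₗ[R] M)
    (hg : ∀ x, g (tor Q e f t (t - 1) x) = tor Q e f t (t - 1) (g x)) :
    g e = polar Q f (g e) • e := by
  have h1 := hg e
  rw [tor_apply, tor_apply, h.ee, h.fe, mul_one, mul_zero, zero_smul, add_zero, map_add, map_smul] at h1
  -- `(t-1) g e = (t-1) B(f, ge) e + (t-2) B(e, ge) f`
  have h2 : (t - 1) • g e = ((t - 1) * polar Q f (g e)) • e + ((t - 1 - 1) * polar Q e (g e)) • f :=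
    add_left_cancel h1
  have h3 : polar Q e (g e) = 0 := by
    have := congrArg (fun x => polar Q e x) h2
    simp only [polar_smul_right, polar_add_right, h.ee, h.hef, smul_eq_mul] at this
    linear_combination this
  rw [h3, mul_zero, zero_smul, add_zero, mul_smul] at h2
  have h4 := congrArg (fun x => t • x) h2
  simp only [smul_smul] at h4
  have h5 : t * (t - 1) = 1 := by linear_combination ht
  rw [show t * ((t - 1) * polar Q f (g e)) = polar Q f (g e) by rw [← mul_assoc, h5, one_mul], h5, one_smul] at h4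
  exact h4

end Eigen

section SplitBasis

variable {R : Type u} [CommRing R] {M : Type v} [AddCommGroup M] [Module R M] {n : ℕ}
variable {Q : QuadraticForm R M} {c : Module.Basis (Fin n) R M}

theorem qval (hc : Split.IsSplitBasis c Q) (x : Fin n → R) : Q (c.equivFun.symm x) = splitForm R n x := by
  rw [Module.Basis.equivFun_symm_apply, hc]

theorem equivFun_symm_single (k : Fin n) : c.equivFun.symm (Pi.single k 1) = c k := by
  rw [Module.Basis.equivFun_symm_apply]
  simp [Pi.single_apply]

theorem ext0_single {k : Fin n} (a : ℕ) :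
    Split.ext0 R (Pi.single k 1 : Fin n → R) a = if a = k then 1 else 0 := by
  rw [Split.ext0]
  split_ifs with h1 h2 h2
  · have : k = ⟨a, h1⟩ := by ext; exact h2.symm
    rw [this, Pi.single_eq_same]
  · rw [Pi.single_eq_of_ne]
    intro h; apply h2; rw [← h]
  · exact absurd k.2 (by omega)
  · rfl

theorem ext0_add (x y : Fin n → R) (a : ℕ) : Split.ext0 R (x + y) a = Split.ext0 R x a + Split.ext0 R y a := by
  rw [Split.ext0, Split.ext0, Split.ext0]
  split_ifs
  · rfl
  · rw [add_zero]

theorem polar_splitForm (x y : Fin n → R) :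
    polar (splitForm R n) x y = (∑ i ∈ Finset.range (n / 2),
      (Split.ext0 R x (2 * i + n % 2) * Split.ext0 R y (2 * i + 1 + n % 2) +
        Split.ext0 R y (2 * i + n % 2) * Split.ext0 R x (2 * i + 1 + n % 2))) +
      if n % 2 = 1 then 2 * (Split.ext0 R x 0 * Split.ext0 R y 0) else 0 := by
  rw [polar, Split.splitForm_apply_range, Split.splitForm_apply_range, Split.splitForm_apply_range]
  simp only [ext0_add]
  have : ∑ i ∈ Finset.range (n / 2), (Split.ext0 R x (2 * i + n % 2) + Split.ext0 R y (2 * i + n % 2)) *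
      (Split.ext0 R x (2 * i + 1 + n % 2) + Split.ext0 R y (2 * i + 1 + n % 2)) =
      ∑ i ∈ Finset.range (n / 2), Split.ext0 R x (2 * i + n % 2) * Split.ext0 R x (2 * i + 1 + n % 2) +
      ∑ i ∈ Finset.range (n / 2), Split.ext0 R y (2 * i + n % 2) * Split.ext0 R y (2 * i + 1 + n % 2) +
      ∑ i ∈ Finset.range (n / 2), (Split.ext0 R x (2 * i + n % 2) * Split.ext0 R y (2 * i + 1 + n % 2) +
        Split.ext0 R y (2 * i + n % 2) * Split.ext0 R x (2 * i + 1 + n % 2)) := by
    rw [← Finset.sum_add_distrib, ← Finset.sum_add_distrib]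
    refine Finset.sum_congr rfl fun i _ => by ring
  rw [this]
  split_ifs <;> ring

/-- value of the form on a split basis vector -/
theorem val (hc : Split.IsSplitBasis c Q) (k : Fin n) :
    Q (c k) = if n % 2 = 1 ∧ (k : ℕ) = 0 then 1 else 0 := by
  rw [← equivFun_symm_single, qval hc, Split.splitForm_apply_range]
  have : ∑ i ∈ Finset.range (n / 2), Split.ext0 R (Pi.single k 1 : Fin n → R) (2 * i + n % 2) *
      Split.ext0 R (Pi.single k 1 : Fin n → R) (2 * i + 1 + n % 2) = 0 := by
    refine Finset.sum_eq_zero fun i _ => ?_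
    rw [ext0_single, ext0_single]
    by_cases h : 2 * i + n % 2 = k
    · rw [if_neg (show ¬ (2 * i + 1 + n % 2 = k) by omega), mul_zero]
    · rw [if_neg h, zero_mul]
  rw [this, zero_add, ext0_single]
  by_cases h1 : n % 2 = 1
  · by_cases h2 : (k : ℕ) = 0
    · simp [h1, h2]
    · rw [if_pos h1, if_neg (fun h => h2 h.symm), if_neg (fun h => h2 h.2), mul_zero]
  · rw [if_neg h1, if_neg (fun h => h1 h.1)]

/-- polar values on split basis vectors -/
theorem pval (hc : Split.IsSplitBasis c Q) (k l : Fin n) :
    polar Q (c k) (c l) = polar (splitForm R n) (Pi.single k 1) (Pi.single l 1) := by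
  rw [← equivFun_symm_single (c := c) k, ← equivFun_symm_single (c := c) l, polar, polar, ← map_add, qval hc, qval hc, qval hc]

theorem pval_pair (hc : Split.IsSplitBasis c Q) (i : ℕ) (hi : i < n / 2) :
    polar Q (c ⟨2 * i + n % 2, by omega⟩) (c ⟨2 * i + 1 + n % 2, by omega⟩) = 1 := by
  rw [pval hc, polar_splitForm, Finset.sum_eq_single_of_mem i (Finset.mem_range.mpr hi)]
  · simp only [ext0_single]
    have h1 : ¬ (2 * i + n % 2 = 2 * i + 1 + n % 2) := by omega
    have h2 : ¬ (0 = 2 * i + 1 + n % 2) := by omega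
    simp only [if_neg h1, if_neg h2]
    simp
  · intro j _ hj
    have h1 : ¬ (2 * j + n % 2 = 2 * i + n % 2) := by omega
    have h2 : ¬ (2 * j + 1 + n % 2 = 2 * i + n % 2) := by omega
    simp only [ext0_single, if_neg h1, if_neg h2]
    simp

theorem pval_zero (hc : Split.IsSplitBasis c Q) (k l : Fin n)
    (h : ∀ i, i < n / 2 → ¬ (2 * i + n % 2 = k ∧ 2 * i + 1 + n % 2 = l) ∧ ¬ (2 * i + n % 2 = l ∧ 2 * i + 1 + n % 2 = k))
    (h0 : n % 2 = 1 → ¬ ((k : ℕ) = 0 ∧ (l : ℕ) = 0)) :
    polar Q (c k) (c l) = 0 := by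
  rw [pval hc, polar_splitForm, Finset.sum_eq_zero, zero_add]
  · split_ifs with h1
    · simp only [ext0_single]
      have := h0 h1
      by_cases hk : (k : ℕ) = 0
      · rw [if_neg (show ¬ (0 = (l : ℕ)) from fun hl => this ⟨hk, hl.symm⟩)]; simp
      · rw [if_neg (show ¬ (0 = (k : ℕ)) from fun h => hk h.symm)]; simp
    · rfl
  · intro i hi
    have := h i (Finset.mem_range.mp hi)
    simp only [ext0_single]
    by_cases h1 : 2 * i + n % 2 = k
    · rw [if_neg (show ¬ (2 * i + 1 + n % 2 = (l : ℕ)) from fun h => this.1 ⟨h1, h⟩),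
        if_neg (show ¬ (2 * i + 1 + n % 2 = (k : ℕ)) by omega)]; simp
    · rw [if_neg h1]
      by_cases h2 : 2 * i + n % 2 = l
      · rw [if_neg (show ¬ (2 * i + 1 + n % 2 = (k : ℕ)) from fun h => this.2 ⟨h2, h⟩)]; simp
      · rw [if_neg h2]; simp

/-- The hyperbolic pairs of a split basis. -/
theorem isHyp_pair (hc : Split.IsSplitBasis c Q) (i : ℕ) (hi : i < n / 2) :
    IsHyp Q (c ⟨2 * i + n % 2, by omega⟩) (c ⟨2 * i + 1 + n % 2, by omega⟩) where
  he := by rw [val hc, if_neg]; simp only; omega
  hf := by rw [val hc, if_neg]; simp only; omega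
  hef := pval_pair hc i hi

end SplitBasis

section Homothety

variable {R : Type u} [CommRing R] {M : Type v} [AddCommGroup M] [Module R M] {n : ℕ}
variable {Q : QuadraticForm R M} {c : Module.Basis (Fin n) R M}

theorem coef_eq {a b a' b' : R} {k l : Fin n} (hkl : k ≠ l)
    (h : a • c k + b • c l = a' • c k + b' • c l) : a = a' ∧ b = b' := by
  have h1 := congrArg (fun x => c.repr x k) h
  have h2 := congrArg (fun x => c.repr x l) h
  simp only [map_add, map_smul, Module.Basis.repr_self, Finsupp.add_apply, Finsupp.smul_apply,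
    Finsupp.single_apply, if_neg hkl, if_neg hkl.symm, smul_eq_mul, mul_one, mul_zero, add_zero, zero_add,
    if_true] at h1 h2
  exact ⟨h1, h2⟩

/-- **An isometry commuting with all hyperbolic tori is a homothety** (rank at least three, split form). -/
theorem exists_homothety (hc : Split.IsSplitBasis c Q) (hn : 3 ≤ n) {t : R} (ht : t * t = t + 1)
    (g : M →ₗ[R] M) (hgQ : ∀ x, Q (g x) = Q x)
    (hg : ∀ e f, IsHyp Q e f → ∀ x, g (tor Q e f t (t - 1) x) = tor Q e f t (t - 1) (g x)) :
    ∃ α : R, ∀ x, g x = α • x := by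
  have hgB : ∀ x y, polar Q (g x) (g y) = polar Q x y := fun x y => by
    rw [polar, polar, ← map_add, hgQ, hgQ, hgQ]
  have eig : ∀ e f, IsHyp Q e f → g e = polar Q f (g e) • e := fun e f h => h.eigen ht g (hg e f h)
  -- it suffices to find a common eigenvalue on the basis
  suffices H : ∃ α : R, ∀ k, g (c k) = α • c k by
    obtain ⟨α, hα⟩ := H
    refine ⟨α, fun x => ?_⟩
    have : g = α • LinearMap.id := c.ext fun k => by rw [hα]; rfl
    rw [this]; rfl
  rcases Nat.mod_two_eq_zero_or_one n with hpar | hpar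
  · -- even rank
    -- eigenvalues along the pairs
    have two : 2 ≤ n / 2 := by omega
    let p : ∀ i, i < n / 2 → Fin n := fun i hi => ⟨2 * i + n % 2, by omega⟩
    let q : ∀ i, i < n / 2 → Fin n := fun i hi => ⟨2 * i + 1 + n % 2, by omega⟩
    have hyp : ∀ i hi, IsHyp Q (c (p i hi)) (c (q i hi)) := fun i hi => isHyp_pair hc i hi
    -- polar values between different pairs vanish
    have pp : ∀ i hi j hj, i ≠ j → polar Q (c (p i hi)) (c (p j hj)) = 0 := fun i hi j hj hij =>
      pval_zero hc _ _ (fun k hk => by simp only [p]; omega) (by omega)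
    have pq : ∀ i hi j hj, i ≠ j → polar Q (c (p i hi)) (c (q j hj)) = 0 := fun i hi j hj hij =>
      pval_zero hc _ _ (fun k hk => by simp only [p, q]; omega) (by omega)
    have qq : ∀ i hi j hj, i ≠ j → polar Q (c (q i hi)) (c (q j hj)) = 0 := fun i hi j hj hij =>
      pval_zero hc _ _ (fun k hk => by simp only [q]; omega) (by omega)
    -- `p_i + p_j` and `q_i`
    have E1 : ∀ i hi j hj, i ≠ j → IsHyp Q (c (p i hi) + c (p j hj)) (c (q i hi)) := fun i hi j hj hij =>
      ⟨by rw [map_add', (hyp i hi).he, (hyp j hj).he, pp i hi j hj hij]; ring, (hyp i hi).hf, by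
        rw [polar_add_left, (hyp i hi).hef, pq j hj i hi hij.symm, add_zero]⟩
    have E2 : ∀ i hi j hj, i ≠ j → IsHyp Q (c (p i hi) + c (q j hj)) (c (q i hi)) := fun i hi j hj hij =>
      ⟨by rw [map_add', (hyp i hi).he, (hyp j hj).hf, pq i hi j hj hij]; ring, (hyp i hi).hf, by
        rw [polar_add_left, (hyp i hi).hef, qq j hj i hi hij.symm, add_zero]⟩
    obtain ⟨α, hα⟩ : ∃ α : R, g (c (p 0 (by omega))) = α • c (p 0 (by omega)) := ⟨_, eig _ _ (hyp 0 (by omega))⟩
    have ne1 : ∀ i hi j hj, i ≠ j → p i hi ≠ p j hj := fun i hi j hj hij h => hij (by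
      have := congrArg Fin.val h; simp only [p] at this; omega)
    have ne2 : ∀ i hi j hj, p i hi ≠ q j hj := fun i hi j hj h => by
      have := congrArg Fin.val h; simp only [p, q] at this; omega
    have step1 : ∀ i hi j hj, i ≠ j → g (c (p i hi)) = α • c (p i hi) → g (c (p j hj)) = α • c (p j hj) := by
      intro i hi j hj hij h
      have h1 := eig _ _ (E1 i hi j hj hij)
      have h2 := eig _ _ (hyp j hj)
      rw [map_add, h, h2, smul_add] at h1
      obtain ⟨h3, h4⟩ := coef_eq (ne1 i hi j hj hij) h1
      rw [h2, h4, ← h3]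
    have step2 : ∀ i hi j hj, i ≠ j → g (c (p i hi)) = α • c (p i hi) → g (c (q j hj)) = α • c (q j hj) := by
      intro i hi j hj hij h
      have h1 := eig _ _ (E2 i hi j hj hij)
      have h2 := eig _ _ (hyp j hj).symm
      rw [map_add, h, h2, smul_add] at h1
      obtain ⟨h3, h4⟩ := coef_eq (ne2 i hi j hj) h1
      rw [h2, h4, ← h3]
    have allp : ∀ i hi, g (c (p i hi)) = α • c (p i hi) := fun i hi => by
      by_cases h0 : i = 0
      · subst h0; exact hα
      · exact step1 0 (by omega) i hi (Ne.symm h0) hα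
    have allq : ∀ i hi, g (c (q i hi)) = α • c (q i hi) := fun i hi => by
      by_cases h0 : i = 0
      · subst h0; exact step2 1 (by omega) 0 hi (by omega) (allp 1 (by omega))
      · exact step2 0 (by omega) i hi (Ne.symm h0) hα
    refine ⟨α, fun k => ?_⟩
    rcases Nat.mod_two_eq_zero_or_one (k : ℕ) with hk | hk
    · have : k = p ((k : ℕ) / 2) (by omega) := by ext; simp only [p]; omega
      rw [this]; exact allp _ (by omega)
    · have : k = q ((k : ℕ) / 2) (by omega) := by ext; simp only [q]; omega
      rw [this]; exact allq _ (by omega)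
  · -- odd rank
    have one : 1 ≤ n / 2 := by omega
    let p : ∀ i, i < n / 2 → Fin n := fun i hi => ⟨2 * i + n % 2, by omega⟩
    let q : ∀ i, i < n / 2 → Fin n := fun i hi => ⟨2 * i + 1 + n % 2, by omega⟩
    let z : Fin n := ⟨0, by omega⟩
    have hyp : ∀ i hi, IsHyp Q (c (p i hi)) (c (q i hi)) := fun i hi => isHyp_pair hc i hi
    have zp : ∀ i hi, polar Q (c z) (c (p i hi)) = 0 := fun i hi =>
      pval_zero hc _ _ (fun k hk => by simp only [p, z]; omega) (fun _ => by simp only [p, z]; omega)
    have zq : ∀ i hi, polar Q (c z) (c (q i hi)) = 0 := fun i hi =>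
      pval_zero hc _ _ (fun k hk => by simp only [q, z]; omega) (fun _ => by simp only [q, z]; omega)
    have zz : Q (c z) = 1 := by rw [val hc, if_pos]; exact ⟨hpar, rfl⟩
    -- `q_i + z - p_i` and `p_i` form a hyperbolic pair
    have E : ∀ i hi, IsHyp Q (c (q i hi) + c z - c (p i hi)) (c (p i hi)) := fun i hi => ⟨by
        have h1 := (hyp i hi).he
        have h2 := (hyp i hi).hf
        have h3 := (hyp i hi).fe
        rw [sub_eq_add_neg, map_add', map_add', QuadraticMap.map_neg, polar_neg_right, polar_add_left, h1, h2, zz,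
          h3, zp i hi, polar_comm Q (c (q i hi)) (c z), zq i hi]
        ring, (hyp i hi).he, by
        rw [polar_sub_left, polar_add_left, (hyp i hi).fe, zp i hi, (hyp i hi).ee]; ring⟩
    have key : ∀ i hi, ∃ α : R, g (c z) = α • c z ∧ g (c (p i hi)) = α • c (p i hi) ∧ g (c (q i hi)) = α • c (q i hi) := by
      intro i hi
      have h1 := eig _ _ (E i hi)
      have h2 := eig _ _ (hyp i hi)
      have h3 := eig _ _ (hyp i hi).symm
      set α := polar Q (c (p i hi)) (g (c (q i hi) + c z - c (p i hi))) with hα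
      set a := polar Q (c (q i hi)) (g (c (p i hi))) with ha
      set b := polar Q (c (p i hi)) (g (c (q i hi))) with hb
      have hz : g (c z) = (α - b) • c (q i hi) + α • c z + (a - α) • c (p i hi) := by
        have h5 : g (c z) = g (c (q i hi) + c z - c (p i hi)) - g (c (q i hi)) + g (c (p i hi)) := by
          rw [map_sub, map_add]; abel
        rw [h5, h1, h2, h3]
        module
      have hab : a * b = 1 := by
        have := hgB (c (p i hi)) (c (q i hi))
        rw [h2, h3, polar_smul_left, polar_smul_right, (hyp i hi).hef] at this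
        simpa using this
      have e1 : α - b = 0 := by
        have := hgB (c z) (c (p i hi))
        rw [zp i hi, h2, hz, polar_smul_right, polar_add_left, polar_add_left, polar_smul_left, polar_smul_left,
          polar_smul_left, (hyp i hi).fe, zp i hi, (hyp i hi).ee] at this
        simp only [smul_eq_mul] at this
        linear_combination b * this - (α - b) * hab
      have e2 : a - α = 0 := by
        have := hgB (c z) (c (q i hi))
        rw [zq i hi, h3, hz, polar_smul_right, polar_add_left, polar_add_left, polar_smul_left, polar_smul_left,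
          polar_smul_left, (hyp i hi).ff, zq i hi, (hyp i hi).hef] at this
        simp only [smul_eq_mul] at this
        linear_combination a * this - (a - α) * hab
      rw [e1, e2, zero_smul, zero_smul, zero_add, add_zero] at hz
      refine ⟨α, hz, ?_, ?_⟩
      · rw [h2, sub_eq_zero.mp e2]
      · rw [h3, sub_eq_zero.mp e1]
    obtain ⟨α, hα, -, -⟩ := key 0 (by omega)
    refine ⟨α, fun k => ?_⟩
    by_cases hk0 : (k : ℕ) = 0
    · have : k = z := by ext; exact hk0
      rw [this]; exact hα
    · -- the eigenvalue of `c z` is unique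
      have uniq : ∀ β : R, g (c z) = β • c z → β = α := fun β hβ => by
        have := congrArg (fun x => c.repr x z) (hβ.symm.trans hα)
        simpa using this
      rcases Nat.mod_two_eq_zero_or_one (k : ℕ) with hk | hk
      · have hkq : k = q (((k : ℕ) - 2) / 2) (by omega) := by ext; simp only [q]; omega
        obtain ⟨β, h1, -, h3⟩ := key (((k : ℕ) - 2) / 2) (by omega)
        rw [hkq]
        rw [← uniq β h1]; exact h3
      · have hkp : k = p (((k : ℕ) - 1) / 2) (by omega) := by ext; simp only [p]; omega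
        obtain ⟨β, h1, h2, -⟩ := key (((k : ℕ) - 1) / 2) (by omega)
        rw [hkp]
        rw [← uniq β h1]; exact h2

end Homothety

end K917.Central
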