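import Mathlib.RingTheory.Smooth.Basic
import Mathlib.RingTheory.FinitePresentation
import Mathlib.RingTheory.Smooth.Flat
import Mathlib.Algebra.MvPolynomial.CommRing

/-!
# The universal algebra of a polynomial system, its points, and infinitesimal lifting
-/

set_option autoImplicit false

universe u v w

open MvPolynomial

namespace K917.PolySys

variable {R : Type u} [CommRing R] {σ : Type v} {ι : Type w} (f : ι → MvPolynomial σ R)

/-- The universal algebra of the system `f = 0`. -/
abbrev Alg : Type (max u v) := MvPolynomial σ R ⧸ Ideal.span (Set.range f)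

/-- The universal solution. -/
noncomputable def pt (s : σ) : Alg f := Ideal.Quotient.mkₐ R _ (X s)

theorem mkₐ_eq_aeval : Ideal.Quotient.mkₐ R (Ideal.span (Set.range f)) = aeval (pt f) := by
  ext s
  rw [aeval_X]; rfl

theorem pt_spec (i : ι) : aeval (pt f) (f i) = 0 := by
  rw [← mkₐ_eq_aeval, Ideal.Quotient.mkₐ_eq_mk, Ideal.Quotient.eq_zero_iff_mem]
  exact Ideal.subset_span ⟨i, rfl⟩

variable {B : Type*} [CommRing B] [Algebra R B]

/-- The algebra map defined by a solution. -/
noncomputable def lift (x : σ → B) (hx : ∀ i, aeval x (f i) = 0) : Alg f →ₐ[R] B :=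
  Ideal.Quotient.liftₐ _ (aeval x) (fun a ha => by
    have : Ideal.span (Set.range f) ≤ RingHom.ker (aeval (R := R) x) := by
      rw [Ideal.span_le]
      rintro _ ⟨i, rfl⟩
      exact hx i
    exact this ha)

@[simp] theorem lift_pt (x : σ → B) (hx : ∀ i, aeval x (f i) = 0) (s : σ) : lift f x hx (pt f s) = x s := by
  change (aeval x) (X s) = x s
  rw [aeval_X]

theorem hom_ext {g h : Alg f →ₐ[R] B} (H : ∀ s, g (pt f s) = h (pt f s)) : g = h := by
  apply Ideal.Quotient.algHom_ext
  ext s
  exact H s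

theorem aeval_comp_pt (g : Alg f →ₐ[R] B) (p : MvPolynomial σ R) :
    aeval (fun s => g (pt f s)) p = g (aeval (pt f) p) := by
  have : (aeval (fun s => g (pt f s)) : MvPolynomial σ R →ₐ[R] B) = g.comp (aeval (pt f)) := by
    ext s; simp
  rw [this]; rfl

theorem sol_of_hom (g : Alg f →ₐ[R] B) (i : ι) : aeval (fun s => g (pt f s)) (f i) = 0 := by
  rw [aeval_comp_pt, pt_spec, map_zero]

/-- Points of the universal algebra are the solutions. -/
noncomputable def pointsEquiv (B : Type*) [CommRing B] [Algebra R B] :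
    (Alg f →ₐ[R] B) ≃ {x : σ → B // ∀ i, aeval x (f i) = 0} where
  toFun g := ⟨fun s => g (pt f s), sol_of_hom f g⟩
  invFun x := lift f x.1 x.2
  left_inv g := hom_ext f fun s => by rw [lift_pt]
  right_inv x := Subtype.ext (funext fun s => lift_pt f x.1 x.2 s)

theorem finitePresentation [Finite σ] [Finite ι] : Algebra.FinitePresentation R (Alg f) :=
  Algebra.FinitePresentation.quotient (Submodule.fg_span (Set.finite_range f))

/-- Formal smoothness from lifting of solutions along square-zero ideals. -/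
theorem formallySmooth_of
    (H : ∀ (B : Type (max u v)) [CommRing B] [Algebra R B] (I : Ideal B), I ^ 2 = ⊥ →
      ∀ x : σ → B, (∀ i, aeval x (f i) ∈ I) →
        ∃ y : σ → B, (∀ s, y s - x s ∈ I) ∧ ∀ i, aeval y (f i) = 0) :
    Algebra.FormallySmooth R (Alg f) := by
  apply Algebra.FormallySmooth.of_comp_surjective
  intro B _ _ I hI g
  obtain ⟨x, hx⟩ : ∃ x : σ → B, ∀ s, Ideal.Quotient.mkₐ R I (x s) = g (pt f s) :=
    ⟨fun s => (Ideal.Quotient.mkₐ_surjective R I (g (pt f s))).choose,
      fun s => (Ideal.Quotient.mkₐ_surjective R I (g (pt f s))).choose_spec⟩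
  have hxI : ∀ i, aeval x (f i) ∈ I := fun i => by
    rw [← Ideal.Quotient.eq_zero_iff_mem, ← Ideal.Quotient.mkₐ_eq_mk R I]
    have : (Ideal.Quotient.mkₐ R I).comp (aeval x) = (aeval (fun s => g (pt f s)) : MvPolynomial σ R →ₐ[R] _) := by
      ext s; simp [← hx]
    rw [← AlgHom.comp_apply, this, sol_of_hom]
  obtain ⟨y, hy1, hy2⟩ := H B I hI x hxI
  refine ⟨lift f y hy2, hom_ext f fun s => ?_⟩
  rw [AlgHom.comp_apply, lift_pt, ← hx, Ideal.Quotient.mkₐ_eq_mk]
  exact (Ideal.Quotient.eq).mpr (hy1 s)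

/-- Formal unramifiedness/smoothness combined: smooth algebra. -/
theorem smooth_of [Finite σ] [Finite ι]
    (H : ∀ (B : Type (max u v)) [CommRing B] [Algebra R B] (I : Ideal B), I ^ 2 = ⊥ →
      ∀ x : σ → B, (∀ i, aeval x (f i) ∈ I) →
        ∃ y : σ → B, (∀ s, y s - x s ∈ I) ∧ ∀ i, aeval y (f i) = 0) :
    Algebra.Smooth R (Alg f) where
  formallySmooth := formallySmooth_of f H
  finitePresentation := finitePresentation f

/-- Surjectivity on spectra from points over algebraically closed (or any) fields. -/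
theorem comap_surjective_of
    (H : ∀ p : PrimeSpectrum R, ∃ (K : Type (max u v)) (_ : Field K) (_ : Algebra R K),
      RingHom.ker (algebraMap R K) = p.asIdeal ∧ ∃ x : σ → K, ∀ i, aeval x (f i) = 0) :
    Function.Surjective (PrimeSpectrum.comap (algebraMap R (Alg f))) := by
  intro p
  obtain ⟨K, _, _, hK, x, hx⟩ := H p
  refine ⟨⟨RingHom.ker (lift f x hx : Alg f →+* K), RingHom.ker_isPrime _⟩, ?_⟩
  ext r
  rw [PrimeSpectrum.comap_asIdeal, Ideal.mem_comap, RingHom.mem_ker]
  change (lift f x hx) (algebraMap R _ r) = 0 ↔ _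
  rw [AlgHom.commutes, ← hK, RingHom.mem_ker]

end K917.PolySys
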