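import Groth.Agent.QuadGrp.K917.Deform
import Groth.Agent.QuadGrp.K917.PolySys
import Mathlib.RingTheory.Flat.FaithfullyFlat.Algebra
import Mathlib.RingTheory.AdjoinRoot
import Mathlib.FieldTheory.IsAlgClosed.AlgebraicClosure
import Mathlib.LinearAlgebra.Matrix.Charpoly.Coeff

/-!
# fppf-local splitting of quadratic forms whose geometric fibres have zero radical
-/

set_option autoImplicit false
set_option linter.deprecated false
set_option linter.unusedSectionVars false

universe u v w u' v' w'

open QuadGrp QuadraticMap TensorProduct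

namespace K917.Cover

open K917.Coef K917.Deform

variable {R : Type u} [CommRing R] {n : ℕ}

/-- variables of the transporter: the matrix entries, the multiplier `c` and the inverse of `c * det`. -/
abbrev Var (n : ℕ) := (Fin n × Fin n) ⊕ Bool

/-- the universal matrix -/
noncomputable def univMat (R : Type u) [CommRing R] (n : ℕ) : Matrix (Fin n) (Fin n) (MvPolynomial (Var n) R) :=
  Matrix.of fun i j => MvPolynomial.X (Sum.inl (i, j))

/-- The equations of the scheme of similitudes `c · a(X x) = a'(x)`. -/
noncomputable def simEq (a a' : Sym2 (Fin n) → R) : Sym2 (Fin n) ⊕ Unit → MvPolynomial (Var n) R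
  | Sum.inl s => MvPolynomial.X (Sum.inr false) * pull (algebraMap R (MvPolynomial (Var n) R) ∘ a) (univMat R n) s -
      algebraMap R (MvPolynomial (Var n) R) (a' s)
  | Sum.inr _ => MvPolynomial.X (Sum.inr true) * (MvPolynomial.X (Sum.inr false) * (univMat R n).det) - 1

section Points

variable {B : Type*} [CommRing B] [Algebra R B]

/-- the matrix of a point -/
def matOf (x : Var n → B) : Matrix (Fin n) (Fin n) B := Matrix.of fun i j => x (Sum.inl (i, j))

theorem univMat_map (x : Var n → B) :
    (univMat R n).map (MvPolynomial.aeval (R := R) x) = matOf x := by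
  ext i j
  rw [Matrix.map_apply, univMat, Matrix.of_apply, MvPolynomial.aeval_X]; rfl

theorem aeval_simEq_inl (a a' : Sym2 (Fin n) → R) (x : Var n → B) (s : Sym2 (Fin n)) :
    MvPolynomial.aeval x (simEq a a' (Sum.inl s)) =
      (x (Sum.inr false) • pull (algebraMap R B ∘ a) (matOf x)) s - (algebraMap R B ∘ a') s := by
  rw [simEq, map_sub, map_mul, MvPolynomial.aeval_X, AlgHom.commutes, Pi.smul_apply, smul_eq_mul]
  congr 2
  have := congrFun (map_pull (MvPolynomial.aeval (R := R) x : MvPolynomial (Var n) R →+* B)
    (algebraMap R (MvPolynomial (Var n) R) ∘ a) (univMat R n)) s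
  rw [Function.comp_apply] at this
  have key : algebraMap R B ∘ a = ((MvPolynomial.aeval (R := R) x : MvPolynomial (Var n) R →+* B) :
      MvPolynomial (Var n) R → B) ∘ (algebraMap R (MvPolynomial (Var n) R) ∘ a) := by
    funext t
    simp only [Function.comp_apply, RingHom.coe_coe, AlgHom.commutes]
  rw [key, ← univMat_map (R := R) x]
  exact this

theorem aeval_simEq_inr (a a' : Sym2 (Fin n) → R) (x : Var n → B) (t : Unit) :
    MvPolynomial.aeval x (simEq a a' (Sum.inr t)) =
      x (Sum.inr true) * (x (Sum.inr false) * (matOf x).det) - 1 := by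
  rw [simEq, map_sub, map_mul, map_mul, MvPolynomial.aeval_X, MvPolynomial.aeval_X, map_one, ← univMat_map (R := R) x,
    ← AlgHom.mapMatrix_apply, ← AlgHom.map_det]

end Points

/-- The transporter algebra is smooth as soon as the target form has the deformation property. -/
theorem smooth (a a' : Sym2 (Fin n) → R) (ha' : DefProp a') :
    Algebra.Smooth R (PolySys.Alg (simEq a a')) := by
  refine PolySys.smooth_of _ ?_
  intro B _ _ I hI x hx
  have h1 : ∀ s, (x (Sum.inr false) • pull (algebraMap R B ∘ a) (matOf x)) s - (algebraMap R B ∘ a') s ∈ I :=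
    fun s => by rw [← aeval_simEq_inl]; exact hx _
  have h2 : x (Sum.inr true) * (x (Sum.inr false) * (matOf x).det) - 1 ∈ I := by
    rw [← aeval_simEq_inr a a' x ()]; exact hx _
  obtain ⟨Y, c', hY, hc, hYc⟩ := (ha'.map (algebraMap R B)).lift hI (algebraMap R B ∘ a) (algebraMap R B ∘ a')
    (matOf x) (x (Sum.inr false)) h1
  -- the determinant of the lift
  have hdet : Y.det - (matOf x).det ∈ I := by
    rw [← Ideal.Quotient.eq, RingHom.map_det, RingHom.map_det]
    congr 1
    ext i j
    exact Ideal.Quotient.eq.mpr (hY i j)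
  set e := x (Sum.inr true) with he
  have h3 : e * (c' * Y.det) - 1 ∈ I := by
    have : e * (c' * Y.det) - 1 = (e * (x (Sum.inr false) * (matOf x).det) - 1) +
        (e * Y.det * (c' - x (Sum.inr false)) + e * x (Sum.inr false) * (Y.det - (matOf x).det)) := by ring
    rw [this]
    exact Ideal.add_mem _ h2 (Ideal.add_mem _ (Ideal.mul_mem_left _ _ hc) (Ideal.mul_mem_left _ _ hdet))
  set δ := e * (c' * Y.det) - 1 with hδ
  have hδ2 : δ * δ = 0 := mul_eq_zero_of_mem hI h3 h3
  refine ⟨Sum.elim (fun p => Y p.1 p.2) (fun b => if b then e * (1 - δ) else c'), ?_, ?_⟩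
  · rintro (⟨i, j⟩ | b)
    · exact hY i j
    · cases b
      · exact hc
      · simp only [Sum.elim_inr, if_true]
        have : e * (1 - δ) - x (Sum.inr true) = -(e * δ) := by rw [← he]; ring
        rw [this, neg_mem_iff]
        exact Ideal.mul_mem_left _ _ h3
  · have hmat : matOf (Sum.elim (fun p => Y p.1 p.2) (fun b => if b then e * (1 - δ) else c') : Var n → B) = Y := by
      ext i j; rfl
    rintro (s | t)
    · rw [aeval_simEq_inl, hmat]
      simp only [Sum.elim_inr, Bool.false_eq_true, if_false]
      rw [hYc, sub_self]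
    · rw [aeval_simEq_inr, hmat]
      simp only [Sum.elim_inr, Bool.false_eq_true, if_false, if_true]
      have : e * (1 - δ) * (c' * Y.det) - 1 = (e * (c' * Y.det) - 1) - δ * (e * (c' * Y.det)) := by ring
      rw [this, ← hδ]
      have : e * (c' * Y.det) = δ + 1 := by rw [hδ]; ring
      rw [this]
      linear_combination -hδ2

/-- geometric radical condition -/
def GeomRad (a : Sym2 (Fin n) → R) : Prop :=
  ∀ (K : Type u) [Field K] [IsAlgClosed K] (φ : R →+* K) (v : Fin n → K), qf (φ ∘ a) v = 0 →
    (∀ w, polar (qf (φ ∘ a)) v w = 0) → v = 0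

theorem exists_matrix_algClosed {K : Type u} [Field K] [IsAlgClosed K] (a : Sym2 (Fin n) → K)
    (h : ∀ v : Fin n → K, qf a v = 0 → (∀ w, polar (qf a) v w = 0) → v = 0) :
    ∃ X : Matrix (Fin n) (Fin n) K, IsUnit X.det ∧ pull a X = sc K n := by
  obtain ⟨c, hc⟩ := Split.exists_isSplitBasis n (by rw [Module.finrank_fin_fun]) (qf a) h
  refine ⟨(Pi.basisFun K (Fin n)).toMatrix c, ?_, ?_⟩
  · have := Module.Basis.invertibleToMatrix (Pi.basisFun K (Fin n)) c
    exact (Matrix.isUnit_iff_isUnit_det _).mp (isUnit_of_invertible _)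
  · rw [qf_ext_iff]
    intro x
    rw [qf_pull, qf_sc, ← hc x]
    congr 1
    funext i
    rw [Matrix.mulVec, dotProduct, Finset.sum_apply]
    refine Finset.sum_congr rfl fun j _ => ?_
    rw [Module.Basis.toMatrix_apply, Pi.basisFun_repr, Pi.smul_apply, smul_eq_mul, mul_comm]

/-- A smooth cover over which the form becomes similar to the split form. -/
theorem exists_smooth_cover (a : Sym2 (Fin n) → R) (ha : GeomRad a) :
    ∃ (A : Type u) (_ : CommRing A) (_ : Algebra R A), Module.FaithfullyFlat R A ∧ Algebra.Smooth R A ∧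
      ∃ (X : Matrix (Fin n) (Fin n) A) (c : A), IsUnit X.det ∧ IsUnit c ∧ c • pull (algebraMap R A ∘ a) X = sc A n := by
  refine ⟨PolySys.Alg (simEq a (sc R n)), inferInstance, inferInstance, ?_, smooth _ _ defProp_sc, ?_⟩
  · have hsm : Algebra.Smooth R (PolySys.Alg (simEq a (sc R n))) := smooth _ _ defProp_sc
    have hfl : Module.Flat R (PolySys.Alg (simEq a (sc R n))) := inferInstance
    apply Module.FaithfullyFlat.of_comap_surjective
    apply PolySys.comap_surjective_of
    intro p
    let K := AlgebraicClosure p.asIdeal.ResidueField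
    have hK : RingHom.ker (algebraMap R K) = p.asIdeal := by
      rw [IsScalarTower.algebraMap_eq R p.asIdeal.ResidueField K,
        RingHom.ker_comp_of_injective _ (FaithfulSMul.algebraMap_injective p.asIdeal.ResidueField K)]
      exact Ideal.ker_algebraMap_residueField _
    obtain ⟨X, hX, hXa⟩ := exists_matrix_algClosed (algebraMap R K ∘ a) (ha K (algebraMap R K))
    refine ⟨K, inferInstance, inferInstance, hK, ?_⟩
    refine ⟨Sum.elim (fun p => X p.1 p.2) (fun b => if b then (X.det)⁻¹ else 1), ?_⟩
    have hmat : matOf (Sum.elim (fun p => X p.1 p.2) (fun b => if b then (X.det)⁻¹ else 1) : Var n → K) = X := by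
      ext i j; rfl
    rintro (s | t)
    · rw [aeval_simEq_inl, hmat]
      simp only [Sum.elim_inr, Bool.false_eq_true, if_false]
      rw [one_smul, hXa, map_sc, sub_self]
    · rw [aeval_simEq_inr, hmat]
      simp only [Sum.elim_inr, Bool.false_eq_true, if_false, if_true]
      rw [one_mul, inv_mul_cancel₀ hX.ne_zero, sub_self]
  · let f := simEq a (sc R n)
    have h1 := fun s => PolySys.pt_spec f (Sum.inl s)
    have h2 := PolySys.pt_spec f (Sum.inr ())
    refine ⟨matOf (PolySys.pt f), PolySys.pt f (Sum.inr false), ?_, ?_, ?_⟩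
    · rw [aeval_simEq_inr] at h2
      exact IsUnit.of_mul_eq_one (PolySys.pt f (Sum.inr true) * PolySys.pt f (Sum.inr false))
        (by linear_combination h2)
    · rw [aeval_simEq_inr] at h2
      exact IsUnit.of_mul_eq_one (PolySys.pt f (Sum.inr true) * (matOf (PolySys.pt f)).det)
        (by linear_combination h2)
    · funext s
      have := h1 s
      rw [aeval_simEq_inl, sub_eq_zero] at this
      rw [this, map_sc]

/-- adjoining a square root is faithfully flat -/
theorem faithfullyFlat_adjoin_sqrt {A : Type u} [CommRing A] (c : A) :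
    Module.FaithfullyFlat A (AdjoinRoot (Polynomial.X ^ 2 - Polynomial.C c : Polynomial A)) := by
  have hm : (Polynomial.X ^ 2 - Polynomial.C c : Polynomial A).Monic := Polynomial.monic_X_pow_sub_C c two_ne_zero
  have hf := hm.free_adjoinRoot
  rcases subsingleton_or_nontrivial A with hA | hA
  · apply Module.FaithfullyFlat.of_comap_surjective
    intro p
    exact absurd (Subsingleton.elim (1 : A) 0) (fun h => p.2.ne_top ((Ideal.eq_top_iff_one _).mpr (by rw [h]; exact Ideal.zero_mem _)))
  · have : Nontrivial (AdjoinRoot (Polynomial.X ^ 2 - Polynomial.C c : Polynomial A)) := by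
      have hd : (AdjoinRoot.powerBasis' hm).dim ≠ 0 := by
        rw [AdjoinRoot.powerBasis'_dim, Polynomial.natDegree_X_pow_sub_C]; norm_num
      exact nontrivial_of_ne _ _ ((AdjoinRoot.powerBasis' hm).basis.ne_zero ⟨0, Nat.pos_of_ne_zero hd⟩)
    infer_instance

/-- The fppf cover over which the form becomes isometric to the split form. -/
theorem exists_cover (a : Sym2 (Fin n) → R) (ha : GeomRad a) :
    ∃ (A : Type u) (_ : CommRing A) (_ : Algebra R A), Module.FaithfullyFlat R A ∧ Algebra.FinitePresentation R A ∧
      ∃ (X : Matrix (Fin n) (Fin n) A), IsUnit X.det ∧ pull (algebraMap R A ∘ a) X = sc A n := by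
  obtain ⟨A, _, _, hff, hsm, X, c, hX, hc, h⟩ := exists_smooth_cover a ha
  have hfp : Algebra.FinitePresentation R A := hsm.finitePresentation
  let A' := AdjoinRoot (Polynomial.X ^ 2 - Polynomial.C c : Polynomial A)
  have hff' : Module.FaithfullyFlat A A' := faithfullyFlat_adjoin_sqrt c
  refine ⟨A', inferInstance, inferInstance, Module.FaithfullyFlat.trans R A A', inferInstance, ?_⟩
  let t : A' := AdjoinRoot.root _
  have ht : t * t = algebraMap A A' c := by
    have := AdjoinRoot.eval₂_root (Polynomial.X ^ 2 - Polynomial.C c : Polynomial A)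
    rw [Polynomial.eval₂_sub, Polynomial.eval₂_pow, Polynomial.eval₂_X, Polynomial.eval₂_C, sub_eq_zero] at this
    rw [← pow_two]; exact this
  have htu : IsUnit t := by
    have : IsUnit (t * t) := by rw [ht]; exact hc.map _
    exact isUnit_of_mul_isUnit_left this
  refine ⟨t • X.map (algebraMap A A'), ?_, ?_⟩
  · rw [Matrix.det_smul]
    refine (htu.pow _).mul ?_
    rw [← RingHom.mapMatrix_apply, ← RingHom.map_det]
    exact hX.map _
  · rw [pull_smul_mat, ht]
    have := congrArg (fun g => algebraMap A A' ∘ g) h
    simp only [map_smul_fun, map_pull, map_sc] at this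
    rw [← this]
    congr 2

end K917.Cover
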