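import Groth.Agent.QuadGrp.K918.LocalEven
import Groth.Agent.QuadGrp.K917.AlgClosed
import Groth.Agent.QuadGrp.K916.SplitForm

/-!
# Isometries of a split form over an infinite field are products of reflections
-/

set_option autoImplicit false
set_option maxHeartbeats 400000
set_option linter.unusedSectionVars false

universe u v

open QuadraticMap

namespace K917.CD

variable {K : Type u} [Field K] {V : Type v} [AddCommGroup V] [Module K V] {Q : QuadraticForm K V}

open K918.Cliff

/-- the group generated by the reflections in vectors of `W` -/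
def G (Q : QuadraticForm K V) (W : Submodule K V) : Subgroup (V ≃ₗ[K] V) :=
  Subgroup.closure {x | ∃ v ∈ W, ∃ (c : K) (hc : c * Q v = 1), x = reflection v c hc}

theorem refl_mem (W : Submodule K V) {v : V} (hv : v ∈ W) {c : K} (hc : c * Q v = 1) :
    reflection v c hc ∈ G Q W := Subgroup.subset_closure ⟨v, hv, c, hc, rfl⟩

theorem G_mono {W W' : Submodule K V} (h : W ≤ W') : G Q W ≤ G Q W' := by
  apply Subgroup.closure_mono
  rintro x ⟨v, hv, c, hc, rfl⟩
  exact ⟨v, h hv, c, hc, rfl⟩

theorem G_induction (W : Submodule K V) {p : (V ≃ₗ[K] V) → Prop} (h1 : p 1) (hmul : ∀ x y, p x → p y → p (x * y))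
    (hinv : ∀ x, p x → p x⁻¹) (hr : ∀ v ∈ W, ∀ (c : K) (hc : c * Q v = 1), p (reflection v c hc)) {x : V ≃ₗ[K] V}
    (hx : x ∈ G Q W) : p x := by
  induction hx using Subgroup.closure_induction with
  | mem x hx => obtain ⟨v, hv, c, hc, rfl⟩ := hx; exact hr v hv c hc
  | one => exact h1
  | mul x y _ _ hx hy => exact hmul x y hx hy
  | inv x _ hx => exact hinv x hx

theorem isometry_of_mem {W : Submodule K V} {x : V ≃ₗ[K] V} (hx : x ∈ G Q W) : ∀ v, Q (x v) = Q v := by
  refine G_induction W (p := fun x => ∀ v, Q (x v) = Q v) (fun _ => rfl) (fun x y hx hy v => ?_) (fun x hx v => ?_)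
    (fun v hv c hc w => reflection_isometry v c hc w) hx
  · change Q (x (y v)) = Q v
    rw [hx, hy]
  · rw [← hx (x⁻¹ v)]
    congr 1
    exact x.apply_symm_apply v

theorem fixes_of_mem {W : Submodule K V} {x : V ≃ₗ[K] V} (hx : x ∈ G Q W) {w : V} (hw : ∀ v ∈ W, polar Q v w = 0) :
    x w = w := by
  refine G_induction W (p := fun x => x w = w) rfl (fun x y hx hy => ?_) (fun x hx => ?_)
    (fun v hv c hc => ?_) hx
  · change x (y w) = w
    rw [hy, hx]
  · have hx' : x w = w := hx
    calc x⁻¹ w = x⁻¹ (x w) := by rw [hx']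
      _ = w := x.symm_apply_apply w
  · change reflection v c hc w = w
    rw [reflection_apply, hw v hv, zero_smul, sub_zero]

theorem sub_apply' (x y : V) : Q (x - y) = Q x + Q y - polar Q x y := by
  rw [sub_eq_add_neg, QuadraticMap.map_add Q, QuadraticMap.map_neg, polar_neg_right]
  ring

/-- the reflection exchanging two vectors of the same value -/
theorem exists_refl {W : Submodule K V} {x y : V} (hx : x ∈ W) (hy : y ∈ W) (hQ : Q x = Q y) (hne : Q (x - y) ≠ 0) :
    ∃ ρ ∈ G Q W, ρ x = y ∧ ∀ z, polar Q (x - y) z = 0 → ρ z = z := by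
  refine ⟨reflection (x - y) (Q (x - y))⁻¹ (inv_mul_cancel₀ hne), refl_mem W (W.sub_mem hx hy) _, ?_, fun z hz => ?_⟩
  · rw [reflection_apply]
    have h1 : polar Q (x - y) x = Q (x - y) := by
      rw [polar_sub_left, polar_self, sub_apply', two_smul, hQ, polar_comm Q y x]
    rw [h1, smul_smul, mul_inv_cancel₀ hne, one_smul, sub_sub_cancel]
  · rw [reflection_apply, hz, zero_smul, sub_zero]

theorem lemmaA {W : Submodule K V} {e f e' f' : V} (he : e ∈ W) (hf : f ∈ W) (he' : e' ∈ W) (hf' : f' ∈ W)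
    (qe : Q e = 0) (qf : Q f = 0) (qe' : Q e' = 0) (qf' : Q f' = 0) (b : polar Q e f = 1) (b' : polar Q e' f' = 1) :
    ∃ ρ ∈ G Q W, ρ e' = e := by
  by_cases h1 : polar Q e' e = 0
  · obtain ⟨y, hy, qy, y1, y2⟩ : ∃ y ∈ W, Q y = 0 ∧ polar Q y e ≠ 0 ∧ polar Q e' y ≠ 0 := by
      by_cases h2 : polar Q e' f = 0
      · by_cases h3 : polar Q f' e = 0
        · refine ⟨f + f' - polar Q f f' • e, W.sub_mem (W.add_mem hf hf') (W.smul_mem _ he), ?_, ?_, ?_⟩
          · rw [sub_apply', QuadraticMap.map_add Q, QuadraticMap.map_smul, qe, qf, qf', polar_smul_right, polar_add_left,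
              h3, polar_comm Q f e, b]
            simp
          · rw [polar_sub_left, polar_add_left, polar_smul_left, h3, polar_comm Q f e, b, polar_self, qe]
            simp
          · rw [polar_sub_right, polar_add_right, polar_smul_right, h1, h2, b']
            simp
        · exact ⟨f', hf', qf', h3, by rw [b']; exact one_ne_zero⟩
      · exact ⟨f, hf, qf, by rw [polar_comm, b]; exact one_ne_zero, h2⟩
    obtain ⟨ρ, hρ, h3, -⟩ := exists_refl (Q := Q) he' hy (by rw [qe', qy]) (by
      rw [sub_apply', qe', qy, zero_add, zero_sub, neg_ne_zero]; exact y2)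
    obtain ⟨ρ', hρ', h4, -⟩ := exists_refl (Q := Q) hy he (by rw [qe, qy]) (by
      rw [sub_apply', qe, qy, zero_add, zero_sub, neg_ne_zero]; exact y1)
    exact ⟨ρ' * ρ, (G Q W).mul_mem hρ' hρ, by change ρ' (ρ e') = e; rw [h3, h4]⟩
  · obtain ⟨ρ, hρ, h3, -⟩ := exists_refl (Q := Q) he' he (by rw [qe', qe]) (by
      rw [sub_apply', qe', qe, zero_add, zero_sub, neg_ne_zero]; exact h1)
    exact ⟨ρ, hρ, h3⟩

theorem lemmaB [Infinite K] {W : Submodule K V} {e f f' : V} (he : e ∈ W) (hf : f ∈ W) (hf' : f' ∈ W)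
    (qe : Q e = 0) (qf : Q f = 0) (qf' : Q f' = 0) (b : polar Q e f = 1) (b' : polar Q e f' = 1)
    (hw : f' ≠ f → polar Q f' f = 0 → ∃ w ∈ W, polar Q e w = 0 ∧ polar Q w f = 0 ∧ Q w ≠ 0) :
    ∃ ρ ∈ G Q W, ρ e = e ∧ ρ f' = f := by
  by_cases h0 : f' = f
  · subst h0
    exact ⟨1, (G Q W).one_mem, rfl, rfl⟩
  by_cases h1 : polar Q f' f = 0
  · obtain ⟨w, hwW, w1, w2, w3⟩ := hw h0 h1
    classical
    obtain ⟨t, ht⟩ := Infinite.exists_notMem_finset ({0, polar Q f' w / Q w} : Finset K)
    rw [Finset.mem_insert, Finset.mem_singleton, not_or] at ht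
    obtain ⟨t0, t1⟩ := ht
    have t2 : polar Q f' w - t * Q w ≠ 0 := by
      intro h
      apply t1
      rw [eq_div_iff w3]
      linear_combination -h
    set y := f + t • w - (t * t * Q w) • e with hy
    have yW : y ∈ W := W.sub_mem (W.add_mem hf (W.smul_mem _ hwW)) (W.smul_mem _ he)
    have qy : Q y = 0 := by
      rw [hy, sub_apply', QuadraticMap.map_add Q, QuadraticMap.map_smul, QuadraticMap.map_smul, qe, qf,
        polar_smul_right, polar_smul_right, polar_add_left, polar_smul_left, polar_comm Q w e, w1, polar_comm Q f e, b,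
        polar_comm Q f w, w2]
      simp only [smul_eq_mul]
      ring
    have y1 : polar Q f' y = t * (polar Q f' w - t * Q w) := by
      rw [hy, polar_sub_right, polar_add_right, polar_smul_right, polar_smul_right, h1, polar_comm Q f' e, b']
      simp only [smul_eq_mul]
      ring
    have y2 : polar Q y f = -(t * t * Q w) := by
      rw [hy, polar_sub_left, polar_add_left, polar_smul_left, polar_smul_left, polar_self, qf, w2, b]
      simp
    have y3 : polar Q e y = 1 := by
      rw [hy, polar_sub_right, polar_add_right, polar_smul_right, polar_smul_right, polar_self, qe, w1, b]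
      simp
    obtain ⟨ρ, hρ, h3, h3'⟩ := exists_refl (Q := Q) hf' yW (by rw [qf', qy]) (by
      rw [sub_apply', qf', qy, zero_add, zero_sub, neg_ne_zero, y1]; exact mul_ne_zero t0 t2)
    obtain ⟨ρ', hρ', h4, h4'⟩ := exists_refl (Q := Q) yW hf (by rw [qf, qy]) (by
      rw [sub_apply', qf, qy, zero_add, zero_sub, neg_ne_zero, y2, neg_ne_zero]
      exact mul_ne_zero (mul_ne_zero t0 t0) w3)
    refine ⟨ρ' * ρ, (G Q W).mul_mem hρ' hρ, ?_, by change ρ' (ρ f') = f; rw [h3, h4]⟩
    change ρ' (ρ e) = e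
    rw [h3' e (by rw [polar_sub_left, polar_comm Q f' e, polar_comm Q y e, b', y3, sub_self]),
      h4' e (by rw [polar_sub_left, polar_comm Q f e, polar_comm Q y e, b, y3, sub_self])]
  · obtain ⟨ρ, hρ, h3, h3'⟩ := exists_refl (Q := Q) hf' hf (by rw [qf', qf]) (by
      rw [sub_apply', qf', qf, zero_add, zero_sub, neg_ne_zero]; exact h1)
    exact ⟨ρ, hρ, h3' e (by rw [polar_sub_left, polar_comm Q f' e, polar_comm Q f e, b, b', sub_self]), h3⟩

theorem polar_isometry {x : V ≃ₗ[K] V} (hx : ∀ v, Q (x v) = Q v) (v w : V) : polar Q (x v) (x w) = polar Q v w := by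
  rw [polar, ← map_add, hx, hx, hx, polar]

section Family

variable {m : ℕ} (e f : Fin m → V)

/-- the orthogonal of the first `k` pairs -/
def W (Q : QuadraticForm K V) (k : ℕ) : Submodule K V where
  carrier := {v | ∀ i : Fin m, i.val < k → polar Q v (e i) = 0 ∧ polar Q v (f i) = 0}
  zero_mem' := fun i _ => ⟨polar_zero_left Q _, polar_zero_left Q _⟩
  add_mem' := fun {x y} hx hy i hi => by
    rw [polar_add_left, polar_add_left, (hx i hi).1, (hx i hi).2, (hy i hi).1, (hy i hi).2, add_zero]
    exact ⟨rfl, rfl⟩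
  smul_mem' := fun c x hx i hi => by
    rw [polar_smul_left, polar_smul_left, (hx i hi).1, (hx i hi).2, smul_zero]
    exact ⟨rfl, rfl⟩

variable (qe : ∀ i, Q (e i) = 0) (qf : ∀ i, Q (f i) = 0) (bef : ∀ i j, polar Q (e i) (f j) = if i = j then 1 else 0)
  (bee : ∀ i j, polar Q (e i) (e j) = 0) (bff : ∀ i j, polar Q (f i) (f j) = 0)
  (hrad : ∀ u ∈ W e f Q m, Q u = 0 → u = 0)
  (hend : ∀ x : V ≃ₗ[K] V, (∀ v, Q (x v) = Q v) → (∀ i, x (e i) = e i ∧ x (f i) = f i) → x ∈ G Q ⊤)

include qe qf bef bee bff hrad hend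

theorem aux [Infinite K] (d : ℕ) : ∀ k, k + d = m → ∀ x : V ≃ₗ[K] V, (∀ v, Q (x v) = Q v) →
    (∀ i : Fin m, i.val < k → x (e i) = e i ∧ x (f i) = f i) → x ∈ G Q ⊤ := by
  induction d with
  | zero =>
    intro k hk x hx hfix
    exact hend x hx fun i => hfix i (by omega)
  | succ d ih =>
    intro k hk x hx hfix
    have hkm : k < m := by omega
    let κ : Fin m := ⟨k, hkm⟩
    have hWmem : ∀ (y : V ≃ₗ[K] V), (∀ v, Q (y v) = Q v) → (∀ i : Fin m, i.val < k → y (e i) = e i ∧ y (f i) = f i) →
        y (e κ) ∈ W e f Q k ∧ y (f κ) ∈ W e f Q k := by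
      intro y hy hyfix
      refine ⟨fun i hi => ?_, fun i hi => ?_⟩
      · have hne : κ ≠ i := fun h => by rw [← h] at hi; exact lt_irrefl _ hi
        constructor
        · rw [← (hyfix i hi).1, polar_isometry hy]; exact bee _ _
        · rw [← (hyfix i hi).2, polar_isometry hy, bef, if_neg hne]
      · have hne : i ≠ κ := fun h => by rw [h] at hi; exact lt_irrefl _ hi
        constructor
        · rw [← (hyfix i hi).1, polar_isometry hy, polar_comm, bef, if_neg hne]
        · rw [← (hyfix i hi).2, polar_isometry hy]; exact bff _ _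
    have h1W := hWmem 1 (fun _ => rfl) (fun _ _ => ⟨rfl, rfl⟩)
    have heW : e κ ∈ W e f Q k := h1W.1
    have hfW : f κ ∈ W e f Q k := h1W.2
    have hfixG : ∀ ρ ∈ G Q (W e f Q k), ∀ i : Fin m, i.val < k → ρ (e i) = e i ∧ ρ (f i) = f i :=
      fun ρ hρ i hi => ⟨fixes_of_mem hρ fun v hv => (hv i hi).1, fixes_of_mem hρ fun v hv => (hv i hi).2⟩
    obtain ⟨ρ1, hρ1, h1⟩ := lemmaA (Q := Q) (W := W e f Q k) heW hfW (hWmem x hx hfix).1 (hWmem x hx hfix).2
      (qe κ) (qf κ) (by rw [hx]; exact qe κ) (by rw [hx]; exact qf κ) (by rw [bef, if_pos rfl])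
      (by rw [polar_isometry hx, bef, if_pos rfl])
    have hx1 : ∀ v, Q ((ρ1 * x) v) = Q v := fun v => by
      change Q (ρ1 (x v)) = Q v
      rw [isometry_of_mem hρ1, hx]
    have hfix1 : ∀ i : Fin m, i.val < k → (ρ1 * x) (e i) = e i ∧ (ρ1 * x) (f i) = f i := fun i hi => by
      change ρ1 (x (e i)) = e i ∧ ρ1 (x (f i)) = f i
      rw [(hfix i hi).1, (hfix i hi).2]
      exact hfixG ρ1 hρ1 i hi
    have he1 : (ρ1 * x) (e κ) = e κ := h1
    have hf1W := (hWmem (ρ1 * x) hx1 hfix1).2
    have hb1 : polar Q (e κ) ((ρ1 * x) (f κ)) = 1 := by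
      rw [← he1, ← he1]
      rw [he1, polar_isometry hx1, bef, if_pos rfl]
    obtain ⟨ρ2, hρ2, h2, h3⟩ := lemmaB (Q := Q) (W := W e f Q k) heW hfW hf1W
      (qe κ) (qf κ) (by rw [hx1]; exact qf κ) (by rw [bef, if_pos rfl]) hb1 (by
        intro hne hzero
        by_cases hk1 : k + 1 < m
        · have hjκ : ∀ i : Fin m, i.val < k → (⟨k + 1, hk1⟩ : Fin m) ≠ i ∧ i ≠ ⟨k + 1, hk1⟩ := by
            intro i hi
            constructor
            · intro h; rw [← h] at hi; exact absurd hi (by simp)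
            · intro h; rw [h] at hi; exact absurd hi (by simp)
          have hκ : κ ≠ (⟨k + 1, hk1⟩ : Fin m) := by
            intro h
            have := congrArg Fin.val h
            simp [κ] at this
          refine ⟨e ⟨k + 1, hk1⟩ + f ⟨k + 1, hk1⟩, ?_, ?_, ?_, ?_⟩
          · intro i hi
            constructor
            · rw [polar_add_left, bee, polar_comm Q (f _) (e _), bef, if_neg (hjκ i hi).2, add_zero]
            · rw [polar_add_left, bff, bef, if_neg (hjκ i hi).1, add_zero]
          · rw [polar_add_right, bee, bef, if_neg hκ, add_zero]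
          · rw [polar_add_left, bff, bef, if_neg hκ.symm, add_zero]
          · rw [QuadraticMap.map_add Q, qe, qf, bef, if_pos rfl]
            simp
        · exfalso
          have hkm' : k + 1 = m := by omega
          apply hne
          refine sub_eq_zero.1 (hrad _ ?_ ?_)
          · intro i hi
            by_cases hik : i.val < k
            · have := (W e f Q k).sub_mem hf1W hfW
              exact this i hik
            · have hi' : i = κ := Fin.ext (by simp only [κ]; omega)
              subst hi'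
              constructor
              · rw [polar_sub_left, polar_comm Q _ (e κ), polar_comm Q (f κ) (e κ), hb1, bef, if_pos rfl, sub_self]
              · rw [polar_sub_left, hzero, bff, sub_self]
          · rw [sub_apply', hx1, qf, hzero]; simp)
    have hx2 : ∀ v, Q ((ρ2 * (ρ1 * x)) v) = Q v := fun v => by
      change Q (ρ2 ((ρ1 * x) v)) = Q v
      rw [isometry_of_mem hρ2, hx1]
    have hfix2 : ∀ i : Fin m, i.val < k + 1 → (ρ2 * (ρ1 * x)) (e i) = e i ∧ (ρ2 * (ρ1 * x)) (f i) = f i := fun i hi => by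
      change ρ2 ((ρ1 * x) (e i)) = e i ∧ ρ2 ((ρ1 * x) (f i)) = f i
      by_cases hik : i.val < k
      · rw [(hfix1 i hik).1, (hfix1 i hik).2]
        exact hfixG ρ2 hρ2 i hik
      · have hi' : i = κ := Fin.ext (by simp only [κ]; omega)
        subst hi'
        exact ⟨by rw [he1, h2], h3⟩
    have h4 := ih (k + 1) (by omega) _ hx2 hfix2
    have h5 : x = ρ1⁻¹ * (ρ2⁻¹ * (ρ2 * (ρ1 * x))) := by group
    rw [h5]
    exact (G Q ⊤).mul_mem ((G Q ⊤).inv_mem (G_mono le_top hρ1))
      ((G Q ⊤).mul_mem ((G Q ⊤).inv_mem (G_mono le_top hρ2)) h4)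

theorem main [Infinite K] (x : V ≃ₗ[K] V) (hx : ∀ v, Q (x v) = Q v) : x ∈ G Q ⊤ :=
  aux e f qe qf bef bee bff hrad hend m 0 (by omega) x hx fun i hi => absurd hi (Nat.not_lt_zero _)

end Family

section Split

theorem polar_even (m : ℕ) (v w : Fin (2 * m) → K) :
    polar (QuadGrp.splitForm K (2 * m)) v w =
      ∑ i : Fin m, (v ⟨2 * i, by omega⟩ * w ⟨2 * i + 1, by omega⟩ + w ⟨2 * i, by omega⟩ * v ⟨2 * i + 1, by omega⟩) := by
  rw [polar, K916.SplitForm.even_apply, K916.SplitForm.even_apply, K916.SplitForm.even_apply,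
    ← Finset.sum_sub_distrib, ← Finset.sum_sub_distrib]
  refine Finset.sum_congr rfl fun i _ => ?_
  rw [Pi.add_apply, Pi.add_apply]
  ring

theorem polar_odd (m : ℕ) (v w : Fin (2 * m + 1) → K) :
    polar (QuadGrp.splitForm K (2 * m + 1)) v w =
      (∑ i : Fin m, (v ⟨2 * i + 1, by omega⟩ * w ⟨2 * i + 2, by omega⟩ + w ⟨2 * i + 1, by omega⟩ * v ⟨2 * i + 2, by omega⟩)) +
        2 * (v 0 * w 0) := by
  rw [polar, K916.SplitForm.odd_apply, K916.SplitForm.odd_apply, K916.SplitForm.odd_apply]
  have : ∀ a b c d g h : K, (a + g) - (b + h) - (c + d) = (a - b - c) + (g - h - d) := fun a b c d g h => by ring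
  rw [this, ← Finset.sum_sub_distrib, ← Finset.sum_sub_distrib]
  congr 1
  · refine Finset.sum_congr rfl fun i _ => ?_
    rw [Pi.add_apply, Pi.add_apply]
    ring
  · rw [Pi.add_apply]; ring

/-- standard vector -/
def sv {n : ℕ} (i : Fin n) : Fin n → K := Pi.single i 1

theorem splitForm_even_mem [Infinite K] (m : ℕ) (x : (Fin (2 * m) → K) ≃ₗ[K] (Fin (2 * m) → K))
    (hx : ∀ v, QuadGrp.splitForm K (2 * m) (x v) = QuadGrp.splitForm K (2 * m) v) :
    x ∈ G (QuadGrp.splitForm K (2 * m)) ⊤ := by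
  let e : Fin m → (Fin (2 * m) → K) := fun i => sv ⟨2 * i, by omega⟩
  let f : Fin m → (Fin (2 * m) → K) := fun i => sv ⟨2 * i + 1, by omega⟩
  have e0 : ∀ i j : Fin m, e i ⟨2 * j, by omega⟩ = if i = j then 1 else 0 := fun i j => by
    change (Pi.single _ (1 : K) : Fin (2 * m) → K) _ = _
    rw [Pi.single_apply]
    congr 1
    rw [Fin.mk.injEq, Fin.ext_iff, eq_iff_iff]
    omega
  have e1 : ∀ i j : Fin m, e i ⟨2 * j + 1, by omega⟩ = 0 := fun i j => by
    change (Pi.single _ (1 : K) : Fin (2 * m) → K) _ = _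
    rw [Pi.single_apply, if_neg]
    rw [Fin.mk.injEq]
    omega
  have f0 : ∀ i j : Fin m, f i ⟨2 * j, by omega⟩ = 0 := fun i j => by
    change (Pi.single _ (1 : K) : Fin (2 * m) → K) _ = _
    rw [Pi.single_apply, if_neg]
    rw [Fin.mk.injEq]
    omega
  have f1 : ∀ i j : Fin m, f i ⟨2 * j + 1, by omega⟩ = if i = j then 1 else 0 := fun i j => by
    change (Pi.single _ (1 : K) : Fin (2 * m) → K) _ = _
    rw [Pi.single_apply]
    congr 1
    rw [Fin.mk.injEq, Fin.ext_iff, eq_iff_iff]
    omega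
  have pe : ∀ v i, polar (QuadGrp.splitForm K (2 * m)) v (e i) = v ⟨2 * i + 1, by omega⟩ := fun v i => by
    rw [polar_even]
    simp only [e0, e1, mul_zero, zero_add, ite_mul, one_mul, zero_mul, Finset.sum_ite_eq, Finset.mem_univ, if_true]
  have pf : ∀ v i, polar (QuadGrp.splitForm K (2 * m)) v (f i) = v ⟨2 * i, by omega⟩ := fun v i => by
    rw [polar_even]
    simp only [f0, f1, mul_ite, mul_one, mul_zero, zero_mul, add_zero, Finset.sum_ite_eq, Finset.mem_univ, if_true]
  have hcoord : ∀ v w : Fin (2 * m) → K, (∀ i : Fin m, v ⟨2 * i, by omega⟩ = w ⟨2 * i, by omega⟩) →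
      (∀ i : Fin m, v ⟨2 * i + 1, by omega⟩ = w ⟨2 * i + 1, by omega⟩) → v = w := by
    intro v w h0 h1
    funext j
    rcases Nat.even_or_odd' j.val with ⟨k, hk | hk⟩
    · have := h0 ⟨k, by omega⟩
      have hj : j = ⟨2 * k, by omega⟩ := Fin.ext hk
      rw [hj]; exact this
    · have := h1 ⟨k, by omega⟩
      have hj : j = ⟨2 * k + 1, by omega⟩ := Fin.ext hk
      rw [hj]; exact this
  have hW : ∀ u ∈ W e f (QuadGrp.splitForm K (2 * m)) m, u = 0 := fun u hu =>
    hcoord u 0 (fun i => by have := (hu i i.2).2; rw [pf] at this; exact this)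
      (fun i => by have := (hu i i.2).1; rw [pe] at this; exact this)
  refine main e f (fun i => ?_) (fun i => ?_) (fun i j => ?_) (fun i j => ?_) (fun i j => ?_)
    (fun u hu _ => hW u hu) (fun y hy hfix => ?_) x hx
  · rw [K916.SplitForm.even_apply]
    exact Finset.sum_eq_zero fun j _ => by rw [e1, mul_zero]
  · rw [K916.SplitForm.even_apply]
    exact Finset.sum_eq_zero fun j _ => by rw [f0, zero_mul]
  · rw [pf, e0]
  · rw [pe, e1]
  · rw [pf, f0]
  · have : y = 1 := by
      apply LinearEquiv.ext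
      intro v
      refine hcoord _ _ (fun i => ?_) (fun i => ?_)
      · rw [← pf (y v) i, ← (hfix i).2, polar_isometry hy, pf]; rfl
      · rw [← pe (y v) i, ← (hfix i).1, polar_isometry hy, pe]; rfl
    rw [this]
    exact Subgroup.one_mem _

theorem splitForm_odd_mem [Infinite K] (m : ℕ) (x : (Fin (2 * m + 1) → K) ≃ₗ[K] (Fin (2 * m + 1) → K))
    (hx : ∀ v, QuadGrp.splitForm K (2 * m + 1) (x v) = QuadGrp.splitForm K (2 * m + 1) v) :
    x ∈ G (QuadGrp.splitForm K (2 * m + 1)) ⊤ := by
  let e : Fin m → (Fin (2 * m + 1) → K) := fun i => sv ⟨2 * i + 1, by omega⟩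
  let f : Fin m → (Fin (2 * m + 1) → K) := fun i => sv ⟨2 * i + 2, by omega⟩
  let g : Fin (2 * m + 1) → K := sv 0
  have e0 : ∀ i j : Fin m, e i ⟨2 * j + 1, by omega⟩ = if i = j then 1 else 0 := fun i j => by
    change (Pi.single _ (1 : K) : Fin (2 * m + 1) → K) _ = _
    rw [Pi.single_apply]
    congr 1
    rw [Fin.mk.injEq, Fin.ext_iff, eq_iff_iff]
    omega
  have e1 : ∀ i j : Fin m, e i ⟨2 * j + 2, by omega⟩ = 0 := fun i j => by
    change (Pi.single _ (1 : K) : Fin (2 * m + 1) → K) _ = _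
    rw [Pi.single_apply, if_neg]
    rw [Fin.mk.injEq]
    omega
  have eg : ∀ i : Fin m, e i 0 = 0 := fun i => by
    change (Pi.single _ (1 : K) : Fin (2 * m + 1) → K) _ = _
    rw [Pi.single_apply, if_neg]
    intro h
    have := congrArg Fin.val h
    simp at this
  have f0 : ∀ i j : Fin m, f i ⟨2 * j + 1, by omega⟩ = 0 := fun i j => by
    change (Pi.single _ (1 : K) : Fin (2 * m + 1) → K) _ = _
    rw [Pi.single_apply, if_neg]
    rw [Fin.mk.injEq]
    omega
  have f1 : ∀ i j : Fin m, f i ⟨2 * j + 2, by omega⟩ = if i = j then 1 else 0 := fun i j => by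
    change (Pi.single _ (1 : K) : Fin (2 * m + 1) → K) _ = _
    rw [Pi.single_apply]
    congr 1
    rw [Fin.mk.injEq, Fin.ext_iff, eq_iff_iff]
    omega
  have fg : ∀ i : Fin m, f i 0 = 0 := fun i => by
    change (Pi.single _ (1 : K) : Fin (2 * m + 1) → K) _ = _
    rw [Pi.single_apply, if_neg]
    intro h
    have := congrArg Fin.val h
    simp at this
  have g0 : ∀ j : Fin m, g ⟨2 * j + 1, by omega⟩ = 0 := fun j => by
    change (Pi.single _ (1 : K) : Fin (2 * m + 1) → K) _ = _
    rw [Pi.single_apply, if_neg]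
    intro h
    have := congrArg Fin.val h
    simp at this
  have g1 : ∀ j : Fin m, g ⟨2 * j + 2, by omega⟩ = 0 := fun j => by
    change (Pi.single _ (1 : K) : Fin (2 * m + 1) → K) _ = _
    rw [Pi.single_apply, if_neg]
    intro h
    have := congrArg Fin.val h
    simp at this
  have gg : g 0 = 1 := by
    change (Pi.single _ (1 : K) : Fin (2 * m + 1) → K) _ = _
    rw [Pi.single_eq_same]
  have pe : ∀ v i, polar (QuadGrp.splitForm K (2 * m + 1)) v (e i) = v ⟨2 * i + 2, by omega⟩ := fun v i => by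
    rw [polar_odd, eg]
    simp only [e0, e1, mul_zero, zero_add, ite_mul, one_mul, zero_mul, Finset.sum_ite_eq, Finset.mem_univ, if_true,
      add_zero]
  have pf : ∀ v i, polar (QuadGrp.splitForm K (2 * m + 1)) v (f i) = v ⟨2 * i + 1, by omega⟩ := fun v i => by
    rw [polar_odd, fg]
    simp only [f0, f1, mul_ite, mul_one, mul_zero, zero_mul, add_zero, Finset.sum_ite_eq, Finset.mem_univ, if_true]
  have qg : QuadGrp.splitForm K (2 * m + 1) g = 1 := by
    rw [K916.SplitForm.odd_apply, gg, Finset.sum_eq_zero fun j _ => by rw [g0, zero_mul]]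
    simp
  have hcoord : ∀ v w : Fin (2 * m + 1) → K, v 0 = w 0 → (∀ i : Fin m, v ⟨2 * i + 1, by omega⟩ = w ⟨2 * i + 1, by omega⟩) →
      (∀ i : Fin m, v ⟨2 * i + 2, by omega⟩ = w ⟨2 * i + 2, by omega⟩) → v = w := by
    intro v w hz h0 h1
    funext j
    rcases Nat.even_or_odd' j.val with ⟨k, hk | hk⟩
    · rcases k with _ | k
      · have hj : j = 0 := Fin.ext (by simpa using hk)
        rw [hj]; exact hz
      · have := h1 ⟨k, by omega⟩
        have hj : j = ⟨2 * k + 2, by omega⟩ := Fin.ext (by rw [hk]; ring)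
        rw [hj]; exact this
    · have := h0 ⟨k, by omega⟩
      have hj : j = ⟨2 * k + 1, by omega⟩ := Fin.ext hk
      rw [hj]; exact this
  have hW : ∀ u ∈ W e f (QuadGrp.splitForm K (2 * m + 1)) m, u = u 0 • g := fun u hu =>
    hcoord u _ (by rw [Pi.smul_apply, gg, smul_eq_mul, mul_one])
      (fun i => by have := (hu i i.2).2; rw [pf] at this; rw [Pi.smul_apply, g0, smul_zero]; exact this)
      (fun i => by have := (hu i i.2).1; rw [pe] at this; rw [Pi.smul_apply, g1, smul_zero]; exact this)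
  refine main e f (fun i => ?_) (fun i => ?_) (fun i j => ?_) (fun i j => ?_) (fun i j => ?_)
    (fun u hu hu0 => ?_) (fun y hy hfix => ?_) x hx
  · rw [K916.SplitForm.odd_apply, eg, mul_zero, add_zero]
    exact Finset.sum_eq_zero fun j _ => by rw [e1, mul_zero]
  · rw [K916.SplitForm.odd_apply, fg, mul_zero, add_zero]
    exact Finset.sum_eq_zero fun j _ => by rw [f0, zero_mul]
  · rw [pf, e0]
  · rw [pe, e1]
  · rw [pf, f0]
  · have h1 := hW u hu
    rw [h1, QuadraticMap.map_smul, qg, smul_eq_mul, mul_one, mul_self_eq_zero] at hu0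
    rw [h1, hu0, zero_smul]
  · have hyg : y g ∈ W e f (QuadGrp.splitForm K (2 * m + 1)) m := by
      intro i _
      constructor
      · rw [← (hfix i).1, polar_isometry hy, pe, g1]
      · rw [← (hfix i).2, polar_isometry hy, pf, g0]
    have h1 := hW _ hyg
    set t : K := (y g) 0 with ht
    have ht2 : t * t = 1 := by
      have := hy g
      rw [h1, QuadraticMap.map_smul, qg, smul_eq_mul, mul_one] at this
      exact this
    have key : ∀ z : (Fin (2 * m + 1) → K) ≃ₗ[K] (Fin (2 * m + 1) → K),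
        (∀ i, z (e i) = e i ∧ z (f i) = f i) → z g = y g → y = z := by
      intro z hz hzg
      apply LinearEquiv.ext
      intro v
      have hv : v = v 0 • g + ∑ i : Fin m, (v ⟨2 * i + 1, by omega⟩ • e i + v ⟨2 * i + 2, by omega⟩ • f i) := by
        refine hcoord _ _ ?_ (fun j => ?_) (fun j => ?_)
        · rw [Pi.add_apply, Pi.smul_apply, gg, Finset.sum_apply, Finset.sum_eq_zero, add_zero, smul_eq_mul, mul_one]
          intro i _
          rw [Pi.add_apply, Pi.smul_apply, Pi.smul_apply, eg, fg, smul_zero, smul_zero, add_zero]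
        · rw [Pi.add_apply, Pi.smul_apply, g0, smul_zero, zero_add, Finset.sum_apply]
          simp only [Pi.add_apply, Pi.smul_apply, e0, f0, smul_eq_mul, mul_zero, add_zero, mul_ite, mul_one,
            Finset.sum_ite_eq', Finset.mem_univ, if_true]
        · rw [Pi.add_apply, Pi.smul_apply, g1, smul_zero, zero_add, Finset.sum_apply]
          simp only [Pi.add_apply, Pi.smul_apply, e1, f1, smul_eq_mul, mul_zero, zero_add, mul_ite, mul_one,
            Finset.sum_ite_eq', Finset.mem_univ, if_true]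
      rw [hv]
      simp only [map_add, map_sum, map_smul, (hz _).1, (hz _).2, (hfix _).1, (hfix _).2, hzg]
    rcases mul_self_eq_one_iff.1 ht2 with h | h
    · have : y = 1 := key 1 (fun _ => ⟨rfl, rfl⟩) (by rw [h1, h, one_smul]; rfl)
      rw [this]
      exact Subgroup.one_mem _
    · have hc : (1 : K) * QuadGrp.splitForm K (2 * m + 1) g = 1 := by rw [qg, mul_one]
      have : y = reflection g 1 hc := by
        refine key _ (fun i => ⟨?_, ?_⟩) ?_
        · rw [reflection_apply, pe, g1, zero_smul, sub_zero]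
        · rw [reflection_apply, pf, g0, zero_smul, sub_zero]
        · rw [reflection_apply, polar_self, qg, h1, h, one_smul]
          module
      rw [this]
      exact refl_mem ⊤ trivial hc

/-- transport along an isometry -/
theorem mem_of_isometryEquiv {V' : Type v} [AddCommGroup V'] [Module K V'] {Q' : QuadraticForm K V'}
    (E : Q.IsometryEquiv Q') (h : ∀ x : V' ≃ₗ[K] V', (∀ v, Q' (x v) = Q' v) → x ∈ G Q' ⊤)
    (x : V ≃ₗ[K] V) (hx : ∀ v, Q (x v) = Q v) : x ∈ G Q ⊤ := by
  let L : V ≃ₗ[K] V' := E.toLinearEquiv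
  have hL : ∀ v, Q' (L v) = Q v := E.map_app
  have hL' : ∀ v, Q (L.symm v) = Q' v := fun v => by rw [← hL, LinearEquiv.apply_symm_apply]
  have h1 := h ((L.symm.trans x).trans L) (fun v => by
    change Q' (L (x (L.symm v))) = Q' v
    rw [hL, hx, hL'])
  have h2 : ∀ y ∈ G Q' ⊤, (L.trans y).trans L.symm ∈ G Q ⊤ := by
    intro y hy
    refine G_induction ⊤ (p := fun y => (L.trans y).trans L.symm ∈ G Q ⊤) ?_ (fun y z hy hz => ?_) (fun y hy => ?_)
      (fun v _ c hc => ?_) hy
    · have : (L.trans (1 : V' ≃ₗ[K] V')).trans L.symm = 1 := by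
        apply LinearEquiv.ext
        intro v
        exact L.symm_apply_apply v
      rw [this]
      exact Subgroup.one_mem _
    · have : (L.trans (y * z)).trans L.symm = (L.trans y).trans L.symm * (L.trans z).trans L.symm := by
        apply LinearEquiv.ext
        intro v
        change L.symm (y (z (L v))) = L.symm (y (L (L.symm (z (L v)))))
        rw [LinearEquiv.apply_symm_apply]
      rw [this]
      exact (G Q ⊤).mul_mem hy hz
    · have : (L.trans y⁻¹).trans L.symm = ((L.trans y).trans L.symm)⁻¹ := by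
        apply LinearEquiv.ext
        intro v
        rfl
      rw [this]
      exact (G Q ⊤).inv_mem hy
    · have hc' : c * Q (L.symm v) = 1 := by rw [hL', hc]
      have : (L.trans (reflection v c hc)).trans L.symm = reflection (L.symm v) c hc' := by
        apply LinearEquiv.ext
        intro w
        change L.symm (reflection v c hc (L w)) = _
        rw [reflection_apply, reflection_apply, map_sub, map_smul, map_smul, LinearEquiv.symm_apply_apply]
        congr 2
        have h3 : polar Q' v (L w) = polar Q' (L (L.symm v)) (L w) := by rw [LinearEquiv.apply_symm_apply]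
        rw [h3, polar, ← map_add, hL, hL, hL, polar]
      rw [this]
      exact refl_mem ⊤ trivial hc'
  have h3 := h2 _ h1
  have : (L.trans ((L.symm.trans x).trans L)).trans L.symm = x := by
    apply LinearEquiv.ext
    intro v
    change L.symm (L (x (L.symm (L v)))) = x v
    rw [LinearEquiv.symm_apply_apply, LinearEquiv.symm_apply_apply]
  rwa [this] at h3

/-- **Isometries of a split form are products of reflections** (infinite field, any characteristic). -/
theorem mem_of_splitForm [Infinite K] (n : ℕ) (x : (Fin n → K) ≃ₗ[K] (Fin n → K))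
    (hx : ∀ v, QuadGrp.splitForm K n (x v) = QuadGrp.splitForm K n v) : x ∈ G (QuadGrp.splitForm K n) ⊤ := by
  rcases Nat.even_or_odd' n with ⟨m, rfl | rfl⟩
  · exact splitForm_even_mem m x hx
  · exact splitForm_odd_mem m x hx

end Split

end K917.CD
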