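import Mathlib.RingTheory.Spectrum.Prime.Chevalley
import Mathlib.RingTheory.Jacobson.Ring
import Mathlib.RingTheory.Flat.FaithfullyFlat.Algebra
import Mathlib.FieldTheory.IsAlgClosed.AlgebraicClosure
import Mathlib.AlgebraicGeometry.Geometrically.Connected
import Mathlib.AlgebraicGeometry.Pullbacks

/-!
# Connectedness of fibres from families over domains
-/

set_option autoImplicit false
set_option maxHeartbeats 400000

universe u v w

open TensorProduct CategoryTheory AlgebraicGeometry Limits

namespace K917.Conn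

theorem connectedSpace_of_idempotents (R : Type*) [CommRing R] [Nontrivial R]
    (h : ∀ e : R, IsIdempotentElem e → e = 0 ∨ e = 1) : ConnectedSpace (PrimeSpectrum R) := by
  rw [connectedSpace_iff_clopen]
  refine ⟨inferInstance, fun s hs => ?_⟩
  obtain ⟨e, he, rfl⟩ := PrimeSpectrum.isClopen_iff.1 hs
  rcases h e he with rfl | rfl
  · left; simp
  · right; simp

/-- An idempotent vanishing at all rational points vanishes. -/
theorem eq_zero_of_points {K : Type u} [Field K] [IsAlgClosed K] {C : Type v} [CommRing C] [Algebra K C]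
    [Algebra.FiniteType K C] {e : C} (he : IsIdempotentElem e) (h : ∀ p : C →ₐ[K] K, p e = 0) : e = 0 := by
  have hmax : ∀ M : Ideal C, M.IsMaximal → e ∈ M := by
    intro M hM
    let _ : Field (C ⧸ M) := Ideal.Quotient.field M
    have : Algebra.FiniteType K (C ⧸ M) := inferInstance
    have : Module.Finite K (C ⧸ M) := finite_of_finite_type_of_isJacobsonRing K (C ⧸ M)
    have hb : Function.Bijective (algebraMap K (C ⧸ M)) := IsAlgClosed.algebraMap_bijective_of_isIntegral
    let E : K ≃ₐ[K] (C ⧸ M) := AlgEquiv.ofBijective (Algebra.ofId K (C ⧸ M)) hb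
    have h1 := h (E.symm.toAlgHom.comp (Ideal.Quotient.mkₐ K M))
    have h2 : E.symm (Ideal.Quotient.mk M e) = 0 := h1
    rw [EmbeddingLike.map_eq_zero_iff] at h2
    exact Ideal.Quotient.eq_zero_iff_mem.1 h2
  have hu : IsUnit (1 - e) := by
    by_contra hcon
    obtain ⟨M, hM, hmem⟩ := exists_max_ideal_of_mem_nonunits (mem_nonunits_iff.2 hcon)
    exact hM.ne_top ((Ideal.eq_top_iff_one _).2 (by
      have := M.add_mem hmem (hmax M hM)
      rwa [sub_add_cancel] at this))
  have h0 : e * (1 - e) = 0 := by rw [mul_sub, mul_one, he.eq, sub_self]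
  exact (hu.mul_left_eq_zero).1 h0

section Family

variable {R : Type u} [CommRing R] {O : Type v} [CommRing O] [Algebra R O] {K : Type w} [Field K] [Algebra R K]

/-- two rational points lie in a family over a domain -/
def Step (p q : O →ₐ[R] K) : Prop :=
  ∃ (B : Type w) (_ : CommRing B) (_ : IsDomain B) (_ : Algebra K B) (_ : Algebra R B) (_ : IsScalarTower R K B)
    (F : O →ₐ[R] B) (s t : B →ₐ[K] K), (s.restrictScalars R).comp F = p ∧ (t.restrictScalars R).comp F = q

/-- the evaluation at a point of the base change -/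
noncomputable def ev {B : Type*} [CommRing B] [Algebra K B] [Algebra R B] [IsScalarTower R K B] (p : O →ₐ[R] B) :
    K ⊗[R] O →ₐ[K] B :=
  Algebra.TensorProduct.lift (Algebra.ofId K B) p (fun _ _ => .all _ _)

theorem ev_tmul {B : Type*} [CommRing B] [Algebra K B] [Algebra R B] [IsScalarTower R K B] (p : O →ₐ[R] B) (k : K) (o : O) :
    ev p (k ⊗ₜ o) = algebraMap K B k * p o := by
  simp [ev, Algebra.ofId_apply]

theorem exists_ev_eq (p : K ⊗[R] O →ₐ[K] K) : ∃ q : O →ₐ[R] K, ev q = p := by
  refine ⟨(p.restrictScalars R).comp Algebra.TensorProduct.includeRight, ?_⟩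
  apply Algebra.TensorProduct.ext
  · ext
  · ext o
    change ev _ (1 ⊗ₜ o) = p (1 ⊗ₜ o)
    rw [ev_tmul, map_one, one_mul]
    rfl

theorem ev_comp {B : Type*} [CommRing B] [Algebra K B] [Algebra R B] [IsScalarTower R K B] (F : O →ₐ[R] B)
    (s : B →ₐ[K] K) (x : K ⊗[R] O) : ev ((s.restrictScalars R).comp F) x = s (ev F x) := by
  have : ev ((s.restrictScalars R).comp F) = s.comp (ev F) := by
    apply Algebra.TensorProduct.ext
    · ext
    · ext o
      change ev _ (1 ⊗ₜ o) = s (ev F (1 ⊗ₜ o))
      rw [ev_tmul, ev_tmul, map_one, map_one, one_mul, one_mul]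
      rfl
  rw [this]; rfl

theorem ev_eq_of_step {e : K ⊗[R] O} (he : IsIdempotentElem e) {p q : O →ₐ[R] K} (h : Step p q) :
    ev p e = ev q e := by
  obtain ⟨B, _, _, _, _, _, F, s, t, rfl, rfl⟩ := h
  rw [ev_comp, ev_comp]
  have h1 : IsIdempotentElem (ev F e) := he.map (ev F)
  rcases IsIdempotentElem.iff_eq_zero_or_one.1 h1 with h2 | h2 <;> rw [h2] <;> simp

theorem ev_eq_of_chain {e : K ⊗[R] O} (he : IsIdempotentElem e) {p q : O →ₐ[R] K} (h : Relation.EqvGen Step p q) :
    ev p e = ev q e := by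
  induction h with
  | rel _ _ h => exact ev_eq_of_step he h
  | refl _ => rfl
  | symm _ _ _ ih => exact ih.symm
  | trans _ _ _ _ _ ih1 ih2 => exact ih1.trans ih2

/-- If all points are in one chain component, the base change is connected. -/
theorem connectedSpace_baseChange [IsAlgClosed K] [Algebra.FiniteType R O] (p₀ : O →ₐ[R] K)
    (h : ∀ p : O →ₐ[R] K, Relation.EqvGen Step p₀ p) : ConnectedSpace (PrimeSpectrum (K ⊗[R] O)) := by
  have hnt : Nontrivial (K ⊗[R] O) := (ev p₀ : K ⊗[R] O →ₐ[K] K).toRingHom.domain_nontrivial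
  refine connectedSpace_of_idempotents _ fun e he => ?_
  have hall : ∀ p : K ⊗[R] O →ₐ[K] K, p e = ev p₀ e := fun p => by
    obtain ⟨q, rfl⟩ := exists_ev_eq p
    exact (ev_eq_of_chain he (h q)).symm
  rcases IsIdempotentElem.iff_eq_zero_or_one.1 (he.map (ev p₀)) with h0 | h1
  · left
    exact eq_zero_of_points (K := K) he fun p => (hall p).trans h0
  · right
    have := eq_zero_of_points (K := K) he.one_sub fun p => by rw [map_sub, map_one, hall p, h1, sub_self]
    exact (sub_eq_zero.1 this).symm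

end Family

theorem connectedSpace_of_surjective {R S : Type*} [CommRing R] [CommRing S] (f : R →+* S)
    (hf : Function.Surjective (PrimeSpectrum.comap f)) [ConnectedSpace (PrimeSpectrum S)] :
    ConnectedSpace (PrimeSpectrum R) :=
  hf.connectedSpace (PrimeSpectrum.continuous_comap f)

theorem geometricallyConnected_of {R O : Type u} [CommRing R] [CommRing O] [Algebra R O]
    (h : ∀ (K : Type u) [Field K] [IsAlgClosed K] [Algebra R K], ConnectedSpace (PrimeSpectrum (K ⊗[R] O))) :
    GeometricallyConnected (Spec.map (CommRingCat.ofHom (algebraMap R O))) := by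
  refine ⟨geometrically_iff_of_isClosedUnderIsomorphisms.mpr fun K _ y => ?_⟩
  obtain ⟨f, rfl⟩ : ∃ f : CommRingCat.of R ⟶ CommRingCat.of K, y = Spec.map f :=
    ⟨Spec.preimage y, (Spec.map_preimage y).symm⟩
  let _ : Algebra R K := f.hom.toAlgebra
  let L := AlgebraicClosure K
  have hL : ConnectedSpace (PrimeSpectrum (L ⊗[R] O)) := h L
  let E : L ⊗[K] (K ⊗[R] O) ≃ₐ[K] L ⊗[R] O := Algebra.TensorProduct.cancelBaseChange R K K L O
  have h1 : ConnectedSpace (PrimeSpectrum (L ⊗[K] (K ⊗[R] O))) :=
    (PrimeSpectrum.homeomorphOfRingEquiv E.toRingEquiv).connectedSpace_iff.2 hL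
  have h2 : ConnectedSpace (PrimeSpectrum (K ⊗[R] O)) := by
    have : ConnectedSpace (PrimeSpectrum ((K ⊗[R] O) ⊗[K] L)) :=
      (PrimeSpectrum.homeomorphOfRingEquiv (Algebra.TensorProduct.comm K (K ⊗[R] O) L).toRingEquiv).connectedSpace_iff.2 h1
    exact connectedSpace_of_surjective (algebraMap (K ⊗[R] O) ((K ⊗[R] O) ⊗[K] L))
      PrimeSpectrum.comap_surjective_of_faithfullyFlat
  have h3 : ConnectedSpace (PrimeSpectrum (O ⊗[R] K)) :=
    (PrimeSpectrum.homeomorphOfRingEquiv (Algebra.TensorProduct.comm R O K).toRingEquiv).connectedSpace_iff.2 h2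
  change ConnectedSpace ↥(pullback (Spec.map (CommRingCat.ofHom (algebraMap R O)))
    (Spec.map (CommRingCat.ofHom (algebraMap R K))))
  exact ((pullbackSpecIso R O K).hom.homeomorph).connectedSpace_iff.2 h3

end K917.Conn
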