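import Groth.Agent.QuadGrp.K917.Coef

/-!
# Infinitesimal deformations of isometries and similitudes
-/

set_option autoImplicit false
set_option linter.deprecated false
set_option linter.unusedSectionVars false

universe u v w u' v' w'

open QuadGrp QuadraticMap

namespace K917.Deform

open K917.Coef

variable {A : Type u} [CommRing A] {n : ℕ}

/-- Every form is a multiple of `a` plus an infinitesimal twist of `a`. -/
def DefProp (a : Sym2 (Fin n) → A) : Prop :=
  ∀ b : Sym2 (Fin n) → A, ∃ (ε : A) (H : Matrix (Fin n) (Fin n) A), b = ε • a + tw a H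

/-- Every form is an infinitesimal twist of `a`. -/
def RegProp (a : Sym2 (Fin n) → A) : Prop :=
  ∀ b : Sym2 (Fin n) → A, ∃ (H : Matrix (Fin n) (Fin n) A), b = tw a H

theorem RegProp.defProp {a : Sym2 (Fin n) → A} (h : RegProp a) : DefProp a := fun b => by
  obtain ⟨H, hH⟩ := h b
  exact ⟨0, H, by rw [zero_smul, zero_add, hH]⟩

theorem defProp_sc : DefProp (sc A n) := by
  intro b
  obtain ⟨ε, h, hh⟩ := Split.exists_deform (qf b)
  refine ⟨ε, LinearMap.toMatrix' h, ?_⟩
  rw [qf_ext_iff]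
  intro x
  rw [hh, qf_add, QuadraticMap.add_apply, qf_smul, QuadraticMap.smul_apply, qf_tw, qf_sc, smul_eq_mul,
    ← Matrix.toLin'_apply, Matrix.toLin'_toMatrix']

theorem sum_single {ι : Type*} [Fintype ι] [DecidableEq ι] (b : ι → A) :
    b = ∑ s, b s • (Pi.single s (1 : A) : ι → A) := by
  funext t
  rw [Finset.sum_apply, Finset.sum_eq_single t]
  · simp
  · intro s _ hs; simp [hs.symm]
  · intro h; exact absurd (Finset.mem_univ t) h

/-- Both properties spread the decomposition linearly, with coefficients in any prescribed ideal. -/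
theorem DefProp.exists_mem {a : Sym2 (Fin n) → A} (ha : DefProp a) {I : Ideal A}
    (b : Sym2 (Fin n) → A) (hb : ∀ s, b s ∈ I) :
    ∃ (ε : A) (H : Matrix (Fin n) (Fin n) A), ε ∈ I ∧ (∀ i j, H i j ∈ I) ∧ b = ε • a + tw a H := by
  classical
  choose ε H hH using fun s : Sym2 (Fin n) => ha (Pi.single s 1)
  refine ⟨∑ s, b s * ε s, ∑ s, b s • H s, Ideal.sum_mem _ fun s _ => Ideal.mul_mem_right _ _ (hb s), fun i j => ?_, ?_⟩
  · rw [Matrix.sum_apply]
    exact Ideal.sum_mem _ fun s _ => by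
      rw [Matrix.smul_apply, smul_eq_mul]; exact Ideal.mul_mem_right _ _ (hb s)
  · conv_lhs => rw [sum_single b]
    rw [tw_sum, Finset.sum_smul, ← Finset.sum_add_distrib]
    refine Finset.sum_congr rfl fun s _ => ?_
    rw [hH s, smul_add, tw_smul, mul_smul]

theorem RegProp.exists_mem {a : Sym2 (Fin n) → A} (ha : RegProp a) {I : Ideal A}
    (b : Sym2 (Fin n) → A) (hb : ∀ s, b s ∈ I) :
    ∃ (H : Matrix (Fin n) (Fin n) A), (∀ i j, H i j ∈ I) ∧ b = tw a H := by
  classical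
  choose H hH using fun s : Sym2 (Fin n) => ha (Pi.single s 1)
  refine ⟨∑ s, b s • H s, fun i j => ?_, ?_⟩
  · rw [Matrix.sum_apply]
    exact Ideal.sum_mem _ fun s _ => by
      rw [Matrix.smul_apply, smul_eq_mul]; exact Ideal.mul_mem_right _ _ (hb s)
  · conv_lhs => rw [sum_single b]
    rw [tw_sum]
    refine Finset.sum_congr rfl fun s _ => ?_
    rw [hH s, tw_smul]

section Map

variable {B : Type v} [CommRing B] (φ : A →+* B)

theorem map_single (s : Sym2 (Fin n)) [DecidableEq (Sym2 (Fin n))] :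
    φ ∘ (Pi.single s (1 : A) : Sym2 (Fin n) → A) = Pi.single s (1 : B) := by
  funext j
  rw [Function.comp_apply, Pi.single_apply, Pi.single_apply]
  split_ifs <;> simp

theorem map_smul_fun {ι : Type*} (c : A) (a : ι → A) : φ ∘ (c • a) = φ c • (φ ∘ a) := by
  funext s; simp

theorem map_add_fun {ι : Type*} (a a' : ι → A) : φ ∘ (a + a') = φ ∘ a + φ ∘ a' := by
  funext s; simp

theorem DefProp.map {a : Sym2 (Fin n) → A} (ha : DefProp a) : DefProp (φ ∘ a) := by
  classical
  intro b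
  choose ε H hH using fun s : Sym2 (Fin n) => ha (Pi.single s 1)
  refine ⟨∑ s, b s * φ (ε s), ∑ s, b s • (H s).map φ, ?_⟩
  conv_lhs => rw [sum_single b]
  rw [tw_sum, Finset.sum_smul, ← Finset.sum_add_distrib]
  refine Finset.sum_congr rfl fun s _ => ?_
  rw [← map_single φ s, hH s, map_add_fun, map_smul_fun, map_tw, smul_add, tw_smul, mul_smul]

theorem RegProp.map {a : Sym2 (Fin n) → A} (ha : RegProp a) : RegProp (φ ∘ a) := by
  classical
  intro b
  choose H hH using fun s : Sym2 (Fin n) => ha (Pi.single s 1)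
  refine ⟨∑ s, b s • (H s).map φ, ?_⟩
  conv_lhs => rw [sum_single b]
  rw [tw_sum]
  refine Finset.sum_congr rfl fun s _ => ?_
  rw [← map_single φ s, hH s, map_tw, tw_smul]

end Map

section SqZero

variable {I : Ideal A}

theorem mul_eq_zero_of_mem (hI : I ^ 2 = ⊥) {x y : A} (hx : x ∈ I) (hy : y ∈ I) : x * y = 0 := by
  have : x * y ∈ I ^ 2 := by rw [pow_two]; exact Ideal.mul_mem_mul hx hy
  rwa [hI, Ideal.mem_bot] at this

theorem mulVec_mem {H : Matrix (Fin n) (Fin n) A} (hH : ∀ i j, H i j ∈ I) (x : Fin n → A) (i : Fin n) :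
    H.mulVec x i ∈ I := by
  rw [Matrix.mulVec, dotProduct]
  exact Ideal.sum_mem _ fun j _ => Ideal.mul_mem_right _ _ (hH i j)

theorem mulVec_mulVec_zero (hI : I ^ 2 = ⊥) {H H' : Matrix (Fin n) (Fin n) A} (hH : ∀ i j, H i j ∈ I)
    (hH' : ∀ i j, H' i j ∈ I) (x : Fin n → A) : H.mulVec (H'.mulVec x) = 0 := by
  funext i
  rw [Matrix.mulVec, dotProduct]
  exact Finset.sum_eq_zero fun j _ => mul_eq_zero_of_mem hI (hH i j) (mulVec_mem hH' x j)

theorem polar_mem (a : Sym2 (Fin n) → A) (x : Fin n → A) {y : Fin n → A} (hy : ∀ i, y i ∈ I) :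
    polar (qf a) x y ∈ I := by
  rw [polar_qf]
  refine Ideal.sum_mem _ fun i _ => Ideal.sum_mem _ fun j _ => ?_
  split_ifs
  · exact Ideal.mul_mem_left _ _ (Ideal.add_mem _ (Ideal.mul_mem_left _ _ (hy j)) (Ideal.mul_mem_right _ _ (hy i)))
  · exact Ideal.zero_mem _

theorem qf_mem (a : Sym2 (Fin n) → A) {y : Fin n → A} (hy : ∀ i, y i ∈ I) :
    qf a y ∈ I := by
  rw [qf_apply]
  refine Ideal.sum_mem _ fun i _ => Ideal.sum_mem _ fun j _ => ?_
  split_ifs
  · exact Ideal.mul_mem_left _ _ (hy j)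
  · exact Ideal.zero_mem _

theorem qf_eq_zero (hI : I ^ 2 = ⊥) (a : Sym2 (Fin n) → A) {y : Fin n → A} (hy : ∀ i, y i ∈ I) :
    qf a y = 0 := by
  rw [qf_apply]
  refine Finset.sum_eq_zero fun i _ => Finset.sum_eq_zero fun j _ => ?_
  split_ifs
  · rw [mul_assoc, mul_eq_zero_of_mem hI (hy i) (hy j), mul_zero]
  · rfl

theorem polar_eq_zero (hI : I ^ 2 = ⊥) (a : Sym2 (Fin n) → A) {x y : Fin n → A} (hx : ∀ i, x i ∈ I)
    (hy : ∀ i, y i ∈ I) : polar (qf a) x y = 0 := by
  rw [polar_qf]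
  refine Finset.sum_eq_zero fun i _ => Finset.sum_eq_zero fun j _ => ?_
  split_ifs
  · rw [mul_eq_zero_of_mem hI (hx i) (hy j), mul_eq_zero_of_mem hI (hy i) (hx j), add_zero, mul_zero]
  · rfl

/-- The correction step. -/
theorem corr (hI : I ^ 2 = ⊥) (a a' : Sym2 (Fin n) → A) (X H : Matrix (Fin n) (Fin n) A) (c ε : A)
    (hε : ε ∈ I) (hH : ∀ i j, H i j ∈ I) (h : c • pull a X = a' + (ε • a' + tw a' H)) :
    (c * (1 - ε)) • pull a (X * (1 - H)) = a' := by
  have h1 : (c * (1 - ε)) • pull a (X * (1 - H)) = (1 - ε) • pull (c • pull a X) (1 - H) := by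
    rw [pull_mul, pull_smul, smul_smul, mul_comm]
  rw [h1, h, qf_ext_iff]
  intro x
  rw [qf_smul, QuadraticMap.smul_apply, qf_pull, qf_add, QuadraticMap.add_apply, qf_add,
    QuadraticMap.add_apply, qf_smul, QuadraticMap.smul_apply, qf_tw, Matrix.sub_mulVec, Matrix.one_mulVec,
    Matrix.mulVec_sub, mulVec_mulVec_zero hI hH hH x, sub_zero]
  have hy := mulVec_mem hH x
  set y := H.mulVec x with hydef
  have e1 : qf a' (x - y) = qf a' x - polar (qf a') x y := by
    rw [sub_eq_add_neg, qf_add_vec, QuadraticMap.map_neg, polar_neg_right, qf_eq_zero hI a' hy]; ring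
  have e2 : polar (qf a') (x - y) y = polar (qf a') x y := by
    rw [polar_sub_left, polar_eq_zero hI a' hy hy, sub_zero]
  rw [e1, e2, smul_eq_mul, smul_eq_mul]
  have e3 : ε * polar (qf a') x y = 0 := mul_eq_zero_of_mem hI hε (polar_mem a' x hy)
  have e4 : ε * ε = 0 := mul_eq_zero_of_mem hI hε hε
  linear_combination (-(1 - ε)) * e3 - (qf a' x) * e4

/-- Lifting similitudes along a square-zero ideal. -/
theorem DefProp.lift (hI : I ^ 2 = ⊥) (a a' : Sym2 (Fin n) → A) (ha' : DefProp a')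
    (X : Matrix (Fin n) (Fin n) A) (c : A) (h : ∀ s, (c • pull a X) s - a' s ∈ I) :
    ∃ (Y : Matrix (Fin n) (Fin n) A) (c' : A), (∀ i j, Y i j - X i j ∈ I) ∧ c' - c ∈ I ∧
      c' • pull a Y = a' := by
  obtain ⟨ε, H, hε, hH, hb⟩ := ha'.exists_mem (I := I) (c • pull a X - a') h
  refine ⟨X * (1 - H), c * (1 - ε), fun i j => ?_, ?_, corr hI a a' X H c ε hε hH (by rw [← hb]; abel)⟩
  · rw [Matrix.mul_sub, Matrix.mul_one, Matrix.sub_apply, sub_sub_cancel_left, neg_mem_iff, Matrix.mul_apply]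
    exact Ideal.sum_mem _ fun k _ => Ideal.mul_mem_left _ _ (hH k j)
  · have : c * (1 - ε) - c = -(c * ε) := by ring
    rw [this, neg_mem_iff]
    exact Ideal.mul_mem_left _ _ hε

/-- Lifting isometries along a square-zero ideal. -/
theorem RegProp.lift (hI : I ^ 2 = ⊥) (a a' : Sym2 (Fin n) → A) (ha' : RegProp a')
    (X : Matrix (Fin n) (Fin n) A) (h : ∀ s, pull a X s - a' s ∈ I) :
    ∃ (Y : Matrix (Fin n) (Fin n) A), (∀ i j, Y i j - X i j ∈ I) ∧ pull a Y = a' := by
  obtain ⟨H, hH, hb⟩ := ha'.exists_mem (I := I) (pull a X - a') h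
  refine ⟨X * (1 - H), fun i j => ?_, ?_⟩
  · rw [Matrix.mul_sub, Matrix.mul_one, Matrix.sub_apply, sub_sub_cancel_left, neg_mem_iff, Matrix.mul_apply]
    exact Ideal.sum_mem _ fun k _ => Ideal.mul_mem_left _ _ (hH k j)
  · have := corr hI a a' X H 1 0 (Ideal.zero_mem _) hH (by rw [one_smul, zero_smul, zero_add, ← hb]; abel)
    rwa [sub_zero, mul_one, one_smul] at this

end SqZero

end K917.Deform
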