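import Groth.Agent.QuadGrp.K917.Rep
import Groth.Agent.QuadGrp.K917.Centralizer

/-!
# From `LinRep` to an explicit coordinate algebra given by a universal matrix
-/

set_option autoImplicit false
set_option linter.deprecated false
set_option linter.unusedSectionVars false

universe u v

open CategoryTheory AlgebraicGeometry Limits QuadGrp TensorProduct MonObj

namespace K917.Rep

section Mat

variable {R : Type u} [CommRing R] {M : Type v} [AddCommGroup M] [Module R M] {n : ℕ}
  (b : Module.Basis (Fin n) R M)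

/-- the matrix of an automorphism of `A ⊗ M` -/
noncomputable def mat (A : Type u) [CommRing A] [Algebra R A] (g : (A ⊗[R] M) ≃ₗ[A] (A ⊗[R] M)) :
    Matrix (Fin n) (Fin n) A :=
  LinearMap.toMatrix (b.baseChange A) (b.baseChange A) g

theorem mat_apply (A : Type u) [CommRing A] [Algebra R A] (g : (A ⊗[R] M) ≃ₗ[A] (A ⊗[R] M)) (i j : Fin n) :
    mat b A g i j = (b.baseChange A).repr (g (1 ⊗ₜ[R] b j)) i := by
  rw [mat, LinearMap.toMatrix_apply, Module.Basis.baseChange_apply]; rfl

theorem mat_injective (A : Type u) [CommRing A] [Algebra R A] {g h : (A ⊗[R] M) ≃ₗ[A] (A ⊗[R] M)}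
    (e : mat b A g = mat b A h) : g = h :=
  LinearEquiv.toLinearMap_injective ((LinearMap.toMatrix (b.baseChange A) (b.baseChange A)).injective e)

theorem repr_rTensor {A B : Type u} [CommRing A] [Algebra R A] [CommRing B] [Algebra R B] (φ : A →ₐ[R] B)
    (z : A ⊗[R] M) (i : Fin n) :
    (b.baseChange B).repr (LinearMap.rTensor M φ.toLinearMap z) i = φ ((b.baseChange A).repr z i) := by
  induction z using TensorProduct.induction_on with
  | zero => simp
  | tmul a m =>
    rw [LinearMap.rTensor_tmul, Module.Basis.baseChange_repr_tmul, Module.Basis.baseChange_repr_tmul,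
      AlgHom.toLinearMap_apply, map_smul]
  | add x y hx hy => rw [map_add, map_add, map_add, Finsupp.add_apply, Finsupp.add_apply, hx, hy, map_add]

theorem exists_mat_eq (A : Type u) [CommRing A] [Algebra R A] (X : Matrix (Fin n) (Fin n) A) (hX : IsUnit X.det) :
    ∃ g : (A ⊗[R] M) ≃ₗ[A] (A ⊗[R] M), mat b A g = X := by
  classical
  have h : IsUnit (LinearMap.toMatrix (b.baseChange A) (b.baseChange A)
      (Matrix.toLin (b.baseChange A) (b.baseChange A) X)).det := by
    rw [LinearMap.toMatrix_toLin]; exact hX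
  refine ⟨LinearEquiv.ofIsUnitDet h, ?_⟩
  rw [mat]
  have : (LinearEquiv.ofIsUnitDet h : (A ⊗[R] M) →ₗ[A] (A ⊗[R] M)) =
      Matrix.toLin (b.baseChange A) (b.baseChange A) X := by
    ext x; rfl
  rw [this, LinearMap.toMatrix_toLin]

theorem det_mat (A : Type u) [CommRing A] [Algebra R A] (g : (A ⊗[R] M) ≃ₗ[A] (A ⊗[R] M)) :
    (mat b A g).det = LinearMap.det (g : (A ⊗[R] M) →ₗ[A] (A ⊗[R] M)) :=
  LinearMap.det_toMatrix _ _

theorem isUnit_det_mat (A : Type u) [CommRing A] [Algebra R A] (g : (A ⊗[R] M) ≃ₗ[A] (A ⊗[R] M)) :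
    IsUnit (mat b A g).det := by
  rw [det_mat]; exact LinearEquiv.isUnit_det' g

open K917.Coef K917.Cover in
/-- isometries through matrices -/
theorem isometry_iff [Module.Free R M] (Q : QuadraticForm R M) (A : Type u) [CommRing A] [Algebra R A]
    (g : (A ⊗[R] M) ≃ₗ[A] (A ⊗[R] M)) :
    (∀ x, baseChangeForm A Q (g x) = baseChangeForm A Q x) ↔
      pull (algebraMap R A ∘ cfb b Q) (mat b A g) = algebraMap R A ∘ cfb b Q := by
  have key : ∀ x : Fin n → A, (b.baseChange A).equivFun.symm ((mat b A g).mulVec x) =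
      g ((b.baseChange A).equivFun.symm x) := by
    intro x
    apply (b.baseChange A).equivFun.injective
    rw [LinearEquiv.apply_symm_apply]
    have := LinearMap.toMatrix_mulVec_repr (b.baseChange A) (b.baseChange A) (g : (A ⊗[R] M) →ₗ[A] (A ⊗[R] M))
      ((b.baseChange A).equivFun.symm x)
    have h2 : ((b.baseChange A).repr ((b.baseChange A).equivFun.symm x) : Fin n → A) = x := by
      rw [← Module.Basis.equivFun_apply, LinearEquiv.apply_symm_apply]
    rw [h2] at this
    exact this
  have hc : algebraMap R A ∘ cfb b Q = cfb (b.baseChange A) (baseChangeForm A Q) :=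
    (Base.coeffs_baseChangeForm A b Q).symm
  rw [hc, qf_ext_iff]
  constructor
  · intro h x
    rw [qf_pull, ← apply_equivFun_symm, ← apply_equivFun_symm, key, h]
  · intro h x
    obtain ⟨y, rfl⟩ := (b.baseChange A).equivFun.symm.surjective x
    rw [← key, apply_equivFun_symm, apply_equivFun_symm, ← qf_pull, h]

end Mat

section LinRep

variable {R : Type u} [CommRing R] {M : Type u} [AddCommGroup M] [Module R M] {n : ℕ}
  (b : Module.Basis (Fin n) R M)
  {S : ∀ (A : Type u) [CommRing A] [Algebra R A], Subgroup ((A ⊗[R] M) ≃ₗ[A] (A ⊗[R] M))}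
  {G : Over (Spec (CommRingCat.of R))} [GrpObj G]

theorem mat_natural (D : LinRep R M S G) {A B : Type u} [CommRing A] [Algebra R A] [CommRing B] [Algebra R B]
    (φ : A →ₐ[R] B) (y : specOver R A ⟶ G) :
    mat b B (D.pts B (specOverMap R φ ≫ y) : ↥(S B)) = (mat b A (D.pts A y : ↥(S A))).map φ := by
  ext i j
  rw [mat_apply, Matrix.map_apply, mat_apply, D.natural, repr_rTensor]

variable {O : Type u} [CommRing O] [Algebra R O]

/-- The coordinate algebra of a linear representable functor, from a universal matrix. -/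
noncomputable def affRepOfMat (D : LinRep R M S G) (U : Matrix (Fin n) (Fin n) O)
    (h1 : ∀ (A : Type u) [CommRing A] [Algebra R A] (g : (A ⊗[R] M) ≃ₗ[A] (A ⊗[R] M)), g ∈ S A →
      ∃ φ : O →ₐ[R] A, U.map φ = mat b A g)
    (h2 : ∀ (A : Type u) [CommRing A] [Algebra R A] (φ ψ : O →ₐ[R] A), U.map φ = U.map ψ → φ = ψ)
    (h3 : ∀ (A : Type u) [CommRing A] [Algebra R A] (φ : O →ₐ[R] A), ∃ g ∈ S A, mat b A g = U.map φ) :
    AffRep G O where
  equiv A _ _ :=
    { toFun := fun y => (h1 A _ (D.pts A y).2).choose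
      invFun := fun φ => (D.pts A).symm ⟨(h3 A φ).choose, (h3 A φ).choose_spec.1⟩
      left_inv := fun y => by
        apply (D.pts A).injective
        rw [MulEquiv.apply_symm_apply]
        apply Subtype.ext
        apply mat_injective b A
        exact (h3 A _).choose_spec.2.trans (h1 A _ (D.pts A y).2).choose_spec
      right_inv := fun φ => by
        apply h2
        rw [(h1 A _ (D.pts A _).2).choose_spec, MulEquiv.apply_symm_apply]
        exact (h3 A φ).choose_spec.2 }
  natural A B _ _ _ _ φ y := by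
    apply h2
    change U.map (h1 B _ (D.pts B (specOverMap R φ ≫ y)).2).choose =
      U.map (φ.comp (h1 A _ (D.pts A y).2).choose)
    rw [(h1 B _ (D.pts B (specOverMap R φ ≫ y)).2).choose_spec, mat_natural]
    refine (congrArg (fun X : Matrix (Fin n) (Fin n) A => X.map φ) (h1 A _ (D.pts A y).2).choose_spec).symm.trans ?_
    ext i j
    rfl

end LinRep

end K917.Rep
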