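import Groth.Agent.QuadGrp.K917.PolySys
import Mathlib.Algebra.DualNumber
import Mathlib.RingTheory.Kaehler.Basic
import Mathlib.LinearAlgebra.Dual.Lemmas

/-!
# The fibre of the module of differentials of the universal algebra of a polynomial system, through dual numbers
-/

set_option autoImplicit false

universe u v w

open MvPolynomial TensorProduct

namespace K917.PolySys

variable {R : Type u} [CommRing R] {σ : Type v} {ι : Type w} (f : ι → MvPolynomial σ R)
variable {K : Type*} [Field K] [Algebra R K] [Algebra (Alg f) K] [IsScalarTower R (Alg f) K]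

/-- The candidate tangent vector as a point with values in dual numbers. -/
noncomputable def epsPt (T : σ → K) : σ → DualNumber K :=
  fun s => TrivSqZeroExt.inl (algebraMap (Alg f) K (pt f s)) + TrivSqZeroExt.inr (T s)

/-- evaluation of covectors on the generators -/
noncomputable def evalGen : Module.Dual K (K ⊗[Alg f] Ω[Alg f⁄R]) →ₗ[K] (σ → K) :=
  LinearMap.pi fun s => Module.Dual.eval K _ ((1 : K) ⊗ₜ[Alg f] KaehlerDifferential.D R (Alg f) (pt f s))

theorem evalGen_apply (l : Module.Dual K (K ⊗[Alg f] Ω[Alg f⁄R])) (s : σ) :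
    evalGen f l s = l ((1 : K) ⊗ₜ[Alg f] KaehlerDifferential.D R (Alg f) (pt f s)) := rfl

/-- the derivation attached to a covector -/
noncomputable def derOf (l : Module.Dual K (K ⊗[Alg f] Ω[Alg f⁄R])) : Derivation R (Alg f) K :=
  ((l.restrictScalars (Alg f)).comp (TensorProduct.mk (Alg f) K Ω[Alg f⁄R] 1)).compDer (KaehlerDifferential.D R (Alg f))

theorem derOf_apply (l : Module.Dual K (K ⊗[Alg f] Ω[Alg f⁄R])) (a : Alg f) :
    derOf f l a = l ((1 : K) ⊗ₜ[Alg f] KaehlerDifferential.D R (Alg f) a) := rfl

theorem adjoin_pt : Algebra.adjoin R (Set.range (pt f)) = ⊤ := by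
  rw [Algebra.adjoin_range_eq_range_aeval, ← mkₐ_eq_aeval, AlgHom.range_eq_top]
  exact Ideal.Quotient.mkₐ_surjective _ _

theorem evalGen_injective : Function.Injective (evalGen (K := K) f) := by
  intro l l' h
  have h1 : derOf f l = derOf f l' := by
    apply Derivation.ext_of_adjoin_eq_top _ (adjoin_pt f)
    rintro _ ⟨s, rfl⟩
    exact congrFun h s
  apply LinearMap.ext
  intro z
  induction z using TensorProduct.induction_on with
  | zero => rw [map_zero, map_zero]
  | tmul c ω =>
    have hs : (c ⊗ₜ[Alg f] ω : K ⊗[Alg f] Ω[Alg f⁄R]) = c • ((1 : K) ⊗ₜ[Alg f] ω) := by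
      rw [TensorProduct.smul_tmul', smul_eq_mul, mul_one]
    rw [hs, map_smul, map_smul]
    congr 1
    have hω : ω ∈ Submodule.span (Alg f) (Set.range (KaehlerDifferential.D R (Alg f))) := by
      rw [KaehlerDifferential.span_range_derivation]; trivial
    induction hω using Submodule.span_induction with
    | mem ω hω =>
      obtain ⟨a, rfl⟩ := hω
      exact DFunLike.congr_fun h1 a
    | zero => rw [TensorProduct.tmul_zero, map_zero, map_zero]
    | add x y _ _ hx hy =>
      have hx' := hx (by rw [TensorProduct.smul_tmul', smul_eq_mul, mul_one])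
      have hy' := hy (by rw [TensorProduct.smul_tmul', smul_eq_mul, mul_one])
      rw [TensorProduct.tmul_add, map_add, map_add, hx', hy']
    | smul a x _ hx =>
      have hx' := hx (by rw [TensorProduct.smul_tmul', smul_eq_mul, mul_one])
      have : (1 : K) ⊗ₜ[Alg f] (a • x) = algebraMap (Alg f) K a • ((1 : K) ⊗ₜ[Alg f] x) := by
        rw [← TensorProduct.smul_tmul a (1 : K) x, TensorProduct.smul_tmul', Algebra.smul_def, smul_eq_mul]
      rw [this, map_smul, map_smul, hx']
  | add x y hx hy => rw [map_add, map_add, hx, hy]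

/-- the algebra map to dual numbers attached to a derivation -/
noncomputable def dualHom (D : Derivation R (Alg f) K) : Alg f →ₐ[R] DualNumber K where
  toFun a := TrivSqZeroExt.inl (algebraMap (Alg f) K a) + TrivSqZeroExt.inr (D a)
  map_one' := by simp
  map_zero' := by simp
  map_add' a b := by
    rw [map_add, map_add, TrivSqZeroExt.inl_add, TrivSqZeroExt.inr_add]; abel
  map_mul' a b := by
    ext
    · rw [TrivSqZeroExt.fst_mul]
      simp only [TrivSqZeroExt.fst_add, TrivSqZeroExt.fst_inl, TrivSqZeroExt.fst_inr, add_zero, map_mul]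
    · rw [TrivSqZeroExt.snd_mul]
      simp only [TrivSqZeroExt.fst_add, TrivSqZeroExt.fst_inl, TrivSqZeroExt.fst_inr, add_zero,
        TrivSqZeroExt.snd_add, TrivSqZeroExt.snd_inl, TrivSqZeroExt.snd_inr, zero_add, Derivation.leibniz,
        Algebra.smul_def, op_smul_eq_smul, Algebra.algebraMap_self, RingHom.id_apply, smul_eq_mul]
  commutes' r := by
    rw [Derivation.map_algebraMap, ← IsScalarTower.algebraMap_apply R (Alg f) K, TrivSqZeroExt.inr_zero, add_zero]
    rfl

theorem mem_range_evalGen_iff (T : σ → K) :
    T ∈ LinearMap.range (evalGen (K := K) f) ↔ ∀ i, aeval (epsPt f T) (f i) = 0 := by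
  constructor
  · rintro ⟨l, rfl⟩ i
    have h := sol_of_hom f (dualHom f (derOf f l)) i
    exact h
  · intro h
    let g : Alg f →ₐ[R] DualNumber K := lift f (epsPt f T) h
    have hfst : ∀ a, TrivSqZeroExt.fst (g a) = algebraMap (Alg f) K a := by
      intro a
      have : (TrivSqZeroExt.fstHom R K K).comp g = IsScalarTower.toAlgHom R (Alg f) K := by
        apply hom_ext
        intro s
        rw [AlgHom.comp_apply, lift_pt]
        simp [epsPt]
      exact DFunLike.congr_fun this a
    let D : Derivation R (Alg f) K := Derivation.mk'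
      ({ toFun := fun a => TrivSqZeroExt.snd (g a), map_add' := fun a b => by rw [map_add]; rfl,
         map_smul' := fun r a => by
          rw [map_smul, TrivSqZeroExt.snd_smul, RingHom.id_apply] } : Alg f →ₗ[R] K)
      (fun a b => by
        change TrivSqZeroExt.snd (g (a * b)) = a • TrivSqZeroExt.snd (g b) + b • TrivSqZeroExt.snd (g a)
        rw [map_mul, TrivSqZeroExt.snd_mul, hfst, hfst]
        simp [Algebra.smul_def]
        ring)
    refine ⟨LinearMap.liftBaseChange K D.liftKaehlerDifferential, ?_⟩
    funext s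
    rw [evalGen_apply, LinearMap.liftBaseChange_tmul, one_smul, Derivation.liftKaehlerDifferential_comp_D]
    change TrivSqZeroExt.snd (g (pt f s)) = T s
    rw [lift_pt]
    simp [epsPt]

/-- **The fibre rank of the differentials is the dimension of the space of tangent vectors.** -/
theorem finrank_fiber_kaehler [Finite σ] (W : Submodule K (σ → K))
    (hW : ∀ T, T ∈ W ↔ ∀ i, aeval (epsPt f T) (f i) = 0) :
    Module.finrank K (K ⊗[Alg f] Ω[Alg f⁄R]) = Module.finrank K W := by
  have hft : Algebra.FiniteType R (Alg f) := inferInstance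
  have : Module.Finite K (K ⊗[Alg f] Ω[Alg f⁄R]) := inferInstance
  have hr : LinearMap.range (evalGen (K := K) f) = W := by
    ext T
    rw [mem_range_evalGen_iff, hW]
  rw [← Subspace.dual_finrank_eq, ← hr]
  exact (LinearEquiv.ofInjective _ (evalGen_injective f)).finrank_eq

end K917.PolySys
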