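import Groth.Agent.QuadGrp.K917.Reg
import Groth.Agent.QuadGrp.K917.Lin
import Groth.Agent.QuadGrp.K917.Tangent

/-!
# The coordinate algebras of `O(q)` and `SO'(q)` inside the algebra of matrices; smoothness
-/

set_option autoImplicit false
set_option maxHeartbeats 400000
set_option linter.deprecated false
set_option linter.unusedSectionVars false

universe u v

open QuadGrp QuadraticMap TensorProduct

namespace K917.OAlg

open K917.Coef K917.Deform K917.Cover K917.Reg

section Eq

variable (R : Type u) [CommRing R] (n : ℕ)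

/-- the universal matrix -/
noncomputable def univ : Matrix (Fin n) (Fin n) (MvPolynomial (Fin n × Fin n) R) :=
  Matrix.of fun i j => MvPolynomial.X (i, j)

variable {R n}

/-- the equations of the orthogonal group -/
noncomputable def oEq (a : Sym2 (Fin n) → R) : Sym2 (Fin n) → MvPolynomial (Fin n × Fin n) R := fun s =>
  pull (algebraMap R (MvPolynomial (Fin n × Fin n) R) ∘ a) (univ R n) s -
    algebraMap R (MvPolynomial (Fin n × Fin n) R) (a s)

/-- the equations of the naive special orthogonal group -/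
noncomputable def soEq (a : Sym2 (Fin n) → R) : Sym2 (Fin n) ⊕ Unit → MvPolynomial (Fin n × Fin n) R
  | Sum.inl s => oEq a s
  | Sum.inr _ => (univ R n).det - 1

variable {B : Type*} [CommRing B] [Algebra R B]

/-- the matrix of a point -/
def mOf (x : Fin n × Fin n → B) : Matrix (Fin n) (Fin n) B := Matrix.of fun i j => x (i, j)

theorem univ_map (x : Fin n × Fin n → B) : (univ R n).map (MvPolynomial.aeval (R := R) x) = mOf x := by
  ext i j
  rw [Matrix.map_apply, univ, Matrix.of_apply, MvPolynomial.aeval_X]; rfl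

theorem aeval_oEq (a : Sym2 (Fin n) → R) (x : Fin n × Fin n → B) (s : Sym2 (Fin n)) :
    MvPolynomial.aeval x (oEq a s) =
      pull (algebraMap R B ∘ a) (mOf x) s - (algebraMap R B ∘ a) s := by
  rw [oEq, map_sub, AlgHom.commutes]
  congr 1
  have := congrFun (map_pull (MvPolynomial.aeval (R := R) x : MvPolynomial (Fin n × Fin n) R →+* B)
    (algebraMap R (MvPolynomial (Fin n × Fin n) R) ∘ a) (univ R n)) s
  rw [Function.comp_apply] at this
  have h1 : (MvPolynomial.aeval (R := R) x : MvPolynomial (Fin n × Fin n) R →+* B) ∘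
      (algebraMap R (MvPolynomial (Fin n × Fin n) R) ∘ a) = algebraMap R B ∘ a := by
    funext t
    exact (MvPolynomial.aeval (R := R) x).commutes (a t)
  have h2 : (univ R n).map (MvPolynomial.aeval (R := R) x : MvPolynomial (Fin n × Fin n) R →+* B) = mOf x := univ_map x
  rw [h1, h2] at this
  exact this

theorem aeval_det (x : Fin n × Fin n → B) :
    MvPolynomial.aeval (R := R) x ((univ R n).det - 1) = (mOf x).det - 1 := by
  rw [map_sub, map_one, ← univ_map (R := R) x, ← AlgHom.mapMatrix_apply, ← AlgHom.map_det]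

theorem oEq_iff (a : Sym2 (Fin n) → R) (x : Fin n × Fin n → B) :
    (∀ s, MvPolynomial.aeval x (oEq a s) = 0) ↔ pull (algebraMap R B ∘ a) (mOf x) = algebraMap R B ∘ a := by
  rw [funext_iff]
  exact forall_congr' fun s => by rw [aeval_oEq, sub_eq_zero]

theorem soEq_iff (a : Sym2 (Fin n) → R) (x : Fin n × Fin n → B) :
    (∀ s, MvPolynomial.aeval x (soEq a s) = 0) ↔
      pull (algebraMap R B ∘ a) (mOf x) = algebraMap R B ∘ a ∧ (mOf x).det = 1 := by
  rw [Sum.forall, ← oEq_iff]
  refine and_congr Iff.rfl ?_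
  constructor
  · intro h
    have := h ()
    rw [soEq, aeval_det, sub_eq_zero] at this
    exact this
  · intro h s
    rw [soEq, aeval_det, sub_eq_zero]
    exact h

/-- the universal point of a system in matrix variables -/
noncomputable def uMat {ι : Type*} (f : ι → MvPolynomial (Fin n × Fin n) R) : Matrix (Fin n) (Fin n) (PolySys.Alg f) :=
  mOf (PolySys.pt f)

theorem uMat_map {ι : Type*} (f : ι → MvPolynomial (Fin n × Fin n) R) (φ : PolySys.Alg f →ₐ[R] B) :
    (uMat f).map φ = mOf fun s => φ (PolySys.pt f s) := rfl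

theorem hom_ext {ι : Type*} (f : ι → MvPolynomial (Fin n × Fin n) R) {φ ψ : PolySys.Alg f →ₐ[R] B}
    (h : (uMat f).map φ = (uMat f).map ψ) : φ = ψ := by
  apply PolySys.hom_ext
  rintro ⟨i, j⟩
  exact congrFun (congrFun h i) j

/-- the algebra map defined by an isometry matrix -/
theorem exists_hom_o (a : Sym2 (Fin n) → R) (X : Matrix (Fin n) (Fin n) B)
    (hX : pull (algebraMap R B ∘ a) X = algebraMap R B ∘ a) :
    ∃ φ : PolySys.Alg (oEq a) →ₐ[R] B, (uMat (oEq a)).map φ = X := by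
  refine ⟨PolySys.lift (oEq a) (fun p => X p.1 p.2) ((oEq_iff a _).2 hX), ?_⟩
  rw [uMat_map]
  ext i j
  exact PolySys.lift_pt (oEq a) (fun p => X p.1 p.2) ((oEq_iff a _).2 hX) (i, j)

theorem hom_o (a : Sym2 (Fin n) → R) (φ : PolySys.Alg (oEq a) →ₐ[R] B) :
    pull (algebraMap R B ∘ a) ((uMat (oEq a)).map φ) = algebraMap R B ∘ a := by
  rw [uMat_map]
  exact (oEq_iff a _).1 (PolySys.sol_of_hom (oEq a) φ)

theorem exists_hom_so (a : Sym2 (Fin n) → R) (X : Matrix (Fin n) (Fin n) B)
    (hX : pull (algebraMap R B ∘ a) X = algebraMap R B ∘ a) (hd : X.det = 1) :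
    ∃ φ : PolySys.Alg (soEq a) →ₐ[R] B, (uMat (soEq a)).map φ = X := by
  refine ⟨PolySys.lift (soEq a) (fun p => X p.1 p.2) ((soEq_iff a _).2 ⟨hX, hd⟩), ?_⟩
  rw [uMat_map]
  ext i j
  exact PolySys.lift_pt (soEq a) (fun p => X p.1 p.2) ((soEq_iff a _).2 ⟨hX, hd⟩) (i, j)

theorem hom_so (a : Sym2 (Fin n) → R) (φ : PolySys.Alg (soEq a) →ₐ[R] B) :
    pull (algebraMap R B ∘ a) ((uMat (soEq a)).map φ) = algebraMap R B ∘ a ∧ ((uMat (soEq a)).map φ).det = 1 := by
  rw [uMat_map]
  exact (soEq_iff a _).1 (PolySys.sol_of_hom (soEq a) φ)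

end Eq

section Smooth

variable {R : Type u} [CommRing R] {n : ℕ}

theorem smooth_o (a : Sym2 (Fin n) → R) (ha : RegProp a) : Algebra.Smooth R (PolySys.Alg (oEq a)) := by
  refine PolySys.smooth_of _ ?_
  intro B _ _ I hI x hx
  obtain ⟨Y, hY1, hY2⟩ := RegProp.lift hI (algebraMap R B ∘ a) (algebraMap R B ∘ a) (RegProp.map (algebraMap R B) ha)
    (mOf x) (fun s => by rw [← aeval_oEq]; exact hx s)
  exact ⟨fun p => Y p.1 p.2, fun p => hY1 p.1 p.2, (oEq_iff a _).2 hY2⟩

theorem det_sub_mem {B : Type*} [CommRing B] {I : Ideal B} {X Y : Matrix (Fin n) (Fin n) B}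
    (h : ∀ i j, Y i j - X i j ∈ I) : Y.det - X.det ∈ I := by
  rw [← Ideal.Quotient.eq, RingHom.map_det, RingHom.map_det]
  congr 1
  ext i j
  rw [RingHom.mapMatrix_apply, RingHom.mapMatrix_apply, Matrix.map_apply, Matrix.map_apply]
  exact Ideal.Quotient.eq.2 (h i j)

theorem smooth_so {m : ℕ} (a : Sym2 (Fin (2 * m + 1)) → R) (ha : DefProp a) (hd : IsUnit (hd a)) :
    Algebra.Smooth R (PolySys.Alg (soEq a)) := by
  have hodd : Odd (2 * m + 1) := ⟨m, rfl⟩
  refine PolySys.smooth_of _ ?_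
  intro B _ _ I hI x hx
  have hx1 : ∀ s, pull (algebraMap R B ∘ a) (mOf x) s - (algebraMap R B ∘ a) s ∈ I := fun s => by
    rw [← aeval_oEq]; exact hx (Sum.inl s)
  have hx2 : (mOf x).det - 1 ∈ I := by rw [← aeval_det (R := R)]; exact hx (Sum.inr ())
  obtain ⟨Y, c, hY1, hc, hY2⟩ := DefProp.lift hI (algebraMap R B ∘ a) (algebraMap R B ∘ a)
    (DefProp.map (algebraMap R B) ha) (mOf x) 1 (fun s => by rw [one_smul]; exact hx1 s)
  have hdB : IsUnit (K917.Reg.hd (algebraMap R B ∘ a)) := by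
    have h1 : K917.Reg.hd (algebraMap R B ∘ a) = algebraMap R B (K917.Reg.hd a) := by
      rw [hd_eq, hd_eq, K918.HalfDisc.hd_map]; rfl
    rw [h1]; exact hd.map _
  have hdet : c ^ (2 * m + 1) * Y.det ^ 2 = 1 := by
    have h1 := congrArg K917.Reg.hd hY2
    rw [hd_smul hodd, hd_pull hodd, ← mul_assoc] at h1
    exact hdB.mul_right_cancel (by rw [h1, one_mul])
  -- the square root of `c`
  set t : B := c ^ (m + 1) * Y.det with ht
  have htt : t * t = c := by
    rw [ht]
    have : c ^ (m + 1) * Y.det * (c ^ (m + 1) * Y.det) = c * (c ^ (2 * m + 1) * Y.det ^ 2) := by ring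
    rw [this, hdet, mul_one]
  have hY : Y.det - 1 ∈ I := by
    have := I.add_mem (det_sub_mem hY1) hx2
    rwa [sub_add_sub_cancel] at this
  have hcpow : ∀ k : ℕ, c ^ k - 1 ∈ I := fun k => by
    rw [← Ideal.Quotient.eq, map_pow, Ideal.Quotient.eq.2 hc, map_one, one_pow]
  have htI : t - 1 ∈ I := by
    have h1 : t - 1 = (c ^ (m + 1) - 1) * Y.det + (Y.det - 1) := by rw [ht]; ring
    rw [h1]
    exact I.add_mem (I.mul_mem_right _ (hcpow _)) hY
  refine ⟨fun p => (t • Y) p.1 p.2, fun p => ?_, (soEq_iff a _).2 ⟨?_, ?_⟩⟩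
  · have h1 : (t • Y) p.1 p.2 - x p = (t - 1) * Y p.1 p.2 + (Y p.1 p.2 - mOf x p.1 p.2) := by
      rw [Matrix.smul_apply, smul_eq_mul]
      change _ = (t - 1) * Y p.1 p.2 + (Y p.1 p.2 - x (p.1, p.2))
      ring
    rw [h1]
    exact I.add_mem (I.mul_mem_right _ htI) (hY1 _ _)
  · change pull (algebraMap R B ∘ a) (t • Y) = _
    rw [pull_smul_mat, htt, hY2]
  · change (t • Y).det = 1
    rw [Matrix.det_smul, Fintype.card_fin, pow_succ, pow_mul, pow_two, htt, ht]
    have : c ^ m * (c ^ (m + 1) * Y.det) * Y.det = c ^ (2 * m + 1) * Y.det ^ 2 := by ring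
    rw [this, hdet]

end Smooth

end K917.OAlg
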