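import Groth.Agent.QuadGrp.K917.CD
import Groth.Agent.QuadGrp.K917.Conn
import Groth.Agent.QuadGrp.K917.OAlg
import Mathlib.LinearAlgebra.Matrix.SchurComplement

/-!
# Families of reflections, and connectedness of groups of isometries over an algebraically closed field
-/

set_option autoImplicit false
set_option maxHeartbeats 400000
set_option linter.unusedSectionVars false

universe u v w

open QuadraticMap TensorProduct

namespace K917.Fam

open K917.Coef K917.Deform K917.Cover K917.Reg K917.OAlg K917.Conn K918.Cliff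

section RM

variable {A : Type u} [CommRing A] {n : ℕ}

theorem pmat_map {B : Type v} [CommRing B] (φ : A →+* B) (a : Sym2 (Fin n) → A) :
    (pmat a).map φ = pmat (φ ∘ a) := by
  ext i j
  have hs : ∀ i : Fin n, φ ∘ (Pi.single i 1 : Fin n → A) = Pi.single i 1 := fun i => by
    funext j
    rw [Function.comp_apply, Pi.single_apply, Pi.single_apply]
    split_ifs <;> simp
  rw [Matrix.map_apply, pmat, pmat, Matrix.of_apply, Matrix.of_apply, map_polar, hs, hs]

/-- the matrix of a reflection -/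
noncomputable def rM (a : Sym2 (Fin n) → A) (v : Fin n → A) (c : A) : Matrix (Fin n) (Fin n) A :=
  1 - c • Matrix.vecMulVec v (Matrix.vecMul v (pmat a))

theorem rM_mulVec (a : Sym2 (Fin n) → A) (v : Fin n → A) (c : A) (x : Fin n → A) :
    (rM a v c).mulVec x = x - polar (qf a) v x • (c • v) := by
  rw [rM, Matrix.sub_mulVec, Matrix.one_mulVec, Matrix.smul_mulVec, Matrix.vecMulVec_mulVec, polar_eq,
    Matrix.dotProduct_mulVec, op_smul_eq_smul, smul_comm]

theorem map_rM {B : Type v} [CommRing B] (φ : A →+* B) (a : Sym2 (Fin n) → A) (v : Fin n → A) (c : A) :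
    (rM a v c).map φ = rM (φ ∘ a) (φ ∘ v) (φ c) := by
  ext i j
  simp only [rM, Matrix.map_apply, Matrix.sub_apply, Matrix.smul_apply, Matrix.vecMulVec_apply, smul_eq_mul, map_sub,
    map_mul, Function.comp_apply]
  rw [Matrix.one_apply, Matrix.one_apply, RingHom.map_vecMul, pmat_map]
  congr 1
  split_ifs <;> simp

theorem pull_rM (a : Sym2 (Fin n) → A) (v : Fin n → A) (c : A) (hc : c * qf a v = 1) : pull a (rM a v c) = a := by
  rw [qf_ext_iff]
  intro x
  rw [qf_pull, rM_mulVec]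
  exact reflection_isometry v c hc x

theorem det_rM (a : Sym2 (Fin n) → A) (v : Fin n → A) (c : A) (hc : c * qf a v = 1) : (rM a v c).det = -1 := by
  have h1 : rM a v c = 1 + Matrix.replicateCol Unit (-(c • v)) * Matrix.replicateRow Unit (Matrix.vecMul v (pmat a)) := by
    rw [← Matrix.vecMulVec_eq, rM, sub_eq_add_neg, Matrix.neg_vecMulVec, Matrix.smul_vecMulVec]
  rw [h1, Matrix.det_one_add_replicateCol_mul_replicateRow, ← Matrix.dotProduct_mulVec, ← polar_eq, polar_neg_right,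
    polar_smul_right, polar_self, smul_eq_mul, two_smul]
  linear_combination -2 * hc

end RM

section Family

variable {K : Type u} [Field K] {n : ℕ}

open Polynomial in
/-- a family of anisotropic vectors joining two given ones -/
theorem exists_family (a : Sym2 (Fin n) → K) (v w : Fin n → K) (hv : qf a v ≠ 0) (hw : qf a w ≠ 0) :
    ∃ (B : Type u) (_ : CommRing B) (_ : IsDomain B) (_ : Algebra K B) (z : Fin n → B) (c : B) (s t : B →ₐ[K] K),
      c * qf (algebraMap K B ∘ a) z = 1 ∧ s ∘ z = v ∧ t ∘ z = w := by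
  let z0 : Fin n → K[X] := fun i => C (v i) + X * C (w i - v i)
  let q0 : K[X] := qf ((C : K →+* K[X]) ∘ a) z0
  have hev : ∀ s : K, (aeval s : K[X] →ₐ[K] K) q0 = qf a ((aeval s : K[X] →ₐ[K] K) ∘ z0) := by
    intro s
    have h1 := map_qf ((aeval s : K[X] →ₐ[K] K) : K[X] →+* K) ((C : K →+* K[X]) ∘ a) z0
    have h2 : ((aeval s : K[X] →ₐ[K] K) : K[X] →+* K) ∘ (C : K →+* K[X]) ∘ a = a := by
      funext i
      simp
    rw [h2] at h1
    exact h1
  have hz0 : (aeval (0 : K) : K[X] →ₐ[K] K) ∘ z0 = v := by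
    funext i; simp [z0]
  have hz1 : (aeval (1 : K) : K[X] →ₐ[K] K) ∘ z0 = w := by
    funext i; simp [z0]
  have hq0 : (aeval (0 : K) : K[X] →ₐ[K] K) q0 ≠ 0 := by rw [hev, hz0]; exact hv
  have hq1 : (aeval (1 : K) : K[X] →ₐ[K] K) q0 ≠ 0 := by rw [hev, hz1]; exact hw
  have hne : q0 ≠ 0 := fun h => hq0 (by rw [h, map_zero])
  let B := Localization.Away q0
  have hdom : IsDomain B := IsLocalization.isDomain_localization (powers_le_nonZeroDivisors_of_noZeroDivisors hne)
  let s : B →ₐ[K] K := IsLocalization.Away.liftAlgHom q0 (f := (aeval (0 : K) : K[X] →ₐ[K] K)) (isUnit_iff_ne_zero.2 hq0)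
  let t : B →ₐ[K] K := IsLocalization.Away.liftAlgHom q0 (f := (aeval (1 : K) : K[X] →ₐ[K] K)) (isUnit_iff_ne_zero.2 hq1)
  have hs : ∀ p : K[X], s (algebraMap K[X] B p) = aeval (0 : K) p := fun p =>
    IsLocalization.Away.lift_eq q0 (isUnit_iff_ne_zero.2 hq0) p
  have ht : ∀ p : K[X], t (algebraMap K[X] B p) = aeval (1 : K) p := fun p =>
    IsLocalization.Away.lift_eq q0 (isUnit_iff_ne_zero.2 hq1) p
  refine ⟨B, inferInstance, hdom, inferInstance, algebraMap K[X] B ∘ z0, IsLocalization.Away.invSelf q0, s, t, ?_, ?_, ?_⟩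
  · have h1 : algebraMap K B ∘ a = algebraMap K[X] B ∘ ((C : K →+* K[X]) ∘ a) := by
      funext i
      rw [Function.comp_apply, IsScalarTower.algebraMap_apply K K[X] B]
      rfl
    rw [h1, ← map_qf, mul_comm]
    exact IsLocalization.Away.mul_invSelf q0
  · rw [← hz0]
    funext i
    exact hs (z0 i)
  · rw [← hz1]
    funext i
    exact ht (z0 i)

end Family

section Main

variable {R : Type u} [CommRing R] {O : Type u} [CommRing O] [Algebra R O] {n : ℕ}

/-- An algebra with a universal matrix, representing a group of isometries closed under specialisation. -/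
structure Pts (a : Sym2 (Fin n) → R) (U : Matrix (Fin n) (Fin n) O) : Prop where
  ext : ∀ (B : Type u) [CommRing B] [Algebra R B] (φ ψ : O →ₐ[R] B), U.map φ = U.map ψ → φ = ψ
  iso : ∀ (B : Type u) [CommRing B] [Algebra R B] (φ : O →ₐ[R] B),
    pull (algebraMap R B ∘ a) (U.map φ) = algebraMap R B ∘ a
  det : ∀ (K : Type u) [Field K] [Algebra R K] (p : O →ₐ[R] K), IsUnit (U.map p).det
  fam : ∀ (K B : Type u) [Field K] [CommRing B] [IsDomain B] [Algebra R K] [Algebra K B] [Algebra R B]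
    [IsScalarTower R K B] (X : Matrix (Fin n) (Fin n) B) (s : B →ₐ[K] K) (p : O →ₐ[R] K),
    pull (algebraMap R B ∘ a) X = algebraMap R B ∘ a → U.map p = X.map s → ∃ F : O →ₐ[R] B, U.map F = X
  one : ∀ (K : Type u) [Field K] [Algebra R K], ∃ p : O →ₐ[R] K, U.map p = 1

variable {a : Sym2 (Fin n) → R} {U : Matrix (Fin n) (Fin n) O} (hP : Pts a U)
  {K : Type u} [Field K] [Algebra R K]

/-- the class of a matrix -/
def cls (U : Matrix (Fin n) (Fin n) O) (K : Type u) [Field K] [Algebra R K] (X : Matrix (Fin n) (Fin n) K) :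
    Set (O →ₐ[R] K) :=
  {q | ∃ p : O →ₐ[R] K, U.map p = X ∧ Relation.EqvGen Step p q}

include hP in
theorem cls_sub (X Y : Matrix (Fin n) (Fin n) K) (hX : pull (algebraMap R K ∘ a) X = algebraMap R K ∘ a)
    (hY : pull (algebraMap R K ∘ a) Y = algebraMap R K ∘ a) (v w : Fin n → K) (c d : K)
    (hc : c * qf (algebraMap R K ∘ a) v = 1) (hd : d * qf (algebraMap R K ∘ a) w = 1) :
    cls (R := R) U K (X * rM (algebraMap R K ∘ a) v c * Y) ⊆ cls U K (X * rM (algebraMap R K ∘ a) w d * Y) := by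
  rintro q ⟨p, hp, hpq⟩
  have hv0 : qf (algebraMap R K ∘ a) v ≠ 0 := fun h => by rw [h, mul_zero] at hc; exact zero_ne_one hc
  have hw0 : qf (algebraMap R K ∘ a) w ≠ 0 := fun h => by rw [h, mul_zero] at hd; exact zero_ne_one hd
  obtain ⟨B, _, _, _, z, e, s, t, he, hs, ht⟩ := exists_family (algebraMap R K ∘ a) v w hv0 hw0
  let _ : Algebra R B := ((algebraMap K B).comp (algebraMap R K)).toAlgebra
  have : IsScalarTower R K B := IsScalarTower.of_algebraMap_eq fun _ => rfl
  have haB : algebraMap K B ∘ algebraMap R K ∘ a = algebraMap R B ∘ a := rfl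
  rw [haB] at he
  set XB : Matrix (Fin n) (Fin n) B :=
    X.map (algebraMap K B) * rM (algebraMap R B ∘ a) z e * Y.map (algebraMap K B) with hXB
  have hXB' : pull (algebraMap R B ∘ a) XB = algebraMap R B ∘ a := by
    rw [hXB, pull_mul, pull_mul]
    have h1 : pull (algebraMap R B ∘ a) (X.map (algebraMap K B)) = algebraMap R B ∘ a := by
      rw [← haB, ← map_pull, hX]
    have h2 : pull (algebraMap R B ∘ a) (Y.map (algebraMap K B)) = algebraMap R B ∘ a := by
      rw [← haB, ← map_pull, hY]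
    rw [h1, pull_rM _ _ _ he, h2]
  have hmap : ∀ (σ : B →ₐ[K] K) (x : Fin n → K) (f : K), σ ∘ z = x → f * qf (algebraMap R K ∘ a) x = 1 →
      XB.map σ = X * rM (algebraMap R K ∘ a) x f * Y := by
    intro σ x f hx hf
    have h1 : XB.map (σ : B →+* K) = (X.map (algebraMap K B)).map (σ : B →+* K) *
        (rM (algebraMap R B ∘ a) z e).map (σ : B →+* K) * (Y.map (algebraMap K B)).map (σ : B →+* K) := by
      rw [hXB, Matrix.map_mul, Matrix.map_mul]
    have h2 : ∀ Z : Matrix (Fin n) (Fin n) K, (Z.map (algebraMap K B)).map (σ : B →+* K) = Z := by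
      intro Z
      ext i j
      rw [Matrix.map_apply, Matrix.map_apply]
      exact σ.commutes _
    have h3 : (σ : B →+* K) ∘ algebraMap R B ∘ a = algebraMap R K ∘ a := by
      funext i
      exact σ.commutes _
    have h4 : (σ : B →+* K) e = f := by
      have h5 := congrArg (σ : B →+* K) he
      rw [map_mul, map_qf, map_one, h3] at h5
      have h6 : qf (algebraMap R K ∘ a) x ≠ 0 := fun h => by rw [h, mul_zero] at hf; exact zero_ne_one hf
      have h7 : (σ : B →+* K) ∘ z = x := hx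
      rw [h7] at h5
      exact mul_right_cancel₀ h6 (h5.trans hf.symm)
    rw [h2, h2, map_rM, h3, h4] at h1
    have h7 : (σ : B →+* K) ∘ z = x := hx
    rw [h7] at h1
    exact h1
  have h1 : XB.map s = X * rM (algebraMap R K ∘ a) v c * Y := hmap s v c hs hc
  have h2 : XB.map t = X * rM (algebraMap R K ∘ a) w d * Y := hmap t w d ht hd
  obtain ⟨F, hF⟩ := hP.fam K B XB s p hXB' (hp.trans h1.symm)
  have h3 : (s.restrictScalars R).comp F = p := by
    apply hP.ext
    rw [hp, ← h1, ← hF]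
    rfl
  refine ⟨(t.restrictScalars R).comp F, ?_, ?_⟩
  · rw [← h2, ← hF]
    rfl
  · refine Relation.EqvGen.trans _ _ _ (Relation.EqvGen.symm _ _ (Relation.EqvGen.rel _ _ ?_)) hpq
    exact ⟨B, inferInstance, inferInstance, inferInstance, inferInstance, inferInstance, F, s, t, h3, rfl⟩

include hP in
theorem cls_eq (X Y : Matrix (Fin n) (Fin n) K) (hX : pull (algebraMap R K ∘ a) X = algebraMap R K ∘ a)
    (hY : pull (algebraMap R K ∘ a) Y = algebraMap R K ∘ a) (v w : Fin n → K) (c d : K)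
    (hc : c * qf (algebraMap R K ∘ a) v = 1) (hd : d * qf (algebraMap R K ∘ a) w = 1) :
    cls (R := R) U K (X * rM (algebraMap R K ∘ a) v c * Y) = cls U K (X * rM (algebraMap R K ∘ a) w d * Y) :=
  Set.Subset.antisymm (cls_sub hP X Y hX hY v w c d hc hd) (cls_sub hP X Y hX hY w v d c hd hc)

/-- the matrix of a linear automorphism -/
noncomputable abbrev mx (x : (Fin n → K) ≃ₗ[K] (Fin n → K)) : Matrix (Fin n) (Fin n) K :=
  LinearMap.toMatrix' (x : (Fin n → K) →ₗ[K] (Fin n → K))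

theorem mx_mul (x y : (Fin n → K) ≃ₗ[K] (Fin n → K)) : mx (x * y) = mx x * mx y :=
  LinearMap.toMatrix'_comp _ _

theorem mx_one : mx (1 : (Fin n → K) ≃ₗ[K] (Fin n → K)) = 1 := LinearMap.toMatrix'_id

theorem mx_mulVec (x : (Fin n → K) ≃ₗ[K] (Fin n → K)) (v : Fin n → K) : (mx x).mulVec v = x v := by
  rw [← Matrix.toLin'_apply, Matrix.toLin'_toMatrix']; rfl

theorem mx_reflection (a : Sym2 (Fin n) → K) (v : Fin n → K) (c : K) (hc : c * qf a v = 1) :
    mx (reflection v c hc) = rM a v c := by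
  apply Matrix.toLin'.injective
  apply LinearMap.ext
  intro x
  rw [Matrix.toLin'_toMatrix', Matrix.toLin'_apply, rM_mulVec]
  rfl

theorem exists_mx_eq (X : Matrix (Fin n) (Fin n) K) (hX : IsUnit X.det) :
    ∃ x : (Fin n → K) ≃ₗ[K] (Fin n → K), mx x = X := by
  refine ⟨LinearEquiv.ofLinear (Matrix.toLin' X) (Matrix.toLin' X⁻¹) ?_ ?_, ?_⟩
  · rw [← Matrix.toLin'_mul, Matrix.mul_nonsing_inv _ hX, Matrix.toLin'_one]
  · rw [← Matrix.toLin'_mul, Matrix.nonsing_inv_mul _ hX, Matrix.toLin'_one]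
  · have : ((LinearEquiv.ofLinear (Matrix.toLin' X) (Matrix.toLin' X⁻¹)
        (by rw [← Matrix.toLin'_mul, Matrix.mul_nonsing_inv _ hX, Matrix.toLin'_one])
        (by rw [← Matrix.toLin'_mul, Matrix.nonsing_inv_mul _ hX, Matrix.toLin'_one]) :
        (Fin n → K) ≃ₗ[K] (Fin n → K)) : (Fin n → K) →ₗ[K] (Fin n → K)) = Matrix.toLin' X := rfl
    rw [mx, this, LinearMap.toMatrix'_toLin']

include hP in
/-- the class of a product of reflections -/
theorem cls_of_mem (v0 : Fin n → K) (c0 : K) (h0 : c0 * qf (algebraMap R K ∘ a) v0 = 1)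
    {z : (Fin n → K) ≃ₗ[K] (Fin n → K)} (hz : z ∈ CD.G (qf (algebraMap R K ∘ a)) ⊤) :
    pull (algebraMap R K ∘ a) (mx z) = algebraMap R K ∘ a ∧
    ((∀ X Y : Matrix (Fin n) (Fin n) K, pull (algebraMap R K ∘ a) X = algebraMap R K ∘ a →
        pull (algebraMap R K ∘ a) Y = algebraMap R K ∘ a → cls (R := R) U K (X * mx z * Y) = cls U K (X * Y)) ∨
      (∀ X Y : Matrix (Fin n) (Fin n) K, pull (algebraMap R K ∘ a) X = algebraMap R K ∘ a →
        pull (algebraMap R K ∘ a) Y = algebraMap R K ∘ a →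
          cls (R := R) U K (X * mx z * Y) = cls U K (X * rM (algebraMap R K ∘ a) v0 c0 * Y))) := by
  have hr0 : pull (algebraMap R K ∘ a) (rM (algebraMap R K ∘ a) v0 c0) = algebraMap R K ∘ a := pull_rM _ _ _ h0
  have hr00 : rM (algebraMap R K ∘ a) v0 c0 * rM (algebraMap R K ∘ a) v0 c0 = 1 := by
    rw [← mx_reflection _ _ _ h0, ← mx_mul, ← mx_one]
    congr 1
    apply LinearEquiv.ext
    intro x
    exact (reflection v0 c0 h0).symm_apply_apply x
  refine CD.G_induction ⊤ (p := fun z => pull (algebraMap R K ∘ a) (mx z) = algebraMap R K ∘ a ∧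
    ((∀ X Y : Matrix (Fin n) (Fin n) K, pull (algebraMap R K ∘ a) X = algebraMap R K ∘ a →
        pull (algebraMap R K ∘ a) Y = algebraMap R K ∘ a → cls (R := R) U K (X * mx z * Y) = cls U K (X * Y)) ∨
      (∀ X Y : Matrix (Fin n) (Fin n) K, pull (algebraMap R K ∘ a) X = algebraMap R K ∘ a →
        pull (algebraMap R K ∘ a) Y = algebraMap R K ∘ a →
          cls (R := R) U K (X * mx z * Y) = cls U K (X * rM (algebraMap R K ∘ a) v0 c0 * Y))))
    ?_ ?_ ?_ ?_ hz
  · refine ⟨by rw [mx_one, pull_one], Or.inl fun X Y _ _ => by rw [mx_one, Matrix.mul_one]⟩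
  · rintro x y ⟨hx, hx'⟩ ⟨hy, hy'⟩
    have hm : ∀ Y : Matrix (Fin n) (Fin n) K, ∀ X : Matrix (Fin n) (Fin n) K, X * mx (x * y) * Y = (X * mx x) * mx y * Y := by
      intro Y X
      rw [mx_mul, ← Matrix.mul_assoc X]
    have hpm : ∀ X Y : Matrix (Fin n) (Fin n) K, pull (algebraMap R K ∘ a) X = algebraMap R K ∘ a →
        pull (algebraMap R K ∘ a) Y = algebraMap R K ∘ a → pull (algebraMap R K ∘ a) (X * Y) = algebraMap R K ∘ a :=
      fun X Y h1 h2 => by rw [pull_mul, h1, h2]
    refine ⟨by rw [mx_mul]; exact hpm _ _ hx hy, ?_⟩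
    rcases hx' with hx' | hx' <;> rcases hy' with hy' | hy'
    · left
      intro X Y hX hY
      rw [hm, hy' _ _ (hpm _ _ hX hx) hY, hx' _ _ hX hY]
    · right
      intro X Y hX hY
      rw [hm, hy' _ _ (hpm _ _ hX hx) hY, Matrix.mul_assoc (X * mx x), hx' _ _ hX (hpm _ _ hr0 hY), ← Matrix.mul_assoc]
    · right
      intro X Y hX hY
      rw [hm, hy' _ _ (hpm _ _ hX hx) hY, hx' _ _ hX hY]
    · left
      intro X Y hX hY
      rw [hm, hy' _ _ (hpm _ _ hX hx) hY, Matrix.mul_assoc (X * mx x), hx' _ _ hX (hpm _ _ hr0 hY),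
        Matrix.mul_assoc X, ← Matrix.mul_assoc _ _ Y, hr00, Matrix.one_mul]
  · rintro x ⟨hx, hx'⟩
    have h1 : mx x⁻¹ * mx x = 1 := by rw [← mx_mul, inv_mul_cancel, mx_one]
    have h2 : mx x * mx x⁻¹ = 1 := by rw [← mx_mul, mul_inv_cancel, mx_one]
    have hxi : pull (algebraMap R K ∘ a) (mx x⁻¹) = algebraMap R K ∘ a := by
      conv_lhs => rw [← hx, ← pull_mul, h2, pull_one]
    have hpm : ∀ X Y : Matrix (Fin n) (Fin n) K, pull (algebraMap R K ∘ a) X = algebraMap R K ∘ a →
        pull (algebraMap R K ∘ a) Y = algebraMap R K ∘ a → pull (algebraMap R K ∘ a) (X * Y) = algebraMap R K ∘ a :=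
      fun X Y h1 h2 => by rw [pull_mul, h1, h2]
    refine ⟨hxi, ?_⟩
    rcases hx' with hx' | hx'
    · left
      intro X Y hX hY
      have h3 := hx' (X * mx x⁻¹) Y (hpm _ _ hX hxi) hY
      rw [Matrix.mul_assoc X, h1, Matrix.mul_one] at h3
      exact h3.symm
    · right
      intro X Y hX hY
      have h3 := hx' (X * mx x⁻¹) (rM (algebraMap R K ∘ a) v0 c0 * Y) (hpm _ _ hX hxi) (hpm _ _ hr0 hY)
      rw [Matrix.mul_assoc X, h1, Matrix.mul_one, ← Matrix.mul_assoc X, Matrix.mul_assoc (X * mx x⁻¹),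
        ← Matrix.mul_assoc _ _ Y, hr00, Matrix.one_mul] at h3
      exact h3.symm
  · intro v _ c hc
    rw [mx_reflection]
    exact ⟨pull_rM _ _ _ hc, Or.inr fun X Y hX hY => cls_eq hP X Y hX hY v v0 c c0 hc h0⟩

include hP in
/-- **Connectedness** over an algebraically closed field. -/
theorem connectedSpace [IsAlgClosed K] [Algebra.FiniteType R O]
    (hrad : ∀ v : Fin n → K, qf (algebraMap R K ∘ a) v = 0 → (∀ w, polar (qf (algebraMap R K ∘ a)) v w = 0) → v = 0)
    (v0 : Fin n → K) (c0 : K) (h0 : c0 * qf (algebraMap R K ∘ a) v0 = 1)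
    (h1 : (∀ p : O →ₐ[R] K, U.map p ≠ rM (algebraMap R K ∘ a) v0 c0) ∨ rM (algebraMap R K ∘ a) v0 c0 = 1) :
    ConnectedSpace (PrimeSpectrum (K ⊗[R] O)) := by
  obtain ⟨p₀, hp₀⟩ := hP.one K
  refine connectedSpace_baseChange p₀ fun p => ?_
  have hdet := hP.det K p
  obtain ⟨x, hx⟩ := exists_mx_eq (U.map p) hdet
  have hxiso : ∀ v, qf (algebraMap R K ∘ a) (x v) = qf (algebraMap R K ∘ a) v := by
    intro v
    rw [← mx_mulVec, hx, ← qf_pull, hP.iso K p]
  obtain ⟨c, hc⟩ := Split.exists_isSplitBasis n (by rw [Module.finrank_fin_fun]) (qf (algebraMap R K ∘ a)) hrad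
  have hmem : x ∈ CD.G (qf (algebraMap R K ∘ a)) ⊤ :=
    CD.mem_of_isometryEquiv hc.isometryEquiv (CD.mem_of_splitForm n) x hxiso
  have hone : pull (algebraMap R K ∘ a) (1 : Matrix (Fin n) (Fin n) K) = algebraMap R K ∘ a := pull_one _
  have hp : p ∈ cls (R := R) U K (U.map p) := ⟨p, rfl, Relation.EqvGen.refl _⟩
  have hfin : p ∈ cls (R := R) U K 1 := by
    rcases (cls_of_mem hP v0 c0 h0 hmem).2 with h2 | h2
    · have h3 := h2 1 1 hone hone
      rw [Matrix.one_mul, Matrix.mul_one, Matrix.mul_one, hx] at h3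
      rwa [h3] at hp
    · have h3 := h2 1 1 hone hone
      rw [Matrix.one_mul, Matrix.mul_one, hx, Matrix.one_mul, Matrix.mul_one] at h3
      rw [h3] at hp
      rcases h1 with h1 | h1
      · obtain ⟨q, hq, -⟩ := hp
        exact absurd hq (h1 q)
      · rwa [h1] at hp
  obtain ⟨q, hq, hqp⟩ := hfin
  have : q = p₀ := hP.ext K _ _ (hq.trans hp₀.symm)
  rw [← this]
  exact hqp

end Main

end K917.Fam
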