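import Groth.Agent.QuadGrp.K917.RelDim
import Groth.Agent.QuadGrp.K917.Fam
import Groth.Agent.QuadGrp.K916.CoordRep
import Mathlib.AlgebraicGeometry.Morphisms.OpenImmersion

/-!
# Relative dimension of the orthogonal group in even rank, and of its open-closed pieces
-/

set_option autoImplicit false
set_option maxHeartbeats 400000
set_option linter.unusedSectionVars false
set_option linter.deprecated false

universe u v w

open CategoryTheory AlgebraicGeometry Limits QuadGrp QuadraticMap TensorProduct

namespace K917.EvenRel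

open K917.Coef K917.Deform K917.Cover K917.Reg K917.OAlg K917.Conn K917.Fam K917.Rep

/-- an open-closed piece has the same relative dimension -/
theorem smoothOfRelativeDimension_quot {R C : Type u} [CommRing R] [CommRing C] [Algebra R C] (d : ℕ)
    (h : SmoothOfRelativeDimension d (Spec.map (CommRingCat.ofHom (algebraMap R C)))) {e : C} (he : IsIdempotentElem e) :
    SmoothOfRelativeDimension d (Spec.map (CommRingCat.ofHom (algebraMap R (C ⧸ Ideal.span {e})))) := by
  have h1 : IsOpenImmersion (Spec.map (CommRingCat.ofHom (Ideal.Quotient.mk (Ideal.span {e})))) := by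
    rw [isOpenImmersion_SpecMap_iff_of_surjective _ Ideal.Quotient.mk_surjective]
    exact ⟨e, he, Ideal.mk_ker⟩
  have h2 : Spec.map (CommRingCat.ofHom (algebraMap R (C ⧸ Ideal.span {e}))) =
      Spec.map (CommRingCat.ofHom (Ideal.Quotient.mk (Ideal.span {e}))) ≫
        Spec.map (CommRingCat.ofHom (algebraMap R C)) := by
    rw [← Spec.map_comp, ← CommRingCat.ofHom_comp]
    first
      | done
      | rfl
  rw [h2]
  have h3 : SmoothOfRelativeDimension (0 + d) (Spec.map (CommRingCat.ofHom (Ideal.Quotient.mk (Ideal.span {e}))) ≫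
        Spec.map (CommRingCat.ofHom (algebraMap R C))) := inferInstance
  rwa [zero_add] at h3

theorem isUnit_pmat {R : Type u} [CommRing R] {n : ℕ} (Q : QuadraticForm R (Fin n → R)) (hQ : IsRegular Q) :
    IsUnit (pmat (cf Q)).det := by
  have h := (Base.isRegular_iff (Pi.basisFun R (Fin n)) Q).1 hQ
  rw [← disc_eq, qf_cf]
  exact h

/-- Algebra equivalence between the two presentations of the coordinate algebra of the orthogonal group. -/
theorem exists_equiv {R : Type u} [CommRing R] {n : ℕ} (Q : QuadraticForm R (Fin n → R)) (hQ : IsRegular Q) :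
    Nonempty (PolySys.Alg (oEq (cf Q)) ≃ₐ[R] K916.Coord.Alg (K916.Bridge.cm (cf Q)) false) := by
  have hu := isUnit_pmat Q hQ
  obtain ⟨φ, hφ⟩ := exists_hom_o (cf Q) (K916.Coord.gen (K916.Bridge.cm (cf Q)) false) (by
    have h1 := (K916.Coord.cond_gen (K916.Bridge.cm (cf Q)) false).iso
    rw [K916.Bridge.cm_map, K916.Bridge.isIso_cm_iff] at h1
    rw [qf_ext_iff]
    intro x
    rw [qf_pull]
    exact h1 x)
  have hdet : (uMat (oEq (cf Q))).det * (uMat (oEq (cf Q))).det = 1 := by
    have h1 := hom_o (cf Q) (AlgHom.id R (PolySys.Alg (oEq (cf Q))))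
    have h2 : (uMat (oEq (cf Q))).map (AlgHom.id R (PolySys.Alg (oEq (cf Q)))) = uMat (oEq (cf Q)) := by
      ext i j; rfl
    rw [h2] at h1
    refine det_sq_of_disc _ ?_ _ h1
    rw [← pmat_map, ← RingHom.mapMatrix_apply, ← RingHom.map_det]
    exact hu.map _
  have hdu : IsUnit (uMat (oEq (cf Q))).det := IsUnit.of_mul_eq_one _ hdet
  have hcond : K916.Coord.Cond ((K916.Bridge.cm (cf Q)).map (algebraMap R (PolySys.Alg (oEq (cf Q))))) false
      (uMat (oEq (cf Q))) (uMat (oEq (cf Q)))⁻¹ := by
    refine ⟨Matrix.mul_nonsing_inv _ hdu, Matrix.nonsing_inv_mul _ hdu, ?_, fun h => absurd h (by decide)⟩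
    rw [K916.Bridge.cm_map, K916.Bridge.isIso_cm_iff]
    intro x
    have h1 := hom_o (cf Q) (AlgHom.id R (PolySys.Alg (oEq (cf Q))))
    have h2 : (uMat (oEq (cf Q))).map (AlgHom.id R (PolySys.Alg (oEq (cf Q)))) = uMat (oEq (cf Q)) := by
      ext i j; rfl
    rw [h2, qf_ext_iff] at h1
    have h3 := h1 x
    rw [qf_pull] at h3
    exact h3
  refine ⟨AlgEquiv.ofAlgHom φ (K916.Coord.lift hcond) ?_ ?_⟩
  · apply K916.Coord.algHom_ext
    have h1 : (K916.Coord.gen (K916.Bridge.cm (cf Q)) false).map (φ.comp (K916.Coord.lift hcond)) =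
        ((K916.Coord.gen (K916.Bridge.cm (cf Q)) false).map (K916.Coord.lift hcond)).map φ := by
      rw [Matrix.map_map]; rfl
    rw [h1, K916.Coord.gen_map_lift, hφ]
    ext i j; rfl
  · apply OAlg.hom_ext
    have h1 : (uMat (oEq (cf Q))).map ((K916.Coord.lift hcond).comp φ) =
        ((uMat (oEq (cf Q))).map φ).map (K916.Coord.lift hcond) := by
      rw [Matrix.map_map]; rfl
    rw [h1, hφ, K916.Coord.gen_map_lift]
    ext i j; rfl

theorem smoothOfRelativeDimension_of_equiv {R C C' : Type u} [CommRing R] [CommRing C] [Algebra R C] [CommRing C']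
    [Algebra R C'] (E : C ≃ₐ[R] C') (d : ℕ) (h : SmoothOfRelativeDimension d (Spec.map (CommRingCat.ofHom (algebraMap R C)))) :
    SmoothOfRelativeDimension d (Spec.map (CommRingCat.ofHom (algebraMap R C'))) := by
  have h1 : Spec.map (CommRingCat.ofHom (algebraMap R C')) =
      Spec.map (CommRingCat.ofHom (E : C →+* C')) ≫ Spec.map (CommRingCat.ofHom (algebraMap R C)) := by
    rw [← Spec.map_comp, ← CommRingCat.ofHom_comp]
    congr 2
    exact (E.toAlgHom.comp_algebraMap).symm
  have h2 : IsIso (Spec.map (CommRingCat.ofHom (E : C →+* C'))) := by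
    have : IsIso (CommRingCat.ofHom (E : C →+* C')) := (RingEquiv.toCommRingCatIso E.toRingEquiv).isIso_hom
    infer_instance
  rw [h1]
  exact (MorphismProperty.cancel_left_of_respectsIso (P := @SmoothOfRelativeDimension d) _ _).2 h

/-- **relative dimension of the orthogonal group** in even rank, for the algebra of `K916.Coord` -/
theorem smoothOfRelativeDimension_coord {R : Type u} [CommRing R] {m : ℕ} (Q : QuadraticForm R (Fin (2 * m) → R))
    (hQ : IsRegular Q) : SmoothOfRelativeDimension (m * (2 * m - 1))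
      (Spec.map (CommRingCat.ofHom (algebraMap R (K916.Coord.Alg (K916.Bridge.cm (cf Q)) false)))) := by
  obtain ⟨E⟩ := exists_equiv Q hQ
  exact smoothOfRelativeDimension_of_equiv E _
    (RelDim.smoothOfRelativeDimension_o (cf Q) (regProp_of_isUnit _ (isUnit_pmat Q hQ)) (isUnit_pmat Q hQ))

end K917.EvenRel
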