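import Groth.Agent.QuadZ.K892.Cliff
import Groth.Agent.QuadGrp.K917.Semireg
import Groth.Agent.QuadGrp.K916.WFam
import Mathlib.LinearAlgebra.CliffordAlgebra.EvenEquiv

/-!
# The Clifford algebra of a semiregular form of odd rank: even part, even centre, odd centre
-/

set_option autoImplicit false
set_option linter.unusedSectionVars false

universe u v w

open CliffordAlgebra TensorProduct QuadGrp

namespace K917.OddCl

open K916 K916.BC K916.Split K892.Cliff

section EvenCongr

variable {R : Type u} [CommRing R] {M : Type v} [AddCommGroup M] [Module R M] {Q : QuadraticForm R M}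
  {M' : Type w} [AddCommGroup M'] [Module R M'] {Q' : QuadraticForm R M'}

theorem map_mem_evenOdd (f : Q →qᵢ Q') {k : ZMod 2} {x : CliffordAlgebra Q} (hx : x ∈ evenOdd Q k) :
    CliffordAlgebra.map f x ∈ evenOdd Q' k :=
  map_mem_of_mem_evenOdd (CliffordAlgebra.map f) (evenOdd Q') (SetLike.one_mem_graded _)
    (fun _ _ _ _ h1 h2 => SetLike.mul_mem_graded h1 h2) (fun v => by rw [map_apply_ι]; exact ι_mem_evenOdd_one Q' _) k hx

/-- isometries identify the even parts -/
noncomputable def evenCongr (e : Q.IsometryEquiv Q') : ↥(CliffordAlgebra.even Q) ≃ₐ[R] ↥(CliffordAlgebra.even Q') :=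
  AlgEquiv.ofAlgHom
    (((CliffordAlgebra.map e.toIsometry).comp (CliffordAlgebra.even Q).val).codRestrict (CliffordAlgebra.even Q')
      fun x => map_mem_evenOdd _ x.2)
    (((CliffordAlgebra.map e.symm.toIsometry).comp (CliffordAlgebra.even Q').val).codRestrict (CliffordAlgebra.even Q)
      fun x => map_mem_evenOdd _ x.2)
    (by
      apply AlgHom.ext
      intro x
      apply Subtype.ext
      change CliffordAlgebra.map e.toIsometry (CliffordAlgebra.map e.symm.toIsometry x.1) = x.1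
      have h : (CliffordAlgebra.map e.toIsometry).comp (CliffordAlgebra.map e.symm.toIsometry) = AlgHom.id R _ := by
        apply CliffordAlgebra.hom_ext
        ext v
        change CliffordAlgebra.map e.toIsometry (CliffordAlgebra.map e.symm.toIsometry (ι Q' v)) = ι Q' v
        rw [map_apply_ι, map_apply_ι]
        congr 1
        exact e.apply_symm_apply v
      exact DFunLike.congr_fun h x.1)
    (by
      apply AlgHom.ext
      intro x
      apply Subtype.ext
      change CliffordAlgebra.map e.symm.toIsometry (CliffordAlgebra.map e.toIsometry x.1) = x.1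
      have h : (CliffordAlgebra.map e.symm.toIsometry).comp (CliffordAlgebra.map e.toIsometry) = AlgHom.id R _ := by
        apply CliffordAlgebra.hom_ext
        ext v
        change CliffordAlgebra.map e.symm.toIsometry (CliffordAlgebra.map e.toIsometry (ι Q v)) = ι Q v
        rw [map_apply_ι, map_apply_ι]
        congr 1
        exact e.symm_apply_apply v
      exact DFunLike.congr_fun h x.1)

end EvenCongr

section SplitOdd

variable (R : Type u) [CommRing R]

/-- sign change on the even coordinates and a first coordinate: `-(q_{2m} ⊥ ⟨-1⟩) = q_{2m+1}` -/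
def negLin (m : ℕ) : ((Fin (2 * m) → R) × R) ≃ₗ[R] (Fin (2 * m + 1) → R) :=
  LinearEquiv.trans
    { toFun := fun p => (fun j => (if (j : ℕ) % 2 = 0 then -p.1 j else p.1 j), p.2)
      invFun := fun p => (fun j => (if (j : ℕ) % 2 = 0 then -p.1 j else p.1 j), p.2)
      map_add' := fun p q => by
        refine Prod.ext (funext fun j => ?_) rfl
        change (if (j : ℕ) % 2 = 0 then -(p.1 j + q.1 j) else p.1 j + q.1 j) =
          (if (j : ℕ) % 2 = 0 then -p.1 j else p.1 j) + (if (j : ℕ) % 2 = 0 then -q.1 j else q.1 j)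
        split_ifs
        · ring
        · rfl
      map_smul' := fun c p => by
        refine Prod.ext (funext fun j => ?_) rfl
        change (if (j : ℕ) % 2 = 0 then -(c * p.1 j) else c * p.1 j) = c * (if (j : ℕ) % 2 = 0 then -p.1 j else p.1 j)
        split_ifs
        · ring
        · rfl
      left_inv := fun p => by
        refine Prod.ext (funext fun j => ?_) rfl
        dsimp only
        split_ifs
        · rw [neg_neg]
        · rfl
      right_inv := fun p => by
        refine Prod.ext (funext fun j => ?_) rfl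
        dsimp only
        split_ifs
        · rw [neg_neg]
        · rfl : ((Fin (2 * m) → R) × R) ≃ₗ[R] ((Fin (2 * m) → R) × R) }
    (WFam.splitFirst R m).symm

def negIso (m : ℕ) :
    (-(EquivEven.Q' (QuadGrp.splitForm R (2 * m)))).IsometryEquiv (QuadGrp.splitForm R (2 * m + 1)) where
  toLinearEquiv := negLin R m
  map_app' p := by
    have h0 : negLin R m p 0 = p.2 := rfl
    have h1 : ∀ i : Fin m, negLin R m p ⟨2 * i + 1, by omega⟩ = -p.1 ⟨2 * i, by omega⟩ := by
      intro i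
      change (if (2 * (i : ℕ)) % 2 = 0 then -p.1 ⟨2 * i, by omega⟩ else p.1 ⟨2 * i, by omega⟩) = _
      rw [if_pos (by omega)]
    have h2 : ∀ i : Fin m, negLin R m p ⟨2 * i + 2, by omega⟩ = p.1 ⟨2 * i + 1, by omega⟩ := by
      intro i
      change (if (2 * (i : ℕ) + 1) % 2 = 0 then -p.1 ⟨2 * i + 1, by omega⟩ else p.1 ⟨2 * i + 1, by omega⟩) = _
      rw [if_neg (by omega)]
    change QuadGrp.splitForm R (2 * m + 1) (negLin R m p) = _
    rw [SplitForm.odd_apply, h0]
    simp only [h1, h2]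
    change _ = -(QuadGrp.splitForm R (2 * m) p.1 + -(p.2 * p.2))
    rw [SplitForm.even_apply, neg_add, neg_neg, ← Finset.sum_neg_distrib]
    congr 1
    exact Finset.sum_congr rfl fun i _ => neg_mul _ _

/-- the even part of the split odd Clifford algebra is the split even Clifford algebra -/
noncomputable def evenSplit (m : ℕ) :
    CliffordAlgebra (QuadGrp.splitForm R (2 * m)) ≃ₐ[R] ↥(CliffordAlgebra.even (QuadGrp.splitForm R (2 * m + 1))) :=
  ((equivEven (QuadGrp.splitForm R (2 * m))).trans (evenEquivEvenNeg _)).trans (evenCongr (negIso R m))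

noncomputable def evenSplitMat (m : ℕ) :
    ↥(CliffordAlgebra.even (QuadGrp.splitForm R (2 * m + 1))) ≃ₐ[R] Matrix (Fin (2 ^ m)) (Fin (2 ^ m)) R :=
  (evenSplit R m).symm.trans (K892.EvenBlocks.allEquiv (K916.SplitForm.matClSplit R m))

end SplitOdd

section Split

variable {R : Type u} [CommRing R] {M : Type v} [AddCommGroup M] [Module R M] {Q : QuadraticForm R M} {m : ℕ}

/-- even elements commuting with the even part are scalars, in the split case -/
theorem mem_range_of_split (e : (QuadGrp.splitForm R (2 * m + 1)).IsometryEquiv Q) {z : CliffordAlgebra Q}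
    (h0 : z ∈ evenOdd Q 0) (hz : ∀ y ∈ evenOdd Q 0, z * y = y * z) : ∃ r : R, z = algebraMap R _ r := by
  let Ψ : CliffordAlgebra (QuadGrp.splitForm R (2 * m)) ≃ₐ[R] ↥(CliffordAlgebra.even Q) :=
    (evenSplit R m).trans (evenCongr e)
  have h1 : ∀ x, Ψ.symm ⟨z, h0⟩ * x = x * Ψ.symm ⟨z, h0⟩ := by
    intro x
    apply Ψ.injective
    rw [map_mul, map_mul, AlgEquiv.apply_symm_apply]
    apply Subtype.ext
    exact hz _ (Ψ x).2
  obtain ⟨r, hr⟩ := K916.Center.mem_range_of_forall_commute (K916.SplitForm.matClSplit R m) h1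
  refine ⟨r, ?_⟩
  have h2 := congrArg Ψ hr
  rw [AlgEquiv.apply_symm_apply, AlgEquiv.commutes] at h2
  exact congrArg Subtype.val h2

/-- an odd central element of square one, in the split case -/
theorem exists_odd_of_split (e : (QuadGrp.splitForm R (2 * m + 1)).IsometryEquiv Q) :
    ∃ z ∈ evenOdd Q 1, (∀ u, z * ι Q u = ι Q u * z) ∧ z * z = 1 := by
  let F := WFam.oddFamSplit R m
  refine ⟨CliffordAlgebra.map e.toIsometry (WFam.pr _ F.v), map_mem_evenOdd _ F.odd, fun u => ?_, ?_⟩
  · have h : ι Q u = CliffordAlgebra.map e.toIsometry (ι _ (e.symm u)) := by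
      rw [map_apply_ι]
      congr 1
      exact (e.apply_symm_apply u).symm
    rw [h, ← map_mul, ← map_mul, F.comm]
  · rw [← map_mul, F.sq, map_one]

end Split

section General

variable {R : Type u} [CommRing R] {M : Type v} [AddCommGroup M] [Module R M] {m : ℕ}
  (b : Module.Basis (Fin (2 * m + 1)) R M) (Q : QuadraticForm R M)
  (hQ : QuadGrp.IsSemiregular b (LinearEquiv.refl R R) Q)

include hQ

theorem exists_cover :
    ∃ (A : Type u) (_ : CommRing A) (_ : Algebra R A), Module.FaithfullyFlat R A ∧ Algebra.FinitePresentation R A ∧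
      ∃ (_ : Module.Free R M), Nonempty ((QuadGrp.splitForm A (2 * m + 1)).IsometryEquiv (QuadGrp.baseChangeForm A Q)) := by
  have : Module.Free R M := Module.Free.of_basis b
  obtain ⟨A, _, _, hff, hfp, c, hc⟩ := K917.Cover.exists_split b Q
    ⟨fun h => absurd h (by simp), fun _ => hQ⟩
  exact ⟨A, inferInstance, inferInstance, hff, hfp, this, ⟨hc.isometryEquiv.symm⟩⟩

theorem exists_even_matrix [Module.Free R M] :
    ∃ (A : Type u) (_ : CommRing A) (_ : Algebra R A), Module.FaithfullyFlat R A ∧ Algebra.FinitePresentation R A ∧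
      Nonempty ((A ⊗[R] ↥(CliffordAlgebra.even Q)) ≃ₐ[A] Matrix (Fin (2 ^ m)) (Fin (2 ^ m)) A) := by
  obtain ⟨A, _, _, hff, hfp, c, hc⟩ := K917.Cover.exists_split b Q
    ⟨fun h => absurd h (by simp), fun _ => hQ⟩
  exact ⟨A, inferInstance, inferInstance, hff, hfp,
    ⟨((evenBC A Q).trans (evenCongr hc.isometryEquiv)).trans (evenSplitMat A m)⟩⟩

/-- even elements commuting with the even part are scalars -/
theorem exists_of_even_comm [Module.Free R M] {z : CliffordAlgebra Q} (h0 : z ∈ evenOdd Q 0)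
    (hz : ∀ y ∈ evenOdd Q 0, z * y = y * z) : ∃ r : R, z = algebraMap R _ r := by
  obtain ⟨A, _, _, hff, hfp, c, hc⟩ := K917.Cover.exists_split b Q
    ⟨fun h => absurd h (by simp), fun _ => hQ⟩
  have hbc := isBaseChange_cmap (isBC A Q)
  obtain ⟨a, ha⟩ := mem_range_of_split (z := cmap (isBC A Q).compat z) hc.isometryEquiv.symm
    (cmap_mem_evenOdd _ 0 h0) (by
      intro y hy
      rw [evenOdd_eq_span (isBC A Q) 0] at hy
      induction hy using Submodule.span_induction with
      | mem y hy =>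
        obtain ⟨x, hx, rfl⟩ := hy
        change cmap (isBC A Q).compat z * cmap (isBC A Q).compat x = cmap (isBC A Q).compat x * cmap (isBC A Q).compat z
        rw [← map_mul, ← map_mul, hz x hx]
      | zero => simp
      | smul a y _ hy => rw [mul_smul_comm, smul_mul_assoc, hy]
      | add y y' _ _ hy hy' => rw [mul_add, add_mul, hy, hy'])
  have h2 := K916.Desc.mem_of_mem_span A hbc (P := (1 : Submodule R (CliffordAlgebra Q))) (x := z) (by
    change cmap (isBC A Q).compat z ∈ _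
    rw [ha, Algebra.algebraMap_eq_smul_one]
    refine Submodule.smul_mem _ a (Submodule.subset_span ⟨1, Submodule.one_le.1 le_rfl, ?_⟩)
    exact map_one (cmap (isBC A Q).compat))
  rw [Submodule.mem_one] at h2
  obtain ⟨r, hr⟩ := h2
  exact ⟨r, hr.symm⟩

omit hQ in
theorem comm_of_comm_ι {z : CliffordAlgebra Q} (h : ∀ v, z * ι Q v = ι Q v * z) (y : CliffordAlgebra Q) :
    z * y = y * z := by
  induction y using CliffordAlgebra.induction with
  | algebraMap r => exact (Algebra.commutes r z).symm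
  | ι v => exact h v
  | mul a b ha hb => rw [← mul_assoc, ha, mul_assoc, hb, mul_assoc]
  | add a b ha hb => rw [mul_add, add_mul, ha, hb]

omit hQ in
theorem eq_zero_of_mem {x : CliffordAlgebra Q} (h0 : x ∈ evenOdd Q 0) (h1 : x ∈ evenOdd Q 1) : x = 0 := by
  have := (evenOdd_isCompl Q).inf_eq_bot
  have h : x ∈ evenOdd Q 0 ⊓ evenOdd Q 1 := ⟨h0, h1⟩
  rwa [this, Submodule.mem_bot] at h

omit hQ in
theorem exists_parts (x : CliffordAlgebra Q) : ∃ x0 ∈ evenOdd Q 0, ∃ x1 ∈ evenOdd Q 1, x = x0 + x1 := by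
  have h : x ∈ evenOdd Q 0 ⊔ evenOdd Q 1 := by
    rw [(evenOdd_isCompl Q).sup_eq_top]; trivial
  obtain ⟨x0, h0, x1, h1, h⟩ := Submodule.mem_sup.1 h
  exact ⟨x0, h0, x1, h1, h.symm⟩

omit hQ in
theorem parts_eq {x0 x1 y0 y1 : CliffordAlgebra Q} (hx0 : x0 ∈ evenOdd Q 0) (hx1 : x1 ∈ evenOdd Q 1)
    (hy0 : y0 ∈ evenOdd Q 0) (hy1 : y1 ∈ evenOdd Q 1) (h : x0 + x1 = y0 + y1) : x0 = y0 ∧ x1 = y1 := by
  have h1 : x0 - y0 = y1 - x1 := by
    rw [sub_eq_sub_iff_add_eq_add, h, add_comm]
  have h2 : x0 - y0 = 0 := eq_zero_of_mem Q (Submodule.sub_mem _ hx0 hy0)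
    (by rw [h1]; exact Submodule.sub_mem _ hy1 hx1)
  have h3 : y1 - x1 = 0 := by rw [← h1, h2]
  exact ⟨sub_eq_zero.1 h2, (sub_eq_zero.1 h3).symm⟩

omit hQ in
theorem mul_parity {i j : ZMod 2} {x y : CliffordAlgebra Q} (hx : x ∈ evenOdd Q i) (hy : y ∈ evenOdd Q j) :
    x * y ∈ evenOdd Q (i + j) := SetLike.mul_mem_graded hx hy

omit hQ in
theorem mul11 {x y : CliffordAlgebra Q} (hx : x ∈ evenOdd Q 1) (hy : y ∈ evenOdd Q 1) :
    x * y ∈ evenOdd Q 0 := by
  have := mul_parity Q hx hy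
  rwa [show (1 : ZMod 2) + 1 = 0 from rfl] at this

omit hQ in
/-- the homogeneous parts of a central element are central -/
theorem parts_central {z0 z1 : CliffordAlgebra Q} (h0 : z0 ∈ evenOdd Q 0) (h1 : z1 ∈ evenOdd Q 1)
    (h : ∀ y, (z0 + z1) * y = y * (z0 + z1)) : (∀ y, z0 * y = y * z0) ∧ (∀ y, z1 * y = y * z1) := by
  have h2 : ∀ v, z0 * ι Q v = ι Q v * z0 ∧ z1 * ι Q v = ι Q v * z1 := by
    intro v
    have h3 := h (ι Q v)
    rw [add_mul, mul_add, add_comm, add_comm (ι Q v * z0)] at h3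
    have hv := ι_mem_evenOdd_one Q v
    obtain ⟨h4, h5⟩ := parts_eq Q (mul11 Q h1 hv) (by simpa using mul_parity Q h0 hv)
      (mul11 Q hv h1) (by simpa using mul_parity Q hv h0) h3
    exact ⟨h5, h4⟩
  exact ⟨comm_of_comm_ι Q fun v => (h2 v).1, comm_of_comm_ι Q fun v => (h2 v).2⟩

/-- the odd part of the centre -/
def Z1 (Q : QuadraticForm R M) : Submodule R (CliffordAlgebra Q) :=
  Subalgebra.toSubmodule (Subalgebra.center R (CliffordAlgebra Q)) ⊓ evenOdd Q 1

omit hQ in
theorem mem_Z1 {z : CliffordAlgebra Q} : z ∈ Z1 Q ↔ (∀ y, z * y = y * z) ∧ z ∈ evenOdd Q 1 := by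
  rw [Z1, Submodule.mem_inf, Subalgebra.mem_toSubmodule, Subalgebra.mem_center_iff]
  exact and_congr_left fun _ => forall_congr' fun y => eq_comm

theorem exists_mul_scalar [Module.Free R M] {z w : CliffordAlgebra Q} (hz : z ∈ Z1 Q) (hw : w ∈ Z1 Q) :
    ∃ r : R, z * w = algebraMap R _ r := by
  rw [mem_Z1] at hz hw
  refine exists_of_even_comm b Q hQ (mul11 Q hz.2 hw.2) fun y _ => ?_
  rw [mul_assoc, hw.1, ← mul_assoc, hz.1, mul_assoc]

/-- the product of the odd centre with itself is everything -/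
theorem one_mem_Z1_mul_Z1 [Module.Free R M] : (1 : CliffordAlgebra Q) ∈ Z1 Q * Z1 Q := by
  obtain ⟨A, _, _, hff, hfp, c, hc⟩ := K917.Cover.exists_split b Q
    ⟨fun h => absurd h (by simp), fun _ => hQ⟩
  have hbc := isBaseChange_cmap (isBC A Q)
  let f : CliffordAlgebra Q →ₐ[R] CliffordAlgebra (baseChangeForm A Q) := cmap (isBC A Q).compat
  obtain ⟨z, hz1, hzc, hzz⟩ := exists_odd_of_split hc.isometryEquiv.symm
  -- the centre upstairs is spanned by the centre downstairs
  let g : Fin (2 * m + 1) → CliffordAlgebra Q →ₗ[R] CliffordAlgebra Q := fun i =>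
    LinearMap.mulRight R (ι Q (b i)) - LinearMap.mulLeft R (ι Q (b i))
  let g' : Fin (2 * m + 1) → CliffordAlgebra (baseChangeForm A Q) →ₗ[A] CliffordAlgebra (baseChangeForm A Q) := fun i =>
    LinearMap.mulRight A (f (ι Q (b i))) - LinearMap.mulLeft A (f (ι Q (b i)))
  have hker := K916.Desc.iInf_ker_eq_span A hbc hbc g g' (by
    intro i x
    change f x * f (ι Q (b i)) - f (ι Q (b i)) * f x = f (x * ι Q (b i) - ι Q (b i) * x)
    rw [map_sub, map_mul, map_mul])
  have hcen : ∀ x ∈ (⨅ i, LinearMap.ker (g i) : Submodule R (CliffordAlgebra Q)), ∀ y, x * y = y * x := by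
    intro x hx
    rw [Submodule.mem_iInf] at hx
    refine comm_of_comm_ι Q fun v => ?_
    have h1 : ∀ i, x * ι Q (b i) = ι Q (b i) * x := fun i => by
      have := hx i
      rw [LinearMap.mem_ker] at this
      exact sub_eq_zero.1 this
    rw [← b.sum_repr v, map_sum, Finset.mul_sum, Finset.sum_mul]
    refine Finset.sum_congr rfl fun i _ => ?_
    rw [map_smul, mul_smul_comm, smul_mul_assoc, h1]
  have hspan : ∀ y ∈ (⨅ i, LinearMap.ker (g' i) : Submodule A (CliffordAlgebra (baseChangeForm A Q))),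
      ∃ a : A, ∃ w ∈ Submodule.span A (f '' (Z1 Q : Set (CliffordAlgebra Q))), y = algebraMap A _ a + w := by
    intro y hy
    rw [hker] at hy
    induction hy using Submodule.span_induction with
    | mem y hy =>
      obtain ⟨x, hx, rfl⟩ := hy
      obtain ⟨x0, h0, x1, h1, rfl⟩ := exists_parts Q x
      obtain ⟨hc0, hc1⟩ := parts_central Q h0 h1 (hcen _ hx)
      obtain ⟨r, rfl⟩ := exists_of_even_comm b Q hQ h0 fun y _ => hc0 y
      refine ⟨algebraMap R A r, f x1, Submodule.subset_span ⟨x1, (mem_Z1 Q).2 ⟨hc1, h1⟩, rfl⟩, ?_⟩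
      change f (algebraMap R _ r + x1) = _
      rw [map_add, AlgHom.commutes, ← IsScalarTower.algebraMap_apply]
    | zero => exact ⟨0, 0, Submodule.zero_mem _, by simp⟩
    | smul a y _ hy =>
      obtain ⟨a', w, hw, rfl⟩ := hy
      exact ⟨a * a', a • w, Submodule.smul_mem _ _ hw, by
        rw [smul_add, map_mul, Algebra.smul_def a (algebraMap A _ a')]⟩
    | add y y' _ _ hy hy' =>
      obtain ⟨a, w, hw, rfl⟩ := hy
      obtain ⟨a', w', hw', rfl⟩ := hy'
      exact ⟨a + a', w + w', Submodule.add_mem _ hw hw', by rw [map_add]; abel⟩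
  have hzmem : z ∈ Submodule.span A (f '' (Z1 Q : Set (CliffordAlgebra Q))) := by
    obtain ⟨a, w, hw, h⟩ := hspan z (by
      rw [Submodule.mem_iInf]
      intro i
      rw [LinearMap.mem_ker]
      have h1 : f (ι Q (b i)) = ι (baseChangeForm A Q) (1 ⊗ₜ b i) := by
        change cmap (isBC A Q).compat (ι Q (b i)) = _
        rw [cmap, lift_ι_apply]
        rfl
      change z * f (ι Q (b i)) - f (ι Q (b i)) * z = 0
      rw [h1, hzc, sub_self])
    have hw1 : w ∈ evenOdd (baseChangeForm A Q) 1 := by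
      refine Submodule.span_le.2 ?_ hw
      rintro _ ⟨x, hx, rfl⟩
      exact cmap_mem_evenOdd _ 1 ((mem_Z1 Q).1 hx).2
    have h2 : algebraMap A (CliffordAlgebra (baseChangeForm A Q)) a = 0 :=
      eq_zero_of_mem _ (SetLike.algebraMap_mem_graded _ a) (by
        have : algebraMap A (CliffordAlgebra (baseChangeForm A Q)) a = z - w := by rw [h]; abel
        rw [this]; exact Submodule.sub_mem _ hz1 hw1)
    rw [h, h2, zero_add]
    exact hw
  -- the ideal of scalars in `Z1 * Z1`
  let J : Ideal R := (Z1 Q * Z1 Q).comap (Algebra.linearMap R (CliffordAlgebra Q))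
  have hJ : ∀ x ∈ Submodule.span A (f '' (Z1 Q : Set (CliffordAlgebra Q))),
      ∀ y ∈ Submodule.span A (f '' (Z1 Q : Set (CliffordAlgebra Q))),
      ∃ a ∈ J.map (algebraMap R A), x * y = algebraMap A _ a := by
    intro x hx y hy
    induction hx using Submodule.span_induction with
    | mem x hx =>
      obtain ⟨x, hx, rfl⟩ := hx
      induction hy using Submodule.span_induction with
      | mem y hy =>
        obtain ⟨y, hy, rfl⟩ := hy
        obtain ⟨r, hr⟩ := exists_mul_scalar b Q hQ hx hy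
        refine ⟨algebraMap R A r, Ideal.mem_map_of_mem _ ?_, ?_⟩
        · change algebraMap R _ r ∈ Z1 Q * Z1 Q
          rw [← hr]
          exact Submodule.mul_mem_mul hx hy
        · rw [← map_mul, hr, AlgHom.commutes, ← IsScalarTower.algebraMap_apply]
      | zero => exact ⟨0, Ideal.zero_mem _, by simp⟩
      | smul a y _ hy =>
        obtain ⟨c, hc, h⟩ := hy
        exact ⟨a * c, Ideal.mul_mem_left _ _ hc, by rw [mul_smul_comm, h, map_mul, Algebra.smul_def]⟩
      | add y y' _ _ hy hy' =>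
        obtain ⟨c, hc, h⟩ := hy
        obtain ⟨c', hc', h'⟩ := hy'
        exact ⟨c + c', Ideal.add_mem _ hc hc', by rw [mul_add, h, h', map_add]⟩
    | zero => exact ⟨0, Ideal.zero_mem _, by simp⟩
    | smul a x _ hx =>
      obtain ⟨c, hc, h⟩ := hx
      exact ⟨a * c, Ideal.mul_mem_left _ _ hc, by rw [smul_mul_assoc, h, map_mul, Algebra.smul_def]⟩
    | add x x' _ _ hx hx' =>
      obtain ⟨c, hc, h⟩ := hx
      obtain ⟨c', hc', h'⟩ := hx'
      exact ⟨c + c', Ideal.add_mem _ hc hc', by rw [add_mul, h, h', map_add]⟩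
  obtain ⟨a, ha, h⟩ := hJ z hzmem z hzmem
  rw [hzz, ← map_one (algebraMap A (CliffordAlgebra (baseChangeForm A Q)))] at h
  have h1 : (1 : A) = a := K916.Basic.algebraMap_injective _ h
  have h2 : J.map (algebraMap R A) = ⊤ := (Ideal.eq_top_iff_one _).2 (h1 ▸ ha)
  have h3 : J = ⊤ := by
    rw [← Ideal.comap_map_eq_self_of_faithfullyFlat (B := A) J, h2, Ideal.comap_top]
  have h4 : (1 : R) ∈ J := h3 ▸ trivial
  change algebraMap R (CliffordAlgebra Q) 1 ∈ Z1 Q * Z1 Q at h4
  rwa [map_one] at h4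

/-- the multiplication map from the centre tensor the even part -/
noncomputable abbrev mulMap (Q : QuadraticForm R M) :
    ↥(Subalgebra.center R (CliffordAlgebra Q)) ⊗[R] ↥(CliffordAlgebra.even Q) →ₗ[R] CliffordAlgebra Q :=
  TensorProduct.lift
        (((LinearMap.mul R (CliffordAlgebra Q)).comp (Subalgebra.center R (CliffordAlgebra Q)).val.toLinearMap).compl₂
          (CliffordAlgebra.even Q).val.toLinearMap)

omit hQ in
theorem mulMap_tmul (z : ↥(Subalgebra.center R (CliffordAlgebra Q))) (c : ↥(CliffordAlgebra.even Q)) :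
    mulMap Q (z ⊗ₜ c) = z.1 * c.1 := by
  rw [TensorProduct.lift.tmul]
  rfl

/-- a finite representation of one -/
theorem exists_sum_one [Module.Free R M] :
    ∃ S : Finset (↥(Z1 Q) × ↥(Z1 Q)), (1 : CliffordAlgebra Q) = ∑ p ∈ S, (p.1 : CliffordAlgebra Q) * p.2 := by
  have h := one_mem_Z1_mul_Z1 b Q hQ
  rw [Submodule.mul_eq_map₂, TensorProduct.map₂_eq_range_lift_comp_mapIncl] at h
  obtain ⟨t, ht⟩ := h
  obtain ⟨S, rfl⟩ := TensorProduct.exists_finset t
  refine ⟨S, ?_⟩
  rw [← ht, map_sum]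
  refine Finset.sum_congr rfl fun p _ => ?_
  rw [LinearMap.comp_apply, TensorProduct.mapIncl, TensorProduct.map_tmul, TensorProduct.lift.tmul]
  rfl

theorem mulMap_surjective [Module.Free R M] : Function.Surjective (mulMap Q) := by
  obtain ⟨S, hS⟩ := exists_sum_one b Q hQ
  intro x
  obtain ⟨x0, h0, x1, h1, rfl⟩ := exists_parts Q x
  refine ⟨1 ⊗ₜ ⟨x0, h0⟩ + ∑ p ∈ S, (⟨p.1.1, p.1.2.1⟩ : ↥(Subalgebra.center R (CliffordAlgebra Q))) ⊗ₜ
    (⟨p.2.1 * x1, mul11 Q p.2.2.2 h1⟩ : ↥(CliffordAlgebra.even Q)), ?_⟩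
  rw [map_add, map_sum, mulMap_tmul]
  congr 1
  · exact one_mul x0
  · conv_rhs => rw [← one_mul x1, hS, Finset.sum_mul]
    refine Finset.sum_congr rfl fun p _ => ?_
    rw [mulMap_tmul]
    exact (mul_assoc _ _ _).symm

theorem mulMap_injective [Module.Free R M] : Function.Injective (mulMap Q) := by
  obtain ⟨S, hS⟩ := exists_sum_one b Q hQ
  let P0 : CliffordAlgebra Q →ₗ[R] ↥(CliffordAlgebra.even Q) :=
    Submodule.projectionOnto (evenOdd Q 0) (evenOdd Q 1) (evenOdd_isCompl Q)
  let P1 : CliffordAlgebra Q →ₗ[R] ↥(evenOdd Q 1) :=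
    Submodule.projectionOnto (evenOdd Q 1) (evenOdd Q 0) (evenOdd_isCompl Q).symm
  have hP0 : ∀ x0 ∈ evenOdd Q 0, ∀ x1 ∈ evenOdd Q 1, (P0 (x0 + x1) : CliffordAlgebra Q) = x0 := by
    intro x0 h0 x1 h1
    rw [map_add]
    have e1 : P0 x0 = ⟨x0, h0⟩ := Submodule.projectionOnto_apply_left (evenOdd_isCompl Q) ⟨x0, h0⟩
    have e2 : P0 x1 = 0 := Submodule.projectionOnto_apply_right (evenOdd_isCompl Q) ⟨x1, h1⟩
    rw [e1, e2, add_zero]
  have hP1 : ∀ x0 ∈ evenOdd Q 0, ∀ x1 ∈ evenOdd Q 1, (P1 (x0 + x1) : CliffordAlgebra Q) = x1 := by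
    intro x0 h0 x1 h1
    rw [map_add]
    have e1 : P1 x1 = ⟨x1, h1⟩ := Submodule.projectionOnto_apply_left (evenOdd_isCompl Q).symm ⟨x1, h1⟩
    have e2 : P1 x0 = 0 := Submodule.projectionOnto_apply_right (evenOdd_isCompl Q).symm ⟨x0, h0⟩
    rw [e1, e2, zero_add]
  let L : (p : ↥(Z1 Q) × ↥(Z1 Q)) → ↥(evenOdd Q 1) →ₗ[R] ↥(CliffordAlgebra.even Q) := fun p =>
    { toFun := fun x => ⟨p.2.1 * x.1, mul11 Q p.2.2.2 x.2⟩
      map_add' := fun x y => Subtype.ext (mul_add _ _ _)
      map_smul' := fun r x => Subtype.ext (mul_smul_comm _ _ _) }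
  let ν : CliffordAlgebra Q →ₗ[R] ↥(Subalgebra.center R (CliffordAlgebra Q)) ⊗[R] ↥(CliffordAlgebra.even Q) :=
    TensorProduct.mk R _ _ 1 ∘ₗ P0 +
      ∑ p ∈ S, TensorProduct.mk R _ _ (⟨p.1.1, p.1.2.1⟩ : ↥(Subalgebra.center R (CliffordAlgebra Q))) ∘ₗ L p ∘ₗ P1
  have hν : ∀ t, ν (mulMap Q t) = t := by
    intro t
    induction t with
    | zero => rw [map_zero, map_zero]
    | add t t' h h' => rw [map_add, map_add, h, h']
    | tmul z c =>
      rw [mulMap_tmul]
      obtain ⟨z0, h0, z1, h1, hz⟩ := exists_parts Q z.1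
      have hzc : ∀ y, (z0 + z1) * y = y * (z0 + z1) := fun y => by
        rw [← hz]; exact ((Subalgebra.mem_center_iff.1 z.2) y).symm
      obtain ⟨hc0, hc1⟩ := parts_central Q h0 h1 hzc
      obtain ⟨r, rfl⟩ := exists_of_even_comm b Q hQ h0 fun y _ => hc0 y
      have hZ : z1 ∈ Z1 Q := (mem_Z1 Q).2 ⟨hc1, h1⟩
      have hr : ∀ p : ↥(Z1 Q) × ↥(Z1 Q), ∃ s : R, p.2.1 * z1 = algebraMap R _ s := fun p =>
        exists_mul_scalar b Q hQ p.2.2 hZ
      choose s hs using hr
      have e0 : P0 (z.1 * c.1) = r • c := by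
        apply Subtype.ext
        rw [hz, add_mul]
        rw [hP0 _ (by simpa using mul_parity Q h0 c.2) _ (by simpa using mul_parity Q h1 c.2)]
        exact (Algebra.smul_def r c.1).symm
      have e1 : ∀ p : ↥(Z1 Q) × ↥(Z1 Q), L p (P1 (z.1 * c.1)) = s p • c := by
        intro p
        apply Subtype.ext
        change p.2.1 * (P1 (z.1 * c.1)).1 = s p • c.1
        rw [hz, add_mul, hP1 _ (by simpa using mul_parity Q h0 c.2) _ (by simpa using mul_parity Q h1 c.2),
          ← mul_assoc, hs, Algebra.smul_def]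
      change (1 : ↥(Subalgebra.center R (CliffordAlgebra Q))) ⊗ₜ P0 (z.1 * c.1) +
        (∑ p ∈ S, TensorProduct.mk R _ _ (⟨p.1.1, p.1.2.1⟩ : ↥(Subalgebra.center R (CliffordAlgebra Q))) ∘ₗ L p ∘ₗ P1)
          (z.1 * c.1) = z ⊗ₜ c
      rw [LinearMap.sum_apply]
      have e2 : ∀ p ∈ S, (TensorProduct.mk R _ _ (⟨p.1.1, p.1.2.1⟩ : ↥(Subalgebra.center R (CliffordAlgebra Q))) ∘ₗ
          L p ∘ₗ P1) (z.1 * c.1) =
          (s p • (⟨p.1.1, p.1.2.1⟩ : ↥(Subalgebra.center R (CliffordAlgebra Q)))) ⊗ₜ c := by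
        intro p _
        rw [LinearMap.comp_apply, LinearMap.comp_apply, e1, TensorProduct.mk_apply, TensorProduct.tmul_smul,
          TensorProduct.smul_tmul']
      rw [Finset.sum_congr rfl e2, ← TensorProduct.sum_tmul, e0, TensorProduct.tmul_smul, TensorProduct.smul_tmul',
        ← TensorProduct.add_tmul]
      congr 1
      apply Subtype.ext
      change r • (1 : CliffordAlgebra Q) +
        ((∑ p ∈ S, s p • (⟨p.1.1, p.1.2.1⟩ : ↥(Subalgebra.center R (CliffordAlgebra Q))) : _) : CliffordAlgebra Q) = z.1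
      rw [hz, Algebra.algebraMap_eq_smul_one]
      congr 1
      rw [AddSubmonoidClass.coe_finset_sum]
      conv_rhs => rw [← one_mul z1, hS, Finset.sum_mul]
      refine Finset.sum_congr rfl fun p _ => ?_
      change s p • p.1.1 = _
      rw [mul_assoc, hs, Algebra.smul_def, Algebra.commutes]
  exact fun t t' h => by rw [← hν t, h, hν]

theorem exists_central_unit [Module.Free R M] [IsLocalRing R] :
    ∃ z : CliffordAlgebra Q, z ∈ Subalgebra.center R (CliffordAlgebra Q) ∧ z ∈ CliffordAlgebra.evenOdd Q 1 ∧ IsUnit z ∧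
      z * z ∈ (algebraMap R (CliffordAlgebra Q)).range ∧ LinearIndependent R ![(1 : CliffordAlgebra Q), z] ∧
      Subalgebra.toSubmodule (Subalgebra.center R (CliffordAlgebra Q)) = Submodule.span R {1, z} := by
  obtain ⟨S, hS⟩ := exists_sum_one b Q hQ
  have hr : ∀ p : ↥(Z1 Q) × ↥(Z1 Q), ∃ s : R, p.1.1 * p.2.1 = algebraMap R _ s := fun p =>
    exists_mul_scalar b Q hQ p.1.2 p.2.2
  choose s hs using hr
  have h1 : (1 : R) = ∑ p ∈ S, s p := by
    apply K916.Basic.algebraMap_injective Q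
    rw [map_one, map_sum, hS]
    exact Finset.sum_congr rfl fun p _ => hs p
  obtain ⟨p, hp⟩ : ∃ p, IsUnit (s p) := by
    by_contra hcon
    push Not at hcon
    have : (1 : R) ∈ IsLocalRing.maximalIdeal R := by
      rw [h1]
      exact Ideal.sum_mem _ fun p _ => (IsLocalRing.mem_maximalIdeal _).2 (hcon p)
    exact (Ideal.ne_top_iff_one _).1 (IsLocalRing.maximalIdeal.isMaximal R).ne_top this
  obtain ⟨c, hc⟩ := hp.exists_left_inv
  set z : CliffordAlgebra Q := p.1.1 with hz
  set w : CliffordAlgebra Q := p.2.1 with hw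
  have hzZ : z ∈ Z1 Q := p.1.2
  have hwZ : w ∈ Z1 Q := p.2.2
  have hz1 := (mem_Z1 Q).1 hzZ
  have hzw : z * w = algebraMap R _ (s p) := hs p
  have hmul : z * (algebraMap R _ c * w) = 1 := by
    rw [← mul_assoc, ← Algebra.commutes c z, mul_assoc, hzw, ← map_mul, hc, map_one]
  have hunit : IsUnit z := ⟨⟨z, algebraMap R _ c * w, hmul, by rw [← hz1.1, hmul]⟩, rfl⟩
  have hZ1span : ∀ y ∈ Z1 Q, ∃ r : R, y = r • z := by
    intro y hy
    obtain ⟨r, hr⟩ := exists_mul_scalar b Q hQ hy hwZ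
    refine ⟨c * r, ?_⟩
    have h2 : y = y * (z * (algebraMap R _ c * w)) := by rw [hmul, mul_one]
    rw [h2, hz1.1, ← mul_assoc, ← mul_assoc, ← Algebra.commutes c y, mul_assoc _ y w, hr, ← map_mul,
      Algebra.smul_def]
  refine ⟨z, hzZ.1, hz1.2, hunit, ?_, ?_, ?_⟩
  · obtain ⟨r, hr⟩ := exists_mul_scalar b Q hQ hzZ hzZ
    exact ⟨r, hr.symm⟩
  · rw [LinearIndependent.pair_iff]
    intro r t h
    have h2 := parts_eq Q (x0 := r • (1 : CliffordAlgebra Q)) (x1 := t • z) (y0 := 0) (y1 := 0)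
      (Submodule.smul_mem _ _ (SetLike.one_mem_graded _)) (Submodule.smul_mem _ _ hz1.2)
      (Submodule.zero_mem _) (Submodule.zero_mem _) (by rw [add_zero]; exact h)
    refine ⟨?_, ?_⟩
    · apply K916.Basic.algebraMap_injective Q
      rw [Algebra.algebraMap_eq_smul_one, h2.1, map_zero]
    · apply K916.Basic.algebraMap_injective Q
      have h3 := h2.2
      rw [Algebra.smul_def] at h3
      rw [map_zero]
      exact (hunit.mul_left_eq_zero).1 h3
  · apply le_antisymm
    · intro y hy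
      obtain ⟨y0, h0, y1, h1, rfl⟩ := exists_parts Q y
      have hc : ∀ x, (y0 + y1) * x = x * (y0 + y1) := fun x =>
        ((Subalgebra.mem_center_iff (R := R).1 hy) x).symm
      obtain ⟨hc0, hc1⟩ := parts_central Q h0 h1 hc
      obtain ⟨r, rfl⟩ := exists_of_even_comm b Q hQ h0 fun y _ => hc0 y
      obtain ⟨t, rfl⟩ := hZ1span y1 ((mem_Z1 Q).2 ⟨hc1, h1⟩)
      rw [Submodule.mem_span_pair]
      exact ⟨r, t, by rw [Algebra.algebraMap_eq_smul_one]⟩
    · rw [Submodule.span_le]
      rintro x (rfl | rfl)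
      · exact (Subalgebra.center R (CliffordAlgebra Q)).one_mem
      · exact hzZ.1

end General

end K917.OddCl
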