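import Groth.Agent.QuadGrp.K917.RelDim
import Groth.Agent.QuadGrp.K917.Fam

/-!
# The special orthogonal group in odd rank: smooth, of the expected relative dimension, with connected fibres
-/

set_option autoImplicit false
set_option maxHeartbeats 400000
set_option linter.unusedSectionVars false
set_option linter.deprecated false

universe u v w

open CategoryTheory AlgebraicGeometry Limits QuadGrp QuadraticMap TensorProduct

namespace K917.OddSO

open K917.Coef K917.Deform K917.Cover K917.Reg K917.OAlg K917.Conn K917.Fam K917.Rep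

section Pts

variable {R : Type u} [CommRing R] {m : ℕ} (a : Sym2 (Fin (2 * m + 1)) → R) (hu : IsUnit (hd a))

theorem map_hd {B : Type v} [CommRing B] {n : ℕ} (φ : R →+* B) (a : Sym2 (Fin n) → R) : hd (φ ∘ a) = φ (hd a) := by
  rw [hd_eq, hd_eq, K918.HalfDisc.hd_map]; rfl

include hu in
theorem det_sq_of_hd {B : Type v} [CommRing B] [Algebra R B] (X : Matrix (Fin (2 * m + 1)) (Fin (2 * m + 1)) B)
    (hX : pull (algebraMap R B ∘ a) X = algebraMap R B ∘ a) : X.det * X.det = 1 := by
  have hodd : Odd (2 * m + 1) := ⟨m, rfl⟩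
  have h1 := congrArg hd hX
  rw [hd_pull hodd] at h1
  have h2 : IsUnit (hd (algebraMap R B ∘ a)) := by rw [map_hd]; exact hu.map _
  rw [← pow_two]
  exact h2.mul_right_cancel (by rw [h1, one_mul])

include hu in
theorem pts : Pts a (uMat (soEq a)) where
  ext B _ _ φ ψ h := OAlg.hom_ext _ h
  iso B _ _ φ := (hom_so a φ).1
  det K _ _ p := by rw [(hom_so a p).2]; exact isUnit_one
  fam K B _ _ _ _ _ _ _ X s p hX hp := by
    refine exists_hom_so a X hX ?_
    have h1 := det_sq_of_hd a hu X hX
    rcases mul_self_eq_one_iff.1 h1 with h2 | h2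
    · exact h2
    · have h3 : (X.map s).det = 1 := by rw [← hp]; exact (hom_so a p).2
      have h4 : (X.map s).det = s X.det := by
        rw [AlgHom.map_det]; rfl
      rw [h4, h2, map_neg, map_one] at h3
      have h5 : (algebraMap K B) (-1) = algebraMap K B 1 := congrArg _ h3
      rw [map_neg, map_one] at h5
      rw [h2, h5]
  one K _ _ := exists_hom_so a 1 (pull_one _) Matrix.det_one

include hu in
theorem connectedSpace (K : Type u) [Field K] [IsAlgClosed K] [Algebra R K] :
    ConnectedSpace (PrimeSpectrum (K ⊗[R] PolySys.Alg (soEq a))) := by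
  have hrad := geomRad_of_semiregular a hu K (algebraMap R K)
  obtain ⟨c, hc⟩ := Split.exists_isSplitBasis (2 * m + 1) (by rw [Module.finrank_fin_fun]) (qf (algebraMap R K ∘ a)) hrad
  let E := hc.isometryEquiv
  let g : Fin (2 * m + 1) → K := Pi.single 0 1
  have hE : ∀ v, splitForm K (2 * m + 1) (E v) = qf (algebraMap R K ∘ a) v := E.map_app
  have hg0 : g 0 = 1 := Pi.single_eq_same _ _
  have hgne : ∀ j : Fin (2 * m + 1), j ≠ 0 → g j = 0 := fun j hj => Pi.single_eq_of_ne hj _
  have hgq : splitForm K (2 * m + 1) g = 1 := by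
    rw [K916.SplitForm.odd_apply, hg0, Finset.sum_eq_zero fun j _ => by
      rw [hgne ⟨2 * j + 1, by omega⟩ (fun h => by have := congrArg Fin.val h; simp at this), zero_mul]]
    simp
  let v0 : Fin (2 * m + 1) → K := E.symm g
  have hEv0 : E v0 = g := E.apply_symm_apply g
  have h0 : (1 : K) * qf (algebraMap R K ∘ a) v0 = 1 := by
    rw [one_mul, ← hE, hEv0, hgq]
  refine Fam.connectedSpace (pts a hu) hrad v0 1 h0 ?_
  by_cases h2 : (2 : K) = 0
  · right
    have hpol : ∀ w, polar (qf (algebraMap R K ∘ a)) v0 w = 0 := by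
      intro w
      have h3 : polar (qf (algebraMap R K ∘ a)) v0 w = polar (splitForm K (2 * m + 1)) (E v0) (E w) := by
        rw [polar, polar, ← hE, ← hE, ← hE]
        congr 3
        exact map_add E.toLinearEquiv _ _
      rw [h3, hEv0, CD.polar_odd, h2, zero_mul, add_zero]
      refine Finset.sum_eq_zero fun j _ => ?_
      rw [hgne ⟨2 * j + 1, by omega⟩ (fun h => by have := congrArg Fin.val h; simp at this),
        hgne ⟨2 * j + 2, by omega⟩ (fun h => by have := congrArg Fin.val h; simp at this), zero_mul, mul_zero, add_zero]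
    apply Matrix.toLin'.injective
    apply LinearMap.ext
    intro x
    rw [Matrix.toLin'_apply, rM_mulVec, hpol, zero_smul, sub_zero, Matrix.toLin'_apply, Matrix.one_mulVec]
  · left
    intro p hp
    have h3 := (hom_so a p).2
    rw [hp, det_rM _ _ _ h0] at h3
    apply h2
    linear_combination -h3

include hu in
theorem geometricallyConnected : GeometricallyConnected
    (Spec.map (CommRingCat.ofHom (algebraMap R (PolySys.Alg (soEq a))))) :=
  geometricallyConnected_of fun K _ _ _ => connectedSpace a hu K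

end Pts

section Rep

variable {R : Type u} [CommRing R] {M : Type u} [AddCommGroup M] [Module R M] [Module.Free R M] {m : ℕ}
  (b : Module.Basis (Fin (2 * m + 1)) R M) (Q : QuadraticForm R M)

include b in
theorem not_even_finrank (A : Type u) [CommRing A] [Algebra R A] : ¬ Even (Module.finrank A (A ⊗[R] M)) := by
  rcases subsingleton_or_nontrivial A with h | h
  · rw [Module.finrank_subsingleton]
    exact Nat.not_even_one
  · rw [Module.finrank_eq_card_basis (b.baseChange A), Fintype.card_fin, Nat.not_even_iff_odd]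
    exact ⟨m, rfl⟩

include b in
theorem mem_sorth_iff (A : Type u) [CommRing A] [Algebra R A] (g : (A ⊗[R] M) ≃ₗ[A] (A ⊗[R] M)) :
    g ∈ sorth Q A ↔ (∀ x, baseChangeForm A Q (g x) = baseChangeForm A Q x) ∧
      LinearMap.det (g : (A ⊗[R] M) →ₗ[A] (A ⊗[R] M)) = 1 := by
  rw [sorth, SO, if_neg (not_even_finrank b A), SO', Subgroup.mem_inf, mem_O, MonoidHom.mem_ker]
  refine and_congr Iff.rfl ?_
  rw [← LinearEquiv.coe_det, Units.val_eq_one]

/-- the coordinate algebra of the special orthogonal group in odd rank -/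
noncomputable def affRep {G : Over (Spec (CommRingCat.of R))} [GrpObj G] (D : SOrthRep Q G) :
    AffRep G (PolySys.Alg (soEq (cfb b Q))) :=
  affRepOfMat b D (uMat (soEq (cfb b Q)))
    (fun A _ _ g hg => by
      rw [mem_sorth_iff b Q A g] at hg
      refine exists_hom_so (cfb b Q) _ ((isometry_iff b Q A g).1 hg.1) ?_
      rw [det_mat]; exact hg.2)
    (fun A _ _ φ ψ h => OAlg.hom_ext _ h)
    (fun A _ _ φ => by
      obtain ⟨h1, h2⟩ := hom_so (cfb b Q) φ
      obtain ⟨g, hg⟩ := exists_mat_eq b A ((uMat (soEq (cfb b Q))).map φ) (by rw [h2]; exact isUnit_one)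
      refine ⟨g, ?_, hg⟩
      rw [mem_sorth_iff b Q A g]
      refine ⟨(isometry_iff b Q A g).2 (by rw [hg]; exact h1), ?_⟩
      rw [← det_mat b A g, hg]; exact h2)

theorem main (hQ : IsSemiregular b (LinearEquiv.refl R R) Q) {G : Over (Spec (CommRingCat.of R))} [GrpObj G]
    (D : SOrthRep Q G) :
    SmoothOfRelativeDimension (m * (2 * m + 1)) G.hom ∧
      ∀ s : ↥(Spec (CommRingCat.of R)), ConnectedSpace ↥(G.hom.fiber s) := by
  have hu : IsUnit (hd (cfb b Q)) := by
    rw [hd, halfDisc_qf_cfb]; exact hQ
  have hdef : DefProp (cfb b Q) := defProp_of_geomRad _ (geomRad_of_semiregular _ hu)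
  refine ⟨(affRep b Q D).property _ (RelDim.smoothOfRelativeDimension_so (cfb b Q) hdef hu), ?_⟩
  have : GeometricallyConnected G.hom := (affRep b Q D).property _ (geometricallyConnected (cfb b Q) hu)
  intro s
  infer_instance

end Rep

end K917.OddSO
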