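import Groth.Agent.QuadGrp.K917.TanDim
import Groth.Agent.An.H174.RelJac
import Groth.Agent.Lefpen.H727.DerCrit

/-!
# `O(q)` and `SO'(q)`: smooth of the expected relative dimension
-/

set_option autoImplicit false
set_option maxHeartbeats 400000
set_option linter.deprecated false
set_option linter.unusedSectionVars false

universe u v

open CategoryTheory AlgebraicGeometry QuadGrp QuadraticMap TensorProduct

namespace K917.RelDim

open K917.Coef K917.Deform K917.Cover K917.Reg K917.OAlg K917.TanDim

theorem smoothOfRelativeDimension_of (R A : Type u) [CommRing R] [CommRing A] [Algebra R A] (d : ℕ)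
    [Algebra.Smooth R A]
    (h : ∀ (K : Type u) [Field K] [Algebra R K] [Algebra A K] [IsScalarTower R A K],
      Module.finrank K (K ⊗[A] Ω[A⁄R]) = d) :
    SmoothOfRelativeDimension d (Spec.map (CommRingCat.ofHom (algebraMap R A))) := by
  rw [HasRingHomProperty.Spec_iff (P := @SmoothOfRelativeDimension d)]
  refine Groth.Agent.Lefpen.H727.DerCrit.locally_of_forall fun P hP => ?_
  have := hP
  obtain ⟨g, hg, h1⟩ := Groth.Agent.An.H174.RelJac.exists_relDim (T := R) (A := A) P d (h P.ResidueField)
  exact ⟨g, hg, h1⟩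

theorem smoothOfRelativeDimension_o {R : Type u} [CommRing R] {m : ℕ} (a : Sym2 (Fin (2 * m)) → R) (ha : RegProp a)
    (hu : IsUnit (pmat a).det) :
    SmoothOfRelativeDimension (m * (2 * m - 1)) (Spec.map (CommRingCat.ofHom (algebraMap R (PolySys.Alg (oEq a))))) := by
  have := smooth_o a ha
  refine smoothOfRelativeDimension_of R (PolySys.Alg (oEq a)) _ fun K _ _ _ _ => ?_
  have h1 := finrank_o a ha hu K
  have h2 := card_sym2 (2 * m)
  have h3 : m * (2 * m - 1) + m * (2 * m + 1) = 2 * m * (2 * m) := by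
    rcases Nat.eq_zero_or_pos m with rfl | hm
    · rfl
    · have : 2 * m - 1 + (2 * m + 1) = 4 * m := by omega
      rw [← mul_add, this]; ring
  have h4 : Fintype.card (Sym2 (Fin (2 * m))) = m * (2 * m + 1) := by
    have : 2 * Fintype.card (Sym2 (Fin (2 * m))) = 2 * (m * (2 * m + 1)) := by rw [h2]; ring
    omega
  omega

theorem smoothOfRelativeDimension_so {R : Type u} [CommRing R] {m : ℕ} (a : Sym2 (Fin (2 * m + 1)) → R) (ha : DefProp a)
    (hu : IsUnit (hd a)) :
    SmoothOfRelativeDimension (m * (2 * m + 1)) (Spec.map (CommRingCat.ofHom (algebraMap R (PolySys.Alg (soEq a))))) := by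
  have := smooth_so a ha hu
  refine smoothOfRelativeDimension_of R (PolySys.Alg (soEq a)) _ fun K _ _ _ _ => ?_
  have h1 := finrank_so a ha hu K
  have h2 := card_sym2 (2 * m + 1)
  have h4 : Fintype.card (Sym2 (Fin (2 * m + 1))) = (m + 1) * (2 * m + 1) := by
    have : 2 * Fintype.card (Sym2 (Fin (2 * m + 1))) = 2 * ((m + 1) * (2 * m + 1)) := by rw [h2]; ring
    omega
  have h3 : m * (2 * m + 1) + (m + 1) * (2 * m + 1) = (2 * m + 1) * (2 * m + 1) := by ring
  omega

end K917.RelDim
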