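import Groth.Prelude.Def_QuadGrp2
import Mathlib.AlgebraicGeometry.Gluing
import Mathlib.AlgebraicGeometry.Morphisms.Basic

/-!
# An `R`-scheme whose points with values in affine `R`-schemes are those of an affine scheme is affine
-/

set_option autoImplicit false

universe u

open CategoryTheory AlgebraicGeometry Limits QuadGrp

namespace K917.Rep

variable {R : Type u} [CommRing R]

/-- The data of an identification of the points of `G` with values in affine `R`-schemes with those of `Spec O`. -/
structure AffRep (G : Over (Spec (CommRingCat.of R))) (O : Type u) [CommRing O] [Algebra R O] where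
  equiv : ∀ (A : Type u) [CommRing A] [Algebra R A], (specOver R A ⟶ G) ≃ (O →ₐ[R] A)
  natural : ∀ (A B : Type u) [CommRing A] [Algebra R A] [CommRing B] [Algebra R B] (φ : A →ₐ[R] B)
    (y : specOver R A ⟶ G), equiv B (specOverMap R φ ≫ y) = φ.comp (equiv A y)

variable {G : Over (Spec (CommRingCat.of R))} {O : Type u} [CommRing O] [Algebra R O]

theorem specOverMap_left {A B : Type u} [CommRing A] [Algebra R A] [CommRing B] [Algebra R B] (φ : A →ₐ[R] B) :
    (specOverMap R φ).left = Spec.map (CommRingCat.ofHom φ.toRingHom) := rfl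

/-- the universal point -/
noncomputable def AffRep.univ (D : AffRep G O) : specOver R O ⟶ G := (D.equiv O).symm (AlgHom.id R O)

theorem AffRep.factor (D : AffRep G O) (A : Type u) [CommRing A] [Algebra R A] (y : specOver R A ⟶ G) :
    specOverMap R (D.equiv A y) ≫ D.univ = y := by
  apply (D.equiv A).injective
  rw [D.natural, AffRep.univ, Equiv.apply_symm_apply, AlgHom.comp_id]

theorem AffRep.equiv_map (D : AffRep G O) (A : Type u) [CommRing A] [Algebra R A] (φ : O →ₐ[R] A) :
    D.equiv A (specOverMap R φ ≫ D.univ) = φ := by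
  rw [D.natural, AffRep.univ, Equiv.apply_symm_apply, AlgHom.comp_id]

/-- the underlying morphism of the universal point -/
noncomputable def AffRep.u (D : AffRep G O) : Spec (CommRingCat.of O) ⟶ G.left := D.univ.left

theorem AffRep.u_w (D : AffRep G O) : D.u ≫ G.hom = Spec.map (CommRingCat.ofHom (algebraMap R O)) :=
  Over.w D.univ

theorem AffRep.hom_ext_spec (D : AffRep G O) {B : CommRingCat.{u}} (a b : Spec B ⟶ Spec (CommRingCat.of O))
    (h : a ≫ D.u = b ≫ D.u) : a = b := by
  let ρ : CommRingCat.of R ⟶ B := Spec.preimage (a ≫ Spec.map (CommRingCat.ofHom (algebraMap R O)))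
  let _ : Algebra R B := ρ.hom.toAlgebra
  have ha : CommRingCat.ofHom (algebraMap R O) ≫ Spec.preimage a = ρ := by
    apply Spec.map_injective
    rw [Spec.map_comp, Spec.map_preimage, Spec.map_preimage]
  have hb : CommRingCat.ofHom (algebraMap R O) ≫ Spec.preimage b = ρ := by
    apply Spec.map_injective
    rw [Spec.map_comp, Spec.map_preimage, Spec.map_preimage, ← D.u_w, ← Category.assoc, ← h, Category.assoc]
  let φ : O →ₐ[R] B := { (Spec.preimage a).hom with
    commutes' := fun r => congrArg (fun f => f.hom r) ha }
  let ψ : O →ₐ[R] B := { (Spec.preimage b).hom with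
    commutes' := fun r => congrArg (fun f => f.hom r) hb }
  have hφ : (specOverMap R φ).left = a := by
    rw [specOverMap_left]
    exact Spec.map_preimage a
  have hψ : (specOverMap R ψ).left = b := by
    rw [specOverMap_left]
    exact Spec.map_preimage b
  have h1 : specOverMap R φ ≫ D.univ = specOverMap R ψ ≫ D.univ := by
    apply Over.OverMorphism.ext
    rw [Over.comp_left, Over.comp_left]
    have h3 : (specOverMap R φ).left ≫ D.u = (specOverMap R ψ).left ≫ D.u := by
      have h4 : a ≫ D.u = b ≫ D.u := h
      rw [← hφ, ← hψ] at h4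
      exact h4
    exact h3
  have h2 : φ = ψ := by rw [← D.equiv_map B φ, h1, D.equiv_map]
  rw [← hφ, ← hψ, h2]

instance AffRep.mono_u (D : AffRep G O) : Mono D.u where
  right_cancellation {T} a b h := by
    refine Scheme.Cover.hom_ext T.affineCover _ _ fun i => ?_
    refine D.hom_ext_spec (B := T.affineOpenCover.X i) (T.affineCover.f i ≫ a) (T.affineCover.f i ≫ b) ?_
    rw [Category.assoc, Category.assoc, h]

theorem AffRep.exists_lift_spec (D : AffRep G O) {B : CommRingCat.{u}} (f : Spec B ⟶ G.left) :
    ∃ s : Spec B ⟶ Spec (CommRingCat.of O), s ≫ D.u = f := by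
  let ρ : CommRingCat.of R ⟶ B := Spec.preimage (f ≫ G.hom)
  let _ : Algebra R B := ρ.hom.toAlgebra
  have hρ : Spec.map (CommRingCat.ofHom (algebraMap R B)) = f ≫ G.hom := Spec.map_preimage _
  let y : specOver R B ⟶ G := Over.homMk f hρ.symm
  refine ⟨(specOverMap R (D.equiv B y)).left, ?_⟩
  have := congrArg (fun g => g.left) (D.factor B y)
  exact this

instance AffRep.isIso_u (D : AffRep G O) : IsIso D.u := by
  change MorphismProperty.isomorphisms Scheme.{u} D.u
  refine IsZariskiLocalAtTarget.of_openCover G.left.affineCover fun i => ?_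
  change IsIso (pullback.snd D.u (G.left.affineCover.f i))
  obtain ⟨s, hs⟩ := D.exists_lift_spec (B := G.left.affineOpenCover.X i) (G.left.affineCover.f i)
  have : IsSplitEpi (pullback.snd D.u (G.left.affineCover.f i)) :=
    ⟨⟨{ section_ := pullback.lift s (𝟙 _) (hs.trans (Category.id_comp _).symm),
        id := pullback.lift_snd _ _ _ }⟩⟩
  exact isIso_of_mono_of_isSplitEpi _

theorem AffRep.hom_eq (D : AffRep G O) : G.hom = inv D.u ≫ Spec.map (CommRingCat.ofHom (algebraMap R O)) := by
  rw [← D.u_w, IsIso.inv_hom_id_assoc]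

/-- Any property of morphisms stable under isomorphisms passes from `Spec O → Spec R` to `G`. -/
theorem AffRep.property (D : AffRep G O) (P : MorphismProperty Scheme.{u}) [P.RespectsIso]
    (h : P (Spec.map (CommRingCat.ofHom (algebraMap R O)))) : P G.hom := by
  rw [D.hom_eq]
  exact (P.cancel_left_of_respectsIso _ _).mpr h

end K917.Rep
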