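import Groth.Agent.QuadGrp.K917.Base

/-!
# The standard split form: recursion `n ↦ n + 2`, coefficients, the duality operator, deformation lemma
-/

set_option autoImplicit false

universe u v w u' v' w'

open TensorProduct QuadGrp QuadraticMap

namespace K917.Split

variable (R : Type u) [CommRing R]

/-- extension by zero of a finite family -/
def ext0 {n : ℕ} (x : Fin n → R) : ℕ → R := fun k => if h : k < n then x ⟨k, h⟩ else 0

variable {R}

theorem ext0_of_lt {n : ℕ} (x : Fin n → R) (k : ℕ) (h : k < n) : ext0 R x k = x ⟨k, h⟩ := dif_pos h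

theorem splitForm_apply_range {n : ℕ} (x : Fin n → R) :
    splitForm R n x = (∑ i ∈ Finset.range (n / 2), ext0 R x (2 * i + n % 2) * ext0 R x (2 * i + 1 + n % 2)) +
      if n % 2 = 1 then ext0 R x 0 * ext0 R x 0 else 0 := by
  rw [splitForm, QuadraticMap.add_apply, QuadraticMap.sum_apply,
    Finset.sum_range (fun i => ext0 R x (2 * i + n % 2) * ext0 R x (2 * i + 1 + n % 2))]
  congr 1
  · refine Finset.sum_congr rfl fun i _ => ?_
    rw [QuadraticMap.linMulLin_apply, ext0_of_lt x _ (by omega), ext0_of_lt x _ (by omega)]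
    rfl
  · split_ifs with h
    · rw [QuadraticMap.comp_apply, QuadraticMap.sq_apply, ext0_of_lt x 0 (by omega)]
      rfl
    · rfl

/-- Restriction of a vector to the first `n` coordinates. -/
def res {n : ℕ} (x : Fin (n + 2) → R) : Fin n → R := fun i => x (Fin.castAdd 2 i)

theorem ext0_res {n : ℕ} (x : Fin (n + 2) → R) (k : ℕ) (h : k < n) : ext0 R (res x) k = ext0 R x k := by
  rw [ext0_of_lt _ _ h, ext0_of_lt _ _ (by omega)]; rfl

/-- The recursion for the split form. -/
theorem splitForm_succ_succ {n : ℕ} (x : Fin (n + 2) → R) :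
    splitForm R (n + 2) x = splitForm R n (res x) + x (Fin.natAdd n 0) * x (Fin.natAdd n 1) := by
  rw [splitForm_apply_range, splitForm_apply_range]
  have h1 : (n + 2) / 2 = n / 2 + 1 := by omega
  have h2 : (n + 2) % 2 = n % 2 := by omega
  rw [h1, h2, Finset.sum_range_succ]
  have e1 : ∑ i ∈ Finset.range (n / 2), ext0 R (res x) (2 * i + n % 2) * ext0 R (res x) (2 * i + 1 + n % 2) =
      ∑ i ∈ Finset.range (n / 2), ext0 R x (2 * i + n % 2) * ext0 R x (2 * i + 1 + n % 2) := by
    refine Finset.sum_congr rfl fun i hi => ?_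
    rw [Finset.mem_range] at hi
    rw [ext0_res x _ (by omega), ext0_res x _ (by omega)]
  rw [e1]
  have h3 : 2 * (n / 2) + n % 2 = n := by omega
  have h4 : 2 * (n / 2) + 1 + n % 2 = n + 1 := by omega
  rw [h3, h4, ext0_of_lt x n (by omega), ext0_of_lt x (n + 1) (by omega)]
  have e2 : (if n % 2 = 1 then ext0 R (res x) 0 * ext0 R (res x) 0 else 0) =
      if n % 2 = 1 then ext0 R x 0 * ext0 R x 0 else 0 := by
    split_ifs with h
    · rw [ext0_res x 0 (by omega)]
    · rfl
  rw [e2]
  have f1 : (⟨n, by omega⟩ : Fin (n + 2)) = Fin.natAdd n 0 := by ext; simp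
  have f2 : (⟨n + 1, by omega⟩ : Fin (n + 2)) = Fin.natAdd n 1 := by ext; simp
  rw [f1, f2]
  ring

theorem splitForm_zero (x : Fin 0 → R) : splitForm R 0 x = 0 := by
  rw [splitForm_apply_range]; simp

theorem splitForm_one (x : Fin 1 → R) : splitForm R 1 x = x 0 * x 0 := by
  rw [splitForm_apply_range, if_pos (by norm_num)]
  simp only [Nat.reduceDiv, Finset.range_zero, Finset.sum_empty, zero_add]
  rw [ext0_of_lt x 0 (by omega)]; rfl

theorem res_add {n : ℕ} (x y : Fin (n + 2) → R) : res (x + y) = res x + res y := rfl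

theorem polar_splitForm_succ_succ {n : ℕ} (x y : Fin (n + 2) → R) :
    polar (splitForm R (n + 2)) x y = polar (splitForm R n) (res x) (res y) +
      (x (Fin.natAdd n 0) * y (Fin.natAdd n 1) + x (Fin.natAdd n 1) * y (Fin.natAdd n 0)) := by
  simp only [polar, splitForm_succ_succ, res_add, Pi.add_apply]
  ring

/-- glue a vector in rank `n` and a pair -/
def glue {n : ℕ} (x : Fin n → R) (a b : R) : Fin (n + 2) → R :=
  Fin.addCases x ![a, b]

@[simp] theorem res_glue {n : ℕ} (x : Fin n → R) (a b : R) : res (glue x a b) = x := by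
  funext i; simp [res, glue]

@[simp] theorem glue_zero {n : ℕ} (x : Fin n → R) (a b : R) : glue x a b (Fin.natAdd n 0) = a := by
  simp [glue]

@[simp] theorem glue_one {n : ℕ} (x : Fin n → R) (a b : R) : glue x a b (Fin.natAdd n 1) = b := by
  simp [glue]

theorem glue_eta {n : ℕ} (x : Fin (n + 2) → R) : glue (res x) (x (Fin.natAdd n 0)) (x (Fin.natAdd n 1)) = x := by
  funext i
  refine Fin.addCases (fun i => ?_) (fun i => ?_) i
  · simp [res, glue]
  · fin_cases i <;> simp [glue]

/-- The duality operator of the split form: `polar q (x, T y) = Σ xᵢ yᵢ`, the sum over all indices for even `n` and over the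
non-zero indices for odd `n`. -/
theorem exists_dual (R : Type u) [CommRing R] : ∀ n : ℕ, ∃ T : (Fin n → R) →ₗ[R] (Fin n → R),
    ∀ x y, polar (splitForm R n) x (T y) = (∑ i, x i * y i) - if n % 2 = 1 then ext0 R x 0 * ext0 R y 0 else 0
  | 0 => ⟨0, fun x y => by simp [polar, splitForm_zero]⟩
  | 1 => ⟨0, fun x y => by
      simp only [LinearMap.zero_apply, polar, splitForm_one, Pi.add_apply, Pi.zero_apply, Finset.univ_unique,
        Finset.sum_singleton]
      rw [if_pos (by norm_num), ext0_of_lt x 0 (by omega), ext0_of_lt y 0 (by omega)]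
      simp only [Fin.default_eq_zero, Fin.zero_eta, Fin.isValue]
      ring⟩
  | (n + 2) => by
      obtain ⟨T, hT⟩ := exists_dual R n
      refine ⟨{ toFun := fun y => glue (T (res y)) (y (Fin.natAdd n 1)) (y (Fin.natAdd n 0)),
                map_add' := fun y z => ?_, map_smul' := fun c y => ?_ }, fun x y => ?_⟩
      · rw [res_add, map_add]
        funext i
        refine Fin.addCases (fun i => ?_) (fun i => ?_) i
        · simp [glue]
        · fin_cases i <;> simp [glue]
      · rw [show res (c • y) = c • res y from rfl, map_smul]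
        funext i
        refine Fin.addCases (fun i => ?_) (fun i => ?_) i
        · simp [glue]
        · fin_cases i <;> simp [glue]
      · rw [LinearMap.coe_mk, AddHom.coe_mk, polar_splitForm_succ_succ, res_glue, hT, glue_zero, glue_one,
          Fin.sum_univ_add, Fin.sum_univ_two, Nat.add_mod_right]
        have : (if n % 2 = 1 then ext0 R (res x) 0 * ext0 R (res y) 0 else 0) =
            if n % 2 = 1 then ext0 R x 0 * ext0 R y 0 else 0 := by
          split_ifs with h
          · rw [ext0_res x 0 (by omega), ext0_res y 0 (by omega)]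
          · rfl
        rw [this]
        simp only [res]
        ring

/-- The deformation lemma: every quadratic form is `ε q + polar q (x, h x)`. -/
theorem exists_deform {n : ℕ} (φ : QuadraticForm R (Fin n → R)) :
    ∃ (ε : R) (h : (Fin n → R) →ₗ[R] (Fin n → R)),
      ∀ x, φ x = ε * splitForm R n x + polar (splitForm R n) x (h x) := by
  classical
  obtain ⟨T, hT⟩ := exists_dual R n
  -- a form vanishing on the zeroth basis vector is `polar q (x, T (N x))`
  have key : ∀ ψ : QuadraticForm R (Fin n → R), (n % 2 = 1 → ∀ h : 0 < n, ψ (Pi.single ⟨0, h⟩ 1) = 0) →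
      ∃ h : (Fin n → R) →ₗ[R] (Fin n → R), ∀ x, ψ x = polar (splitForm R n) x (h x) := by
    intro ψ hψ
    let N : (Fin n → R) →ₗ[R] (Fin n → R) := LinearMap.pi fun j =>
      ∑ i : Fin n, (if i ≤ j then coeffs (Pi.basisFun R (Fin n)) (LinearEquiv.refl R R) ψ (Sym2.mk i j) else 0) •
        LinearMap.proj (R := R) (φ := fun _ : Fin n => R) i
    refine ⟨T ∘ₗ N, fun x => ?_⟩
    rw [LinearMap.comp_apply, hT]
    have hx : x = ∑ i, x i • (Pi.basisFun R (Fin n)) i := by
      funext j; simp [Pi.basisFun_apply, Finset.sum_apply, Pi.single_apply]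
    have hexp := Base.apply_sum (Pi.basisFun R (Fin n)) ψ x
    rw [← hx] at hexp
    rw [hexp, Finset.sum_comm]
    have hN : ∀ j, N x j = ∑ i : Fin n,
        (if i ≤ j then coeffs (Pi.basisFun R (Fin n)) (LinearEquiv.refl R R) ψ (Sym2.mk i j) else 0) * x i := by
      intro j
      simp only [N, LinearMap.pi_apply, LinearMap.sum_apply, LinearMap.smul_apply, LinearMap.proj_apply, smul_eq_mul]
    have hz : (if n % 2 = 1 then ext0 R x 0 * ext0 R (N x) 0 else 0) = 0 := by
      split_ifs with h
      · rw [ext0_of_lt (N x) 0 (by omega), hN, Finset.sum_eq_zero, mul_zero]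
        intro i _
        by_cases hi : i ≤ (⟨0, by omega⟩ : Fin n)
        · have hi0 : i = ⟨0, by omega⟩ := le_antisymm hi (by simp [Fin.le_def])
          rw [if_pos hi, hi0, coeffs_mk, if_pos rfl, Pi.basisFun_apply, hψ h (by omega), map_zero, zero_mul]
        · rw [if_neg hi, zero_mul]
      · rfl
    rw [hz, sub_zero]
    refine Finset.sum_congr rfl fun j _ => ?_
    rw [hN, Finset.mul_sum]
    refine Finset.sum_congr rfl fun i _ => ?_
    split_ifs <;> ring
  by_cases hn : n % 2 = 1
  · have h0 : 0 < n := by omega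
    have hq : splitForm R n (Pi.single ⟨0, h0⟩ 1) = 1 := by
      rw [splitForm_apply_range, if_pos hn, ext0_of_lt _ 0 h0, Pi.single_eq_same, mul_one,
        Finset.sum_eq_zero, zero_add]
      intro i hi
      rw [Finset.mem_range] at hi
      rw [ext0_of_lt _ (2 * i + 1 + n % 2) (by omega), Pi.single_eq_of_ne, mul_zero]
      rw [Ne, Fin.mk.injEq]; omega
    obtain ⟨h, hh⟩ := key (φ - φ (Pi.single ⟨0, h0⟩ 1) • splitForm R n) (fun _ _ => by
      rw [QuadraticMap.sub_apply, QuadraticMap.smul_apply, hq, smul_eq_mul, mul_one, sub_self])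
    refine ⟨φ (Pi.single ⟨0, h0⟩ 1), h, fun x => ?_⟩
    rw [← hh, QuadraticMap.sub_apply, QuadraticMap.smul_apply, smul_eq_mul]
    ring
  · obtain ⟨h, hh⟩ := key φ (fun h => absurd h hn)
    exact ⟨0, h, fun x => by rw [← hh, zero_mul, zero_add]⟩

end K917.Split
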