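import Groth.Agent.QuadGrp.K917.OAlg
import Mathlib.LinearAlgebra.Matrix.Charpoly.Coeff
import Mathlib.Data.Sym.Card

/-!
# The dimension of the tangent spaces of `O(q)` and `SO'(q)`
-/

set_option autoImplicit false
set_option maxHeartbeats 400000
set_option linter.deprecated false
set_option linter.unusedSectionVars false

universe u v

open QuadGrp QuadraticMap TensorProduct

namespace K917.TanDim

open K917.Coef K917.Deform K917.Cover K917.Reg K917.OAlg

section Eps

variable {E : Type u} [CommRing E] {n : ℕ} {ε : E} (hε : ε * ε = 0)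

include hε in
theorem pull_one_add (a : Sym2 (Fin n) → E) (H : Matrix (Fin n) (Fin n) E) :
    pull a (1 + ε • H) = a + ε • tw a H := by
  rw [qf_ext_iff]
  intro x
  rw [qf_pull, Matrix.add_mulVec, Matrix.one_mulVec, Matrix.smul_mulVec, qf_add_vec, QuadraticMap.map_smul, hε, zero_smul,
    add_zero, polar_smul_right, qf_add, QuadraticMap.add_apply, qf_smul, QuadraticMap.smul_apply, qf_tw]

include hε in
theorem det_one_add (H : Matrix (Fin n) (Fin n) E) : (1 + ε • H).det = 1 + ε * H.trace := by
  rw [Matrix.det_one_add_smul, pow_two, hε, mul_zero, add_zero, mul_comm]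

include hε in
theorem one_add_pow (e : E) (k : ℕ) : (1 + ε * e) ^ k = 1 + ε * (k * e) := by
  induction k with
  | zero => simp
  | succ k ih =>
    rw [pow_succ, ih]
    push_cast
    linear_combination (e * (k * e)) * hε

include hε in
theorem hd_relation {m : ℕ} (a : Sym2 (Fin (2 * m + 1)) → E) (ha : IsUnit (hd a)) (e : E)
    (H : Matrix (Fin (2 * m + 1)) (Fin (2 * m + 1)) E) (h : e • a + tw a H = 0) :
    ε * ((2 * m + 1 : ℕ) * e + 2 * H.trace) = 0 := by
  have hodd : Odd (2 * m + 1) := ⟨m, rfl⟩
  have h1 : (1 + ε * e) • pull a (1 + ε • H) = a := by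
    rw [pull_one_add hε, add_smul, one_smul, smul_add]
    have h2 : tw a H = -(e • a) := eq_neg_of_add_eq_zero_right h
    rw [h2, smul_smul (ε * e) ε, show ε * e * ε = 0 by linear_combination e * hε, zero_smul, add_zero, smul_neg,
      smul_smul]
    abel
  have h3 := congrArg hd h1
  rw [hd_smul hodd, hd_pull hodd, one_add_pow hε, det_one_add hε, one_add_pow hε, ← mul_assoc] at h3
  have h4 := ha.mul_right_cancel (h3.trans (one_mul _).symm)
  push_cast at h4 ⊢
  linear_combination h4 - ((2 * m + 1) * e * (2 * H.trace)) * hε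

end Eps

section Dim

variable {K : Type u} [Field K] {n : ℕ}

/-- the twisting map as a linear map -/
noncomputable def twL (a : Sym2 (Fin n) → K) : Matrix (Fin n) (Fin n) K →ₗ[K] (Sym2 (Fin n) → K) where
  toFun := tw a
  map_add' := tw_add a
  map_smul' c H := tw_smul c a H

theorem card_sym2 (n : ℕ) : 2 * Fintype.card (Sym2 (Fin n)) = (n + 1) * n := by
  rw [Sym2.card, Fintype.card_fin, Nat.choose_two_right, Nat.add_sub_cancel]
  exact Nat.mul_div_cancel' (Nat.even_mul_pred_self (n + 1)).two_dvd

theorem finrank_ker_twL (a : Sym2 (Fin n) → K) (ha : RegProp a) :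
    Module.finrank K (LinearMap.ker (twL a)) + Fintype.card (Sym2 (Fin n)) = n * n := by
  have h1 := (twL a).finrank_range_add_finrank_ker
  have h2 : LinearMap.range (twL a) = ⊤ := by
    rw [LinearMap.range_eq_top]
    intro b
    obtain ⟨H, hH⟩ := ha b
    exact ⟨H, hH.symm⟩
  rw [h2, finrank_top, Module.finrank_fintype_fun_eq_card, Module.finrank_matrix, Module.finrank_self,
    Fintype.card_fin] at h1
  rw [add_comm, h1, mul_one]

/-- the map `(e, H) ↦ e a + tw a H` -/
noncomputable def twL' (a : Sym2 (Fin n) → K) : (K × Matrix (Fin n) (Fin n) K) →ₗ[K] (Sym2 (Fin n) → K) :=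
  (LinearMap.toSpanSingleton K _ a).coprod (twL a)

theorem twL'_apply (a : Sym2 (Fin n) → K) (p : K × Matrix (Fin n) (Fin n) K) : twL' a p = p.1 • a + tw a p.2 := rfl

theorem finrank_ker_twL' (a : Sym2 (Fin n) → K) (ha : DefProp a) :
    Module.finrank K (LinearMap.ker (twL' a)) + Fintype.card (Sym2 (Fin n)) = n * n + 1 := by
  have h1 := (twL' a).finrank_range_add_finrank_ker
  have h2 : LinearMap.range (twL' a) = ⊤ := by
    rw [LinearMap.range_eq_top]
    intro b
    obtain ⟨e, H, hH⟩ := ha b
    exact ⟨(e, H), hH.symm⟩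
  rw [h2, finrank_top, Module.finrank_fintype_fun_eq_card, Module.finrank_prod, Module.finrank_matrix,
    Module.finrank_self, Fintype.card_fin] at h1
  rw [add_comm, h1, mul_one, add_comm]

/-- the tangent space of `SO'` at the identity -/
noncomputable def soTan (a : Sym2 (Fin n) → K) : Submodule K (Matrix (Fin n) (Fin n) K) :=
  LinearMap.ker (twL a) ⊓ LinearMap.ker (Matrix.traceLinearMap (Fin n) K K)

theorem rel_of_mem {m : ℕ} (a : Sym2 (Fin (2 * m + 1)) → K) (ha : hd a ≠ 0)
    {p : K × Matrix (Fin (2 * m + 1)) (Fin (2 * m + 1)) K} (hp : p ∈ LinearMap.ker (twL' a)) :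
    (2 * m + 1 : ℕ) * p.1 + 2 * p.2.trace = 0 := by
  let φ : K →+* DualNumber K := TrivSqZeroExt.inlHom K K
  have hφhd : IsUnit (hd (φ ∘ a)) := by
    have h1 : hd (φ ∘ a) = φ (hd a) := by rw [hd_eq, hd_eq, K918.HalfDisc.hd_map]; rfl
    rw [h1]; exact (isUnit_iff_ne_zero.2 ha).map φ
  rw [LinearMap.mem_ker, twL'_apply] at hp
  have h := hd_relation (ε := (DualNumber.eps : DualNumber K)) DualNumber.eps_mul_eps (φ ∘ a) hφhd (φ p.1)
    (p.2.map φ) (by
      rw [← map_tw, ← map_smul_fun, ← map_add_fun, hp]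
      funext s
      exact map_zero φ)
  have h2 : ((2 * m + 1 : ℕ) : DualNumber K) * φ p.1 + 2 * (p.2.map φ).trace =
      φ ((2 * m + 1 : ℕ) * p.1 + 2 * p.2.trace) := by
    rw [map_add, map_mul, map_mul, map_natCast, map_ofNat]
    congr 2
    rw [Matrix.trace, Matrix.trace, map_sum]
    rfl
  rw [h2] at h
  have h3 := congrArg TrivSqZeroExt.snd h
  rw [TrivSqZeroExt.snd_mul, DualNumber.fst_eps, DualNumber.snd_eps, zero_smul, zero_add] at h3
  simpa [φ] using h3

theorem finrank_soTan {m : ℕ} (a : Sym2 (Fin (2 * m + 1)) → K) (ha : DefProp a) (hhd : hd a ≠ 0) :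
    Module.finrank K (soTan a) + Fintype.card (Sym2 (Fin (2 * m + 1))) = (2 * m + 1) * (2 * m + 1) := by
  -- the functional `tr H + m e` on the kernel of `twL'`
  let lam : LinearMap.ker (twL' a) →ₗ[K] K :=
    ((Matrix.traceLinearMap (Fin (2 * m + 1)) K K) ∘ₗ LinearMap.snd K K _ + (m : K) • LinearMap.fst K K _) ∘ₗ
      (LinearMap.ker (twL' a)).subtype
  have hlam : ∀ p : LinearMap.ker (twL' a), lam p = p.1.2.trace + m * p.1.1 := fun p => rfl
  have hmem : ((-2 : K), (1 : Matrix (Fin (2 * m + 1)) (Fin (2 * m + 1)) K)) ∈ LinearMap.ker (twL' a) := by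
    rw [LinearMap.mem_ker, twL'_apply, qf_ext_iff]
    intro x
    rw [qf_add, QuadraticMap.add_apply, qf_smul, QuadraticMap.smul_apply, qf_tw, Matrix.one_mulVec, polar_self, qf_zero,
      QuadraticMap.zero_apply, smul_eq_mul, two_smul]
    ring
  have hsurj : LinearMap.range lam = ⊤ := by
    rw [LinearMap.range_eq_top]
    intro c
    refine ⟨c • ⟨_, hmem⟩, ?_⟩
    rw [map_smul, hlam, smul_eq_mul]
    rw [Matrix.trace_one, Fintype.card_fin]
    push_cast
    ring
  have h1 := lam.finrank_range_add_finrank_ker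
  rw [hsurj, finrank_top, Module.finrank_self] at h1
  have h2 := finrank_ker_twL' a ha
  -- the kernel of `lam` is `soTan`
  have h3 : Module.finrank K (LinearMap.ker lam) = Module.finrank K (soTan a) := by
    have key : ∀ p : LinearMap.ker (twL' a), lam p = 0 → p.1.1 = 0 := by
      intro p hp
      have h4 := rel_of_mem a hhd p.2
      rw [hlam] at hp
      push_cast at h4
      linear_combination h4 - 2 * hp
    let f : LinearMap.ker lam →ₗ[K] soTan a :=
      ((LinearMap.snd K K _) ∘ₗ (LinearMap.ker (twL' a)).subtype ∘ₗ (LinearMap.ker lam).subtype).codRestrict (soTan a)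
        (fun p => by
          have e1 : p.1.1.1 = 0 := key p.1 p.2
          have e2 : twL' a p.1.1 = 0 := p.1.2
          rw [twL'_apply, e1, zero_smul, zero_add] at e2
          refine ⟨e2, ?_⟩
          have e3 : lam p.1 = 0 := p.2
          rw [hlam, e1, mul_zero, add_zero] at e3
          exact e3)
    have hf : Function.Bijective f := by
      constructor
      · intro p q hpq
        apply Subtype.ext
        apply Subtype.ext
        refine Prod.ext ?_ (congrArg Subtype.val hpq)
        rw [key p.1 p.2, key q.1 q.2]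
      · rintro ⟨H, h5, h6⟩
        have h7 : ((0 : K), H) ∈ LinearMap.ker (twL' a) := by
          rw [LinearMap.mem_ker, twL'_apply, zero_smul, zero_add]
          exact h5
        have h8 : (⟨_, h7⟩ : LinearMap.ker (twL' a)) ∈ LinearMap.ker lam := by
          rw [LinearMap.mem_ker, hlam]
          have : H.trace = 0 := h6
          rw [this, mul_zero, add_zero]
        exact ⟨⟨_, h8⟩, rfl⟩
    exact (LinearEquiv.ofBijective f hf).finrank_eq
  omega

end Dim

section Fiber

variable {R : Type u} [CommRing R] {n : ℕ} {ι : Type v} (f : ι → MvPolynomial (Fin n × Fin n) R)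
variable {K : Type u} [Field K] [Algebra R K] [Algebra (PolySys.Alg f) K] [IsScalarTower R (PolySys.Alg f) K]

/-- the matrix of the point -/
noncomputable def pMat : Matrix (Fin n) (Fin n) K := (uMat f).map (algebraMap (PolySys.Alg f) K)

/-- translation to the identity -/
noncomputable def transl (X : Matrix (Fin n) (Fin n) K) : ((Fin n × Fin n) → K) →ₗ[K] Matrix (Fin n) (Fin n) K where
  toFun T := X⁻¹ * mOf T
  map_add' T T' := by
    rw [← Matrix.mul_add]; rfl
  map_smul' c T := by
    rw [RingHom.id_apply, ← Matrix.mul_smul]; rfl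

theorem transl_bijective {X : Matrix (Fin n) (Fin n) K} (hX : IsUnit X.det) : Function.Bijective (transl X) := by
  constructor
  · intro T T' h
    have h1 : X * (X⁻¹ * mOf T) = X * (X⁻¹ * mOf T') := congrArg (fun Y => X * Y) h
    rw [← Matrix.mul_assoc, ← Matrix.mul_assoc, Matrix.mul_nonsing_inv _ hX, Matrix.one_mul, Matrix.one_mul] at h1
    funext p
    exact congrFun (congrFun h1 p.1) p.2
  · intro H
    refine ⟨fun p => (X * H) p.1 p.2, ?_⟩
    change X⁻¹ * (X * H) = H
    rw [← Matrix.mul_assoc, Matrix.nonsing_inv_mul _ hX, Matrix.one_mul]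

theorem finrank_comap_transl {X : Matrix (Fin n) (Fin n) K} (hX : IsUnit X.det)
    (W : Submodule K (Matrix (Fin n) (Fin n) K)) :
    Module.finrank K (W.comap (transl X)) = Module.finrank K W := by
  have h := (LinearEquiv.ofBijective (transl X) (transl_bijective hX)).submoduleMap (W.comap (transl X))
  rw [h.finrank_eq]
  have : (W.comap (transl X)).map ((LinearEquiv.ofBijective (transl X) (transl_bijective hX)) : _ →ₗ[K] _) = W := by
    change (W.comap (transl X)).map (transl X) = W
    exact Submodule.map_comap_eq_of_surjective (transl_bijective hX).2 W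
  rw [this]

theorem mOf_epsPt (T : (Fin n × Fin n) → K) {X : Matrix (Fin n) (Fin n) K}
    (hX : pMat f = X) (hu : IsUnit X.det) :
    mOf (PolySys.epsPt f T) = X.map (TrivSqZeroExt.inlHom K K) *
      (1 + (DualNumber.eps : DualNumber K) • (transl X T).map (TrivSqZeroExt.inlHom K K)) := by
  have h1 : X.map (TrivSqZeroExt.inlHom K K) * (transl X T).map (TrivSqZeroExt.inlHom K K) =
      (mOf T).map (TrivSqZeroExt.inlHom K K) := by
    rw [← Matrix.map_mul]
    have h0 : X * transl X T = mOf T := by
      change X * (X⁻¹ * mOf T) = mOf T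
      rw [← Matrix.mul_assoc, Matrix.mul_nonsing_inv _ hu, Matrix.one_mul]
    rw [h0]
  rw [Matrix.mul_add, Matrix.mul_one, Matrix.mul_smul, h1]
  ext i j : 1
  rw [Matrix.add_apply, Matrix.smul_apply, Matrix.map_apply, Matrix.map_apply, ← hX]
  change TrivSqZeroExt.inl (algebraMap (PolySys.Alg f) K (PolySys.pt f (i, j))) + TrivSqZeroExt.inr (T (i, j)) =
    TrivSqZeroExt.inl (algebraMap (PolySys.Alg f) K (PolySys.pt f (i, j))) +
      (DualNumber.eps : DualNumber K) • TrivSqZeroExt.inl (T (i, j))
  congr 1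
  rw [smul_eq_mul, DualNumber.inr_eq_smul_eps, mul_comm]
  exact (TrivSqZeroExt.inl_mul_eq_smul _ _).symm

/-- The equation of isometries at a tangent vector. -/
theorem pull_epsPt_iff (a : Sym2 (Fin n) → R) (T : (Fin n × Fin n) → K) {X : Matrix (Fin n) (Fin n) K}
    (hX : pMat f = X) (hu : IsUnit X.det) (hp : pull (algebraMap R K ∘ a) X = algebraMap R K ∘ a) :
    pull (algebraMap R (DualNumber K) ∘ a) (mOf (PolySys.epsPt f T)) = algebraMap R (DualNumber K) ∘ a ↔
      transl X T ∈ LinearMap.ker (twL (algebraMap R K ∘ a)) := by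
  let φ : K →+* DualNumber K := TrivSqZeroExt.inlHom K K
  have hφ : algebraMap R (DualNumber K) ∘ a = φ ∘ (algebraMap R K ∘ a) := by
    funext s; rfl
  rw [mOf_epsPt f T hX hu, hφ, pull_mul, ← map_pull, hp, pull_one_add DualNumber.eps_mul_eps, add_eq_left]
  change (DualNumber.eps : DualNumber K) • tw (φ ∘ algebraMap R K ∘ a) ((transl X T).map φ) = 0 ↔ _
  rw [← map_tw, LinearMap.mem_ker]
  constructor
  · intro h
    funext s
    have h1 := congrArg TrivSqZeroExt.snd (congrFun h s)
    change TrivSqZeroExt.snd ((DualNumber.eps : DualNumber K) * φ (tw (algebraMap R K ∘ a) (transl X T) s)) = _ at h1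
    rw [TrivSqZeroExt.snd_mul, DualNumber.fst_eps, DualNumber.snd_eps, zero_smul, zero_add] at h1
    change _ = (0 : K) at h1
    change tw (algebraMap R K ∘ a) (transl X T) s = 0
    simpa [φ] using h1
  · intro h
    have h1 : tw (algebraMap R K ∘ a) (transl X T) = 0 := h
    rw [h1]
    funext s
    change (DualNumber.eps : DualNumber K) * φ 0 = 0
    rw [map_zero, mul_zero]

theorem det_epsPt_iff (T : (Fin n × Fin n) → K) {X : Matrix (Fin n) (Fin n) K}
    (hX : pMat f = X) (hu : X.det = 1) :
    (mOf (PolySys.epsPt f T)).det = 1 ↔ transl X T ∈ LinearMap.ker (Matrix.traceLinearMap (Fin n) K K) := by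
  have hu' : IsUnit X.det := by rw [hu]; exact isUnit_one
  rw [mOf_epsPt f T hX hu', Matrix.det_mul, ← RingHom.mapMatrix_apply, ← RingHom.map_det, hu, map_one, one_mul,
    det_one_add DualNumber.eps_mul_eps, add_eq_left, LinearMap.mem_ker, Matrix.traceLinearMap_apply]
  have h2 : ((transl X T).map (TrivSqZeroExt.inlHom K K)).trace = TrivSqZeroExt.inlHom K K (transl X T).trace := by
    rw [Matrix.trace, Matrix.trace, map_sum]; rfl
  rw [h2]
  constructor
  · intro h
    have h1 := congrArg TrivSqZeroExt.snd h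
    rw [TrivSqZeroExt.snd_mul, DualNumber.fst_eps, DualNumber.snd_eps, zero_smul, zero_add] at h1
    simpa using h1
  · intro h
    rw [h, map_zero, mul_zero]

end Fiber

section Main

variable {R : Type u} [CommRing R] {n : ℕ}

theorem finrank_o (a : Sym2 (Fin n) → R) (ha : RegProp a) (hu : IsUnit (pmat a).det)
    (K : Type u) [Field K] [Algebra R K] [Algebra (PolySys.Alg (oEq a)) K] [IsScalarTower R (PolySys.Alg (oEq a)) K] :
    Module.finrank K (K ⊗[PolySys.Alg (oEq a)] Ω[PolySys.Alg (oEq a)⁄R]) + Fintype.card (Sym2 (Fin n)) = n * n := by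
  set X : Matrix (Fin n) (Fin n) K := pMat (oEq a) with hX
  have hp : pull (algebraMap R K ∘ a) X = algebraMap R K ∘ a :=
    hom_o a (IsScalarTower.toAlgHom R (PolySys.Alg (oEq a)) K)
  have hpm : IsUnit (pmat (algebraMap R K ∘ a)).det := by
    have h1 : pmat (algebraMap R K ∘ a) = (pmat a).map (algebraMap R K) := by
      ext i j
      have hs : ∀ i : Fin n, algebraMap R K ∘ (Pi.single i 1 : Fin n → R) = Pi.single i 1 := fun i => by
        funext j
        rw [Function.comp_apply, Pi.single_apply, Pi.single_apply]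
        split_ifs <;> simp
      rw [Matrix.map_apply, pmat, pmat, Matrix.of_apply, Matrix.of_apply, map_polar, hs, hs]
    rw [h1, ← RingHom.mapMatrix_apply, ← RingHom.map_det]
    exact hu.map _
  have hdet : IsUnit X.det := by
    have := det_sq_of_disc _ hpm X hp
    exact IsUnit.of_mul_eq_one _ this
  rw [PolySys.finrank_fiber_kaehler (oEq a) ((LinearMap.ker (twL (algebraMap R K ∘ a))).comap (transl X)) (fun T => by
    rw [oEq_iff, pull_epsPt_iff (oEq a) a T hX.symm hdet hp]; rfl)]
  rw [finrank_comap_transl hdet]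
  exact finrank_ker_twL _ (RegProp.map (algebraMap R K) ha)

theorem finrank_so {m : ℕ} (a : Sym2 (Fin (2 * m + 1)) → R) (ha : DefProp a) (hu : IsUnit (hd a))
    (K : Type u) [Field K] [Algebra R K] [Algebra (PolySys.Alg (soEq a)) K] [IsScalarTower R (PolySys.Alg (soEq a)) K] :
    Module.finrank K (K ⊗[PolySys.Alg (soEq a)] Ω[PolySys.Alg (soEq a)⁄R]) + Fintype.card (Sym2 (Fin (2 * m + 1))) =
      (2 * m + 1) * (2 * m + 1) := by
  set X : Matrix (Fin (2 * m + 1)) (Fin (2 * m + 1)) K := pMat (soEq a) with hX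
  obtain ⟨hp, hd1⟩ := hom_so a (IsScalarTower.toAlgHom R (PolySys.Alg (soEq a)) K)
  have hp : pull (algebraMap R K ∘ a) X = algebraMap R K ∘ a := hp
  have hd1 : X.det = 1 := hd1
  have hdet : IsUnit X.det := by rw [hd1]; exact isUnit_one
  have hhd : hd (algebraMap R K ∘ a) ≠ 0 := by
    have h1 : hd (algebraMap R K ∘ a) = algebraMap R K (hd a) := by
      rw [hd_eq, hd_eq, K918.HalfDisc.hd_map]; rfl
    rw [h1]; exact (hu.map _).ne_zero
  rw [PolySys.finrank_fiber_kaehler (soEq a) ((soTan (algebraMap R K ∘ a)).comap (transl X)) (fun T => by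
    rw [soEq_iff, pull_epsPt_iff (soEq a) a T hX.symm hdet hp, det_epsPt_iff (soEq a) T hX.symm hd1]; rfl)]
  rw [finrank_comap_transl hdet]
  exact finrank_soTan _ (DefProp.map (algebraMap R K) ha) hhd

end Main

end K917.TanDim
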